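import Cfsg.Agent.FiLarge.Chz.Defs

/-!
Unitary matrices commuting with a dihedral group of order eight of permutations, and the words excluding
all but the coded involution.
-/

set_option autoImplicit false
set_option maxRecDepth 1000000
set_option maxHeartbeats 4000000

namespace CfsgLib.FiLarge.Chz

open CfsgLib CfsgLib.FiLarge Eleven

/-- The maps of the dihedral group. -/
def tau8f : Fin 8 → (Fin 6 → Fin 6) × (Fin 6 → Fin 6) :=
  ![(![0, 1, 2, 3, 4, 5], ![0, 1, 2, 3, 4, 5]), (![1, 0, 3, 2, 4, 5], ![1, 0, 3, 2, 4, 5]),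
    (![2, 1, 0, 3, 5, 4], ![2, 1, 0, 3, 5, 4]), (![3, 0, 1, 2, 5, 4], ![1, 2, 3, 0, 5, 4]),
    (![1, 2, 3, 0, 5, 4], ![3, 0, 1, 2, 5, 4]), (![0, 3, 2, 1, 5, 4], ![0, 3, 2, 1, 5, 4]),
    (![3, 2, 1, 0, 4, 5], ![3, 2, 1, 0, 4, 5]), (![2, 3, 0, 1, 4, 5], ![2, 3, 0, 1, 4, 5])]

theorem tau8f_inv : ∀ k i, (tau8f k).1 ((tau8f k).2 i) = i ∧ (tau8f k).2 ((tau8f k).1 i) = i := by
  decide +kernel

/-- The permutations of the dihedral group. -/
def tau8 (k : Fin 8) : Equiv.Perm (Fin 6) :=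
  mkPerm (tau8f k).1 (tau8f k).2 (fun i => (tau8f_inv k i).1) fun i => (tau8f_inv k i).2

theorem tau8_sign : ∀ k, Equiv.Perm.sign (tau8 k) = 1 := by decide +kernel

theorem tau8_closed : ∀ i j : Fin 8, ∃ k, tau8 j * tau8 i = tau8 k := by decide +kernel

theorem tau8_zero : tau8 0 = 1 := by decide +kernel

theorem tau8_inv : ∀ i : Fin 8, ∃ k, (tau8 i)⁻¹ = tau8 k := by decide +kernel

theorem tau8_injective : Function.Injective tau8 := by
  have : ∀ i j, tau8 i = tau8 j → i = j := by decide +kernel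
  exact this

/-- The images of the two generators are conjugate to them, or the first falls into the class of the second. -/
theorem aut_cases : ∀ i j : Fin 8, tau8 i * tau8 i = 1 → tau8 j * tau8 j = 1 →
    tau8 j * tau8 i * (tau8 j * tau8 i) ≠ 1 →
      (∃ k : Fin 8, tau8 k * tau8 i * (tau8 k)⁻¹ = tau8 1 ∧ tau8 k * tau8 j * (tau8 k)⁻¹ = tau8 2) ∨
        ((i = 2 ∨ i = 5) ∧ tau8 j * tau8 i * (tau8 j * tau8 i) = tau8 7) := by
  decide +kernel

theorem base_cases : tau8 1 * tau8 1 = 1 ∧ tau8 2 * tau8 2 = 1 ∧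
    tau8 2 * tau8 1 * (tau8 2 * tau8 1) = tau8 7 ∧ tau8 7 ≠ 1 := by decide +kernel

theorem outer_pairs : ∀ i : Fin 8, i = 2 ∨ i = 5 → ∀ k : Fin 6,
    (k = tau8 i k ∧ tau8 7 k = tau8 7 (tau8 i k)) ∨ (k = tau8 7 k ∧ tau8 i k = tau8 7 (tau8 i k)) ∨
      (k = tau8 7 (tau8 i k) ∧ tau8 i k = tau8 7 k) := by
  decide +kernel

theorem outer_zero (i : Fin 8) (hi : i = 2 ∨ i = 5) (b : V6) (k : Fin 6) :
    b k + b (tau8 i k) + (b (tau8 7 k) + b (tau8 7 (tau8 i k))) = 0 := by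
  have h0 : ∀ x : F4, x + x = 0 := f4_add_self
  rcases outer_pairs i hi k with ⟨e1, e2⟩ | ⟨e1, e2⟩ | ⟨e1, e2⟩
  · rw [← e1, h0, h0, add_zero]
  · rw [← e1, ← e2, h0]
  · rw [← e1, ← e2, add_comm (b (tau8 i k)), h0]

theorem inner_ne : (Pi.single 0 1 : V6) 3 + (Pi.single 0 1 : V6) (tau8 1 3) +
    ((Pi.single 0 1 : V6) (tau8 7 3) + (Pi.single 0 1 : V6) (tau8 7 (tau8 1 3))) ≠ 0 := by
  decide +kernel

/-- The matrices constant on the orbitals. -/
def mat7 (a b c d e g h : F4) : Fin 6 → Fin 6 → F4 :=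
  ![![a, b, c, b, d, d], ![b, a, b, c, d, d], ![c, b, a, b, d, d], ![b, c, b, a, d, d],
    ![e, e, e, e, g, h], ![e, e, e, e, h, g]]

theorem diag_pair : ∀ a c : F4, a + c = 1 →
    a * (a * a) + c * (c * c) = 1 → c = a + 1 ∧ a * a = a := by decide +kernel

theorem off_pair : ∀ a b : F4, a * a = a →
    a * (b * b) + b * (a * a) + ((a + 1) * (b * b) + b * ((a + 1) * (a + 1))) = 0 → b * b = b := by
  decide +kernel

theorem block_pair : ∀ a d e g : F4, a * a = a → g * g = g →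
    a * (d * d) + (a + 1) * (d * d) + (e * (g * g) + e * ((g + 1) * (g + 1))) = 0 → e = d * d := by
  decide +kernel

/-- The code of a coordinate permutation. -/
def pcd (k : Fin 8) : List ℕ := encMap fun a i => a (tau8 k i)

/-- The word generators. -/
def wgen (M : List ℕ) : Fin 4 → List ℕ :=
  ![encMap fun a i => a (![1, 2, 0, 3, 4, 5] i), encMap fun a i => a (![0, 2, 3, 4, 5, 1] i),
    encMap (dmul ![0, 1, 0, 1, 2, 2]), M]

/-- The code of a word. -/
noncomputable def wordC (M : List ℕ) : List (Fin 4) → List ℕ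
  | [] => idc
  | k :: ks => Eleven.mul (wgen M k) (wordC M ks)

/-- Words and exponents. -/
def certs : List (List (Fin 4) × ℕ) :=
  [([3], 1), ([2, 3], 3), ([0, 2, 3], 9), ([0, 1, 2, 3], 9), ([0, 3, 2, 1, 2], 9)]

/-- Odd permutations. -/
def oddT : List (Equiv.Perm (Fin 6)) :=
  [Equiv.swap 0 2 * Equiv.swap 1 3 * Equiv.swap 4 5, Equiv.swap 4 5, Equiv.swap 0 2, Equiv.swap 2 3]

theorem oddT_sign : ∀ τ ∈ oddT, Equiv.Perm.sign τ ≠ 1 := by decide +kernel

/-- The codes of the candidates. -/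
def candT : List (List ℕ) := [
  [16, 32, 64, 128, 1, 2, 4, 8, 1024, 2048, 256, 512],
  [1, 2, 4, 8, 16, 32, 64, 128, 1024, 2048, 256, 512],
  [84, 168, 81, 162, 69, 138, 21, 42, 1024, 2048, 256, 512],
  [69, 138, 21, 42, 84, 168, 81, 162, 1024, 2048, 256, 512],
  [1296, 2592, 1344, 2688, 1281, 2562, 1284, 2568, 1109, 2218, 341, 682],
  [1281, 2562, 1284, 2568, 1296, 2592, 1344, 2688, 1109, 2218, 341, 682],
  [1364, 2728, 1361, 2722, 1349, 2698, 1301, 2602, 1109, 2218, 341, 682],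
  [1349, 2698, 1301, 2602, 1364, 2728, 1361, 2722, 1109, 2218, 341, 682],
  [3856, 1312, 3904, 1408, 3841, 1282, 3844, 1288, 1194, 2303, 426, 767],
  [3841, 1282, 3844, 1288, 3856, 1312, 3904, 1408, 1194, 2303, 426, 767],
  [3924, 1448, 3921, 1442, 3909, 1418, 3861, 1322, 1194, 2303, 426, 767],
  [3909, 1418, 3861, 1322, 3924, 1448, 3921, 1442, 1194, 2303, 426, 767],
  [2576, 3872, 2624, 3968, 2561, 3842, 2564, 3848, 1279, 2133, 511, 597],
  [2561, 3842, 2564, 3848, 2576, 3872, 2624, 3968, 1279, 2133, 511, 597],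
  [2644, 4008, 2641, 4002, 2629, 3978, 2581, 3882, 1279, 2133, 511, 597],
  [2629, 3978, 2581, 3882, 2644, 4008, 2641, 4002, 1279, 2133, 511, 597],
  [16, 32, 64, 128, 1, 2, 4, 8, 256, 512, 1024, 2048],
  [1, 2, 4, 8, 16, 32, 64, 128, 256, 512, 1024, 2048],
  [84, 168, 81, 162, 69, 138, 21, 42, 256, 512, 1024, 2048],
  [69, 138, 21, 42, 84, 168, 81, 162, 256, 512, 1024, 2048],
  [1296, 2592, 1344, 2688, 1281, 2562, 1284, 2568, 341, 682, 1109, 2218],
  [1281, 2562, 1284, 2568, 1296, 2592, 1344, 2688, 341, 682, 1109, 2218],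
  [1364, 2728, 1361, 2722, 1349, 2698, 1301, 2602, 341, 682, 1109, 2218],
  [1349, 2698, 1301, 2602, 1364, 2728, 1361, 2722, 341, 682, 1109, 2218],
  [3856, 1312, 3904, 1408, 3841, 1282, 3844, 1288, 426, 767, 1194, 2303],
  [3841, 1282, 3844, 1288, 3856, 1312, 3904, 1408, 426, 767, 1194, 2303],
  [3924, 1448, 3921, 1442, 3909, 1418, 3861, 1322, 426, 767, 1194, 2303],
  [3909, 1418, 3861, 1322, 3924, 1448, 3921, 1442, 426, 767, 1194, 2303],
  [2576, 3872, 2624, 3968, 2561, 3842, 2564, 3848, 511, 597, 1279, 2133],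
  [2561, 3842, 2564, 3848, 2576, 3872, 2624, 3968, 511, 597, 1279, 2133],
  [2644, 4008, 2641, 4002, 2629, 3978, 2581, 3882, 511, 597, 1279, 2133],
  [2629, 3978, 2581, 3882, 2644, 4008, 2641, 4002, 511, 597, 1279, 2133]]

/-- Certificates: word, odd permutation, value of the word. -/
def certT : List (ℕ × ℕ × List ℕ) := [
  (0, 0, [16, 32, 64, 128, 1, 2, 4, 8, 1024, 2048, 256, 512]),
  (0, 1, [1, 2, 4, 8, 16, 32, 64, 128, 1024, 2048, 256, 512]),
  (1, 0, [152, 236, 145, 226, 137, 206, 25, 46, 3072, 1024, 768, 256]),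
  (1, 1, [137, 206, 25, 46, 152, 236, 145, 226, 3072, 1024, 768, 256]),
  (1, 0, [3856, 1312, 3968, 1472, 3841, 1282, 3848, 1292, 3225, 1262, 921, 494]),
  (1, 1, [3841, 1282, 3848, 1292, 3856, 1312, 3968, 1472, 3225, 1262, 921, 494]),
  (1, 0, [3992, 1516, 3985, 1506, 3977, 1486, 3865, 1326, 3225, 1262, 921, 494]),
  (1, 1, [3977, 1486, 3865, 1326, 3992, 1516, 3985, 1506, 3225, 1262, 921, 494]),
  (1, 0, [2576, 3872, 2688, 4032, 2561, 3842, 2568, 3852, 3310, 1143, 1006, 375]),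
  (1, 1, [2561, 3842, 2568, 3852, 2576, 3872, 2688, 4032, 3310, 1143, 1006, 375]),
  (1, 0, [2712, 4076, 2705, 4066, 2697, 4046, 2585, 3886, 3310, 1143, 1006, 375]),
  (1, 1, [2697, 4046, 2585, 3886, 2712, 4076, 2705, 4066, 3310, 1143, 1006, 375]),
  (1, 0, [1296, 2592, 1408, 2752, 1281, 2562, 1288, 2572, 3191, 1177, 887, 409]),
  (1, 1, [1281, 2562, 1288, 2572, 1296, 2592, 1408, 2752, 3191, 1177, 887, 409]),
  (1, 0, [1432, 2796, 1425, 2786, 1417, 2766, 1305, 2606, 3191, 1177, 887, 409]),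
  (1, 1, [1417, 2766, 1305, 2606, 1432, 2796, 1425, 2786, 3191, 1177, 887, 409]),
  (0, 0, [1, 2, 4, 8, 16, 32, 64, 128, 256, 512, 1024, 2048]),
  (0, 0, [1, 2, 4, 8, 16, 32, 64, 128, 256, 512, 1024, 2048]),
  (3, 2, [2057, 3086, 25, 46, 2072, 3116, 2065, 3106, 192, 64, 768, 256]),
  (4, 3, [81, 162, 1024, 2048, 42, 63, 138, 207, 84, 168, 512, 768]),
  (2, 1, [3844, 1288, 3968, 1472, 3856, 1312, 3842, 1283, 918, 491, 3222, 1259]),
  (2, 1, [3856, 1312, 3842, 1283, 3844, 1288, 3968, 1472, 918, 491, 3222, 1259]),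
  (0, 0, [1, 2, 4, 8, 16, 32, 64, 128, 256, 512, 1024, 2048]),
  (0, 0, [1, 2, 4, 8, 16, 32, 64, 128, 256, 512, 1024, 2048]),
  (2, 1, [2564, 3848, 2688, 4032, 2576, 3872, 2562, 3843, 1003, 381, 3307, 1149]),
  (2, 1, [2576, 3872, 2562, 3843, 2564, 3848, 2688, 4032, 1003, 381, 3307, 1149]),
  (0, 0, [1, 2, 4, 8, 16, 32, 64, 128, 256, 512, 1024, 2048]),
  (0, 0, [1, 2, 4, 8, 16, 32, 64, 128, 256, 512, 1024, 2048]),
  (2, 1, [1284, 2568, 1408, 2752, 1296, 2592, 1282, 2563, 893, 406, 3197, 1174]),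
  (2, 1, [1296, 2592, 1282, 2563, 1284, 2568, 1408, 2752, 893, 406, 3197, 1174]),
  (0, 0, [1, 2, 4, 8, 16, 32, 64, 128, 256, 512, 1024, 2048]),
  (0, 0, [1, 2, 4, 8, 16, 32, 64, 128, 256, 512, 1024, 2048])]

/-- The number of a candidate. -/
def candIdx (a b d g : F4) : ℕ := a.re.val + 2 * b.re.val + 4 * dg d + 16 * g.re.val

/-- The numbers of the surviving candidates. -/
def goodN : List ℕ := [22, 23, 26, 27, 30, 31]

theorem cand_tab : ∀ a b d g : F4, a * a = a → b * b = b → g * g = g →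
    candIdx a b d g < 32 ∧ encMap (mapply (candM a b d g)) = candT.getD (candIdx a b d g) [] := by
  decide +kernel

set_option synthInstance.maxSize 4096 in
set_option synthInstance.maxHeartbeats 400000 in
theorem good_tab : ∀ a b d g : F4, a * a = a → b * b = b → g * g = g → candIdx a b d g ∈ goodN →
    (a = 0 ∨ Eleven.mul (pcd 7) (encMap (mapply (candM a b d g))) = encMap (mapply (candM 0 1 d 1))) ∧
      b = 1 ∧ g = 1 ∧ d ≠ 0 := by
  decide +kernel

theorem cert_word : ∀ n : Fin 32, (∃ k, candT.getD n.val [] = pcd k) ∨ n.val ∈ goodN ∨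
    ((certT.getD n.val (0, 0, [])).1 < 5 ∧ (certT.getD n.val (0, 0, [])).2.1 < 4 ∧
      wordC (candT.getD n.val []) (certs.getD (certT.getD n.val (0, 0, [])).1 ([], 0)).1 =
        (certT.getD n.val (0, 0, [])).2.2 ∧
      (Eleven.mul (certT.getD n.val (0, 0, [])).2.2)^[(certs.getD (certT.getD n.val (0, 0, [])).1 ([], 0)).2] idc =
        encMap fun v i => v ((oddT.getD (certT.getD n.val (0, 0, [])).2.1 1) i)) := by
  decide +kernel

theorem cand_five (a b d g : F4) (ha : a * a = a) (hb : b * b = b) (hg : g * g = g) :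
    let M := encMap (mapply (candM a b d g))
    (∃ k, M = pcd k) ∨ ((a = 0 ∨ Eleven.mul (pcd 7) M = encMap (mapply (candM 0 1 d 1))) ∧ b = 1 ∧ g = 1 ∧ d ≠ 0) ∨
      ∃ w ∈ certs, ∃ τ ∈ oddT, (Eleven.mul (wordC M w.1))^[w.2] idc = encMap fun v i => v (τ i) := by
  intro M
  obtain ⟨hlt, hM⟩ := cand_tab a b d g ha hb hg
  rcases cert_word ⟨_, hlt⟩ with ⟨k, hk⟩ | h | ⟨hw, ht, h1, h2⟩
  · exact Or.inl ⟨k, hM.trans hk⟩
  · exact Or.inr (Or.inl (good_tab a b d g ha hb hg h))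
  · refine Or.inr (Or.inr ⟨_, List.getElem_mem (show _ < certs.length from hw), _,
      List.getElem_mem (show _ < oddT.length from ht), ?_⟩)
    rw [List.getD_eq_getElem _ _ (show _ < certs.length from hw)] at h1 h2
    rw [List.getD_eq_getElem _ _ (show _ < oddT.length from ht)] at h2
    rw [show M = _ from hM, h1]
    exact h2

theorem pair_five : ∀ d d' : F4, d ≠ 0 → d' ≠ 0 → d ≠ d' →
    let M := encMap (mapply (candM 0 1 d 1))
    (Eleven.mul (Eleven.mul (wordC M [0, 2, 3]) (encMap (mapply (candM 0 1 d' 1)))))^[9] idc =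
      encMap fun v i => v (Equiv.swap (4 : Fin 6) 5 i) := by
  decide +kernel

theorem seven_word :
    (Eleven.mul (wordC (gn 2) [1, 2, 3]))^[21] idc = idc ∧ (Eleven.mul (wordC (gn 2) [1, 2, 3]))^[3] idc ≠ idc := by
  decide +kernel

end CfsgLib.FiLarge.Chz
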