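import Cfsg.Agent.FiLarge.Identify

/-!
The canonical linear cover inside the orthogonal group, with its two outer involutions, and coded maps.
-/

set_option autoImplicit false
set_option maxRecDepth 100000

namespace CfsgLib.FiLarge.Chz

open CfsgLib CfsgLib.FiLarge Eleven

/-- The linear group. -/
abbrev GL6 : Type := V6 ≃ₗ[ZMod 2] V6

/-- The linear group is finite. -/
instance finiteGL6 : Finite GL6 := Finite.of_injective (fun g : GL6 => (g : V6 → V6)) DFunLike.coe_injective

theorem gl_mul (g h : GL6) (a : V6) : (g * h) a = g (h a) := rfl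

theorem gl_one (a : V6) : (1 : GL6) a = a := rfl

theorem gl_inv_apply (g : GL6) (a : V6) : g⁻¹ (g a) = a := by rw [← gl_mul, inv_mul_cancel, gl_one]

theorem gl_apply_inv (g : GL6) (a : V6) : g (g⁻¹ a) = a := by rw [← gl_mul, mul_inv_cancel, gl_one]

/-- A coordinate permutation. -/
def permE (τ : Equiv.Perm (Fin 6)) : GL6 where
  toFun a i := a (τ i)
  map_add' _ _ := rfl
  map_smul' _ _ := rfl
  invFun a i := a (τ.symm i)
  left_inv a := funext fun i => congrArg a (τ.apply_symm_apply i)
  right_inv a := funext fun i => congrArg a (τ.symm_apply_apply i)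

theorem permE_apply (τ : Equiv.Perm (Fin 6)) (a : V6) (i : Fin 6) : permE τ a i = a (τ i) := rfl

theorem permE_mul (τ σ : Equiv.Perm (Fin 6)) : permE τ * permE σ = permE (σ * τ) := rfl

theorem permE_one : permE 1 = 1 := rfl

theorem dmulE_apply (l : Fin 6 → ZMod 3) (a : V6) : dmulE l a = dmul l a := rfl

theorem dec_enc_add (a b : V6) : enc (a + b) = enc a ^^^ enc b := by
  refine dec_inj (enc_lt _) (Nat.xor_lt_two_pow (n := 12) (enc_lt a) (enc_lt b)) ?_
  rw [dec_xor, (dec_enc _).1, (dec_enc _).1, (dec_enc _).1]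

/-- A group element has the given code. -/
def GRep (g : GL6) (M : List ℕ) : Prop :=
  Good M ∧ ∀ k, (h : k < M.length) → g (dec (2 ^ k)) = dec M[k]

theorem GRep.app {g : GL6} {M : List ℕ} (h : GRep g M) {x : ℕ} (hx : x < 4096) :
    g (dec x) = dec (Eleven.app M x) := by
  rw [app_eq, dec_appF g.toLinearMap.toAddMonoidHom x M 0 (fun k hk => by rw [zero_add]; exact h.2 k hk), h.1.1]
  conv_lhs => rw [← dec_bits ⟨x, hx⟩]
  rw [map_sum]
  refine Finset.sum_congr rfl fun k _ => ?_
  rw [zero_add, apply_ite g, map_zero]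
  rfl

theorem GRep.mul {g g' : GL6} {M N : List ℕ} (h : GRep g M) (h' : GRep g' N) :
    GRep (g * g') (Eleven.mul M N) := by
  refine ⟨good_mul h.1 h'.1, fun k hk => ?_⟩
  simp only [Eleven.mul, List.length_map] at hk
  simp only [Eleven.mul, List.getElem_map]
  rw [gl_mul, h'.2 k hk, h.app (h'.1.2 _ (List.getElem_mem hk))]

theorem GRep.code {g : GL6} {M N : List ℕ} (h : GRep g M) (h' : GRep g N) : M = N := by
  refine List.ext_getElem (h.1.1.trans h'.1.1.symm) fun k hk hk' => ?_
  exact dec_inj (h.1.2 _ (List.getElem_mem hk)) (h'.1.2 _ (List.getElem_mem hk'))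
    ((h.2 k hk).symm.trans (h'.2 k hk'))

theorem GRep.apply {g : GL6} {M : List ℕ} (h : GRep g M) (a : V6) : g a = dec (Eleven.app M (enc a)) := by
  conv_lhs => rw [← (dec_enc a).1]
  exact h.app (dec_enc a).2

theorem GRep.elt {g g' : GL6} {M : List ℕ} (h : GRep g M) (h' : GRep g' M) : g = g' :=
  LinearEquiv.ext fun a => by rw [h.apply, h'.apply]

/-- The identity code. -/
def idc : List ℕ := (List.range 12).map fun k => 2 ^ k

theorem grep_one : GRep 1 idc :=
  ⟨by decide, fun k h => by simp only [idc, List.getElem_map, List.getElem_range]; rfl⟩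

theorem GRep.pow {g : GL6} {M : List ℕ} (h : GRep g M) : ∀ n : ℕ, GRep (g ^ n) ((Eleven.mul M)^[n] idc)
  | 0 => by rw [pow_zero]; exact grep_one
  | n + 1 => by rw [pow_succ', Function.iterate_succ_apply']; exact h.mul (h.pow n)

/-- The code of a linear map. -/
def encMap (φ : V6 → V6) : List ℕ := (List.range 12).map fun k => enc (φ (dec (2 ^ k)))

theorem encMap_good (φ : V6 → V6) : Good (encMap φ) :=
  ⟨by simp [encMap], fun c hc => by
    obtain ⟨k, -, rfl⟩ := List.mem_map.1 hc
    exact enc_lt _⟩

theorem grep_encMap {g : GL6} (φ : V6 → V6) (h : ∀ a, g a = φ a) : GRep g (encMap φ) :=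
  ⟨encMap_good φ, fun k hk => by
    rw [h]
    simp only [encMap, List.getElem_map, List.getElem_range, (dec_enc _).1]⟩

/-- Permutations given by a map with inverse. -/
def mkPerm (τ σ : Fin 6 → Fin 6) (h1 : ∀ i, τ (σ i) = i) (h2 : ∀ i, σ (τ i) = i) : Equiv.Perm (Fin 6) :=
  ⟨τ, σ, h2, h1⟩

/-- The coordinate matrix of the coded involution. -/
def fMat : Fin 6 → Fin 6 → F4 := candM 0 1 om 1

theorem fMat_sq : ∀ a : V6, ∀ i, mapply fMat (mapply fMat a) i = a i := by
  have key : ∀ i j : Fin 6, ∑ k, fMat i k * fMat k j = if i = j then 1 else 0 := by decide +kernel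
  intro a i
  simp only [mapply, Finset.sum_mul]
  rw [Finset.sum_comm]
  calc ∑ k, ∑ j, a k * fMat j k * fMat i j = ∑ k, a k * ∑ j, fMat i j * fMat j k :=
        Finset.sum_congr rfl fun k _ => by rw [Finset.mul_sum]; exact Finset.sum_congr rfl fun j _ => by ring
    _ = a i := by simp [key]

/-- The coded involution. -/
def fE : GL6 where
  toFun := mapply fMat
  map_add' a b := funext fun i => by simp [mapply, add_mul, Finset.sum_add_distrib]
  map_smul' c a := funext fun i => by
    simp only [mapply, Pi.smul_apply, RingHom.id_apply, Finset.smul_sum]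
    exact Finset.sum_congr rfl fun j _ => smul_mul_assoc c _ _
  invFun := mapply fMat
  left_inv a := funext (fMat_sq a)
  right_inv a := funext (fMat_sq a)

theorem fE_rep : GRep fE (gn 2) := by
  rw [← good_code.1]
  exact grep_encMap _ fun a => rfl

theorem fE_sq : fE * fE = 1 := LinearEquiv.ext fun a => funext (fMat_sq a)

/-- The transposition of the last two coordinates. -/
def sigE : GL6 := permE (Equiv.swap 4 5)

/-- The exponents of the semilinear involution. -/
def l45 : Fin 6 → ZMod 3 := ![0, 0, 0, 0, 1, 1]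

/-- The semilinear involution fixing the coded involution. -/
def u0E : GL6 := dmulE l45 * frobE

theorem u0E_apply (a : V6) (i : Fin 6) : u0E a i = omp (l45 i) * (a i * a i) := rfl

theorem u0E_sq : u0E * u0E = 1 := by
  refine LinearEquiv.ext fun a => funext fun i => ?_
  rw [gl_mul, u0E_apply, u0E_apply, gl_one]
  generalize a i = x
  revert x i
  decide +kernel

theorem sigE_sq : sigE * sigE = 1 := by
  rw [sigE, permE_mul, Equiv.swap_mul_self, permE_one]

theorem sig_u0 : sigE * u0E = u0E * sigE := by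
  refine LinearEquiv.ext fun a => funext fun i => ?_
  rw [gl_mul, gl_mul, sigE, permE_apply, u0E_apply, u0E_apply, permE_apply,
    show l45 (Equiv.swap 4 5 i) = l45 i by revert i; decide]

theorem fE_sig : fE * sigE = sigE * fE :=
  ((fE_rep.mul (grep_encMap _ fun a => (rfl : sigE a = fun i => a (Equiv.swap (4 : Fin 6) 5 i)))).elt (by
    have := (grep_encMap _ fun a => (rfl : sigE a = fun i => a (Equiv.swap (4 : Fin 6) 5 i))).mul fE_rep
    convert this using 1
    decide +kernel))

theorem fE_u0 : fE * u0E = u0E * fE :=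
  ((fE_rep.mul (grep_encMap _ fun a => funext (u0E_apply a))).elt (by
    have := (grep_encMap _ fun a => funext (u0E_apply a)).mul fE_rep
    convert this using 1
    decide +kernel))

/-- The monomial generators. -/
def monoSet : Set GL6 :=
  {g | (∃ τ : Equiv.Perm (Fin 6), Equiv.Perm.sign τ = 1 ∧ g = permE τ) ∨
    ∃ l : Fin 6 → ZMod 3, ∑ i, l i = 0 ∧ g = dmulE l}

/-- The canonical cover. -/
def K0 : Subgroup GL6 := Subgroup.closure (insert fE monoSet)

/-- The canonical cover with both outer involutions. -/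
def Big : Subgroup GL6 := K0 ⊔ Subgroup.closure {sigE, u0E}

theorem perm_mem {τ : Equiv.Perm (Fin 6)} (h : Equiv.Perm.sign τ = 1) : permE τ ∈ K0 :=
  Subgroup.subset_closure (Or.inr (Or.inl ⟨τ, h, rfl⟩))

theorem dmul_mem {l : Fin 6 → ZMod 3} (h : ∑ i, l i = 0) : dmulE l ∈ K0 :=
  Subgroup.subset_closure (Or.inr (Or.inr ⟨l, h, rfl⟩))

theorem fE_mem : fE ∈ K0 := Subgroup.subset_closure (Or.inl rfl)

end CfsgLib.FiLarge.Chz
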