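import Cfsg.Agent.FiLarge.Chz.Outside
import Cfsg.Prelude.Def_TwoFusion

/-!
A central involution fused into no other element of the radical is isolated.
-/

set_option autoImplicit false
set_option maxRecDepth 100000
set_option linter.style.haveILetI false
set_option linter.unusedSectionVars false
set_option quotPrecheck false

namespace CfsgLib.FiLarge.Chz

open CfsgLib CfsgLib.FiLarge Subgroup
open Dz (val val_mem val_inj zcomm)

/-- A 2-subgroup of a centraliser whose central conjugates of the involution are unique bounds all 2-subgroups. -/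
theorem two_part_le {G : Type*} [Group G] [Finite G] {z : G} {C T : Subgroup G} (hT2 : IsPGroup 2 T) (hTC : T ≤ C)
    (hTz : T ≤ centralizer ({z} : Set G)) (hzT : z ∈ T)
    (hmax : ∀ T' : Subgroup G, T ≤ T' → T' ≤ C → T' ≤ centralizer ({z} : Set G) → IsPGroup 2 T' → T' ≤ T)
    (huniq : ∀ g : G, g * z * g⁻¹ ∈ T → (∀ x ∈ T, x * (g * z * g⁻¹) = g * z * g⁻¹ * x) → g * z * g⁻¹ = z)
    {P : Subgroup G} (hP : P ≤ C) (hP2 : IsPGroup 2 P) : Nat.card P ≤ Nat.card T := by
  classical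
  haveI : Fact (Nat.Prime 2) := ⟨Nat.prime_two⟩
  obtain ⟨S, hS⟩ := (hT2.of_equiv (subgroupOfEquivOfLe hTC).symm).exists_le_sylow
  obtain ⟨S', hS'⟩ := (hP2.of_equiv (subgroupOfEquivOfLe hP).symm).exists_le_sylow
  have hcard : Nat.card (S : Subgroup C) ≤ Nat.card T := by
    rw [← Nat.card_congr (subgroupOfEquivOfLe hTC).toEquiv]
    by_contra hlt
    have hlt' : T.subgroupOf C < (S : Subgroup C) :=
      lt_of_le_of_ne hS fun e => hlt (le_of_eq (congrArg (fun K : Subgroup C => Nat.card K) e).symm)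
    haveI : Group.IsNilpotent (S : Subgroup C) := S.2.isNilpotent
    have hlt2 : (T.subgroupOf C).subgroupOf (S : Subgroup C) < ⊤ := by
      refine lt_top_iff_ne_top.2 fun e => hlt'.ne (le_antisymm hS fun x hx => ?_)
      have : (⟨x, hx⟩ : (S : Subgroup C)) ∈ (T.subgroupOf C).subgroupOf (S : Subgroup C) := e ▸ mem_top _
      exact this
    obtain ⟨g, hgn, hgnot⟩ := SetLike.exists_of_lt
      (Group.normalizerCondition_of_isNilpotent ((T.subgroupOf C).subgroupOf (S : Subgroup C)) hlt2)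
    have hnorm : ∀ x ∈ T, (g.1 : G) * x * (g.1 : G)⁻¹ ∈ T := by
      intro x hx
      have h := (mem_normalizer_iff.1 hgn ⟨⟨x, hTC hx⟩, hS (mem_subgroupOf.2 hx)⟩).1 hx
      exact h
    have hback : ∀ x ∈ T, (g.1 : G)⁻¹ * x * (g.1 : G) ∈ T := by
      intro x hx
      have h := (mem_normalizer_iff.1 (inv_mem hgn) ⟨⟨x, hTC hx⟩, hS (mem_subgroupOf.2 hx)⟩).1 hx
      have h' : (g.1 : G)⁻¹ * x * (g.1 : G)⁻¹⁻¹ ∈ T := h
      rwa [inv_inv] at h'
    have hgz : (g.1 : G) * z * (g.1 : G)⁻¹ = z := by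
      refine huniq _ (hnorm z hzT) fun x hx => ?_
      have h := mem_centralizer_singleton_iff.1 (hTz (hback x hx))
      calc x * ((g.1 : G) * z * (g.1 : G)⁻¹) = (g.1 : G) * (((g.1 : G)⁻¹ * x * g.1) * z) * (g.1 : G)⁻¹ := by group
        _ = (g.1 : G) * z * (g.1 : G)⁻¹ * x := by rw [h]; group
    refine hgnot (show ((g.1 : C) : G) ∈ T from ?_)
    refine hmax (((S : Subgroup C).map C.subtype) ⊓ centralizer ({z} : Set G)) ?_ ?_ inf_le_right ?_
      ⟨⟨g.1, g.2, rfl⟩, mem_centralizer_singleton_iff.2 (mul_inv_eq_iff_eq_mul.1 hgz)⟩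
    · exact le_inf (fun x hx => ⟨⟨x, hTC hx⟩, hS (mem_subgroupOf.2 hx), rfl⟩) hTz
    · exact inf_le_left.trans (map_subtype_le _)
    · exact (S.2.map C.subtype).to_le inf_le_left
  rw [← Nat.card_congr (subgroupOfEquivOfLe hP).toEquiv]
  exact (Subgroup.card_le_of_le hS').trans (le_of_eq_of_le (by rw [S'.card_eq_multiplicity, S.card_eq_multiplicity]) hcard)

theorem four_of (n : ℕ) (h : 9797760 * n = 39191040) : n = 4 := by omega

theorem cancel_big (a b c : ℕ) (h : a * 9797760 = b * 9797760 * c) : a = b * c :=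
  Nat.eq_of_mul_eq_mul_right (by norm_num : 0 < 9797760) (h.trans (mul_right_comm b 9797760 c))

variable {G : Type*} [Group G] [Finite G] {z : G} {Q : Subgroup (centralizer ({z} : Set G))} [Q.Normal]
  {D : Dz z Q}

local notation "HH" => centralizer ({z} : Set G)
local notation "QG" => Q.map (centralizer ({z} : Set G)).subtype

/-- No other element of the radical is conjugate to the central involution. -/
def NoFuse (z : G) (Q : Subgroup (centralizer ({z} : Set G))) : Prop :=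
  ∀ x : G, x * z * x⁻¹ ∈ Q.map (centralizer ({z} : Set G)).subtype → x * z * x⁻¹ = z

theorem move_le_orth (c : HH) : moveS (D.ψ c) ≤ orthS (fixS (D.ψ c)) := by
  rintro _ ⟨x, rfl⟩ b hb
  rw [disp_apply, B_add]
  have : B (D.ψ c x) b = B x b := by
    conv_lhs => rw [← mem_fixS.1 hb]
    simp only [B, ← map_add, D.inv]
  rw [this, z2_self]

theorem fix_split (c : HH) {a : Q} (ha : D.π a ∈ fixS (D.ψ c)) (hnot : D.π a ∉ D.cent (c : G)) :
    (c : G) * val a * (c : G)⁻¹ = val a * z ∧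
      ∀ v ∈ fixS (D.ψ c), v ∈ D.cent (c : G) ∨ v + D.π a ∈ D.cent (c : G) := by
  have h0 := (D.fix_cases c ha).resolve_left fun e => hnot ⟨a, rfl, (mul_inv_eq_iff_eq_mul.1 e).symm⟩
  refine ⟨h0, fun v hv => ?_⟩
  obtain ⟨b, rfl⟩ := D.π_surj v
  rcases D.fix_cases c hv with e | e
  · exact Or.inl ⟨b, rfl, (mul_inv_eq_iff_eq_mul.1 e).symm⟩
  · refine Or.inr ⟨b * a, D.π_mul b a, (mul_inv_eq_iff_eq_mul.1 ?_).symm⟩
    show (c : G) * (val b * val a) * (c : G)⁻¹ = val b * val a
    rw [show (c : G) * (val b * val a) * (c : G)⁻¹ = ((c : G) * val b * (c : G)⁻¹) * ((c : G) * val a * (c : G)⁻¹) by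
      group, e, h0]
    calc val b * z * (val a * z) = val b * (z * val a) * z := by group
      _ = val b * val a * (z * z) := by rw [← (D.pre.gen.comm_z _ (val_mem a)).eq]; group
      _ = val b * val a := by rw [D.pre.gen.sq, mul_one]

namespace Out

variable (O : Out D) (hP : NoFuse z Q)

include hP in
theorem no_shift {a j : Q} (ha : val a ∈ O.I) (e : (O.u : G) * val j * (O.u : G)⁻¹ = val a * val j) :
    val a = 1 := by
  have hconj : val j * (O.u : G) * (val j)⁻¹ = val a * O.u := by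
    have h2 : (val a)⁻¹ * (O.u : G) = val j * O.u * (val j)⁻¹ := by
      calc (val a)⁻¹ * (O.u : G)
          = (val a)⁻¹ * ((O.u : G) * val j * (O.u : G)⁻¹) * O.u * (val j)⁻¹ := by group
        _ = val j * O.u * (val j)⁻¹ := by rw [e]; group
    rw [← h2, inv_eq_of_mul_eq_one_right (O.I_sq ha)]
  obtain ⟨b, hb, eb⟩ : val a * (O.u : G) ∈ O.Ju := mul_mem (show val a ∈ O.Ju from ha.2) O.pre_u.gen.mem
  have eb' : O.g * b * O.g⁻¹ = val a * O.u := eb
  have hb' : (O.g⁻¹ * val j * O.g) * z * (O.g⁻¹ * val j * O.g)⁻¹ = b := by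
    calc (O.g⁻¹ * val j * O.g) * z * (O.g⁻¹ * val j * O.g)⁻¹
        = O.g⁻¹ * (val j * (O.g * z * O.g⁻¹) * (val j)⁻¹) * O.g := by group
      _ = b := by rw [show O.g * z * O.g⁻¹ = (O.u : G) from rfl, hconj, ← eb']; group
  have h1 := hP _ ((congrArg (fun t => t ∈ QG) hb').mpr hb)
  rw [hb'] at h1
  have h3 : (O.g * b * O.g⁻¹) = O.u := by rw [h1]; rfl
  rw [eb', mul_eq_right] at h3
  exact h3

include hP in
theorem shift {a j : Q} (ha : val a ∈ O.I) (h1 : val a ≠ 1) (hj : disp (D.ψ O.u) (D.π j) = D.π a) :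
    (O.u : G) * val j * (O.u : G)⁻¹ = val a * z * val j := by
  have e : D.π (a * j) = D.π (MulAut.conjNormal O.u j) := by
    rw [D.act, D.π_mul, ← hj, disp_apply, add_assoc, v6_add_self, add_zero]
  rcases D.eq_of_π e with h | h
  · exact absurd (O.no_shift hP ha h) h1
  · refine h.trans ?_
    show val a * val j * z = _
    rw [mul_assoc, mul_assoc, (D.pre.gen.comm_z _ (val_mem j)).eq]

theorem ne_one_of {a : Q} (h : D.π a ≠ 0) : val a ≠ 1 := fun e => h ((D.π_eq_zero a).2 (Or.inl e))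

include hP in
theorem pair_ne {v w x : V6} (hv : v ∈ O.IV) (hw : w ∈ O.IV) (hv0 : v ≠ 0) (hw0 : w ≠ 0) (hvw : v ≠ w)
    (hx : disp (D.ψ O.u) x = v) (hy : w ∈ moveS (D.ψ O.u)) : B x w ≠ 0 := by
  intro hB
  obtain ⟨a, rfl, ha⟩ := hv
  obtain ⟨b, rfl, hb⟩ := hw
  obtain ⟨j, rfl⟩ := D.π_surj x
  obtain ⟨y, hy⟩ := hy
  obtain ⟨k, rfl⟩ := D.π_surj y
  have e1 := O.shift hP ha (ne_one_of hv0) hx
  have e2 := O.shift hP hb (ne_one_of hw0) hy
  have hc : val j * val b = val b * val j := (D.comm_iff_B j b).2 hB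
  have hprod : (O.u : G) * val (j * k) * (O.u : G)⁻¹ = val (a * b) * val (j * k) := by
    show (O.u : G) * (val j * val k) * (O.u : G)⁻¹ = val a * val b * (val j * val k)
    rw [show (O.u : G) * (val j * val k) * (O.u : G)⁻¹ =
      ((O.u : G) * val j * (O.u : G)⁻¹) * ((O.u : G) * val k * (O.u : G)⁻¹) by group, e1, e2]
    calc val a * z * val j * (val b * z * val k) = val a * z * (val j * val b) * z * val k := by group
      _ = val a * (z * val b) * (val j * z) * val k := by rw [hc]; group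
      _ = val a * val b * (z * z) * val j * val k := by
          rw [← (D.pre.gen.comm_z _ (val_mem b)).eq, (D.pre.gen.comm_z _ (val_mem j)).eq]; group
      _ = _ := by rw [D.pre.gen.sq]; group
  have h := O.no_shift hP (a := a * b) (mul_mem ha hb) hprod
  refine hvw ?_
  have : a * b = 1 := val_inj h
  have h0 := congrArg D.π this
  rw [D.π_mul, D.π_one] at h0
  rw [← add_zero (D.π a), ← v6_add_self (D.π b), ← add_assoc, h0, zero_add]

/-- The first radical centralises the whole preimage of the fixed space. -/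
def One : Prop := fixS (D.ψ O.u) ≤ D.cent (O.u : G)

include hP in
theorem IV_move_two (h : ¬ O.One) {v : V6} (hv : v ∈ O.IV) (hm : v ∈ moveS (D.ψ O.u)) : v = 0 := by
  by_contra hv0
  obtain ⟨f, hf, hf'⟩ := SetLike.not_le_iff_exists.1 h
  obtain ⟨a0, rfl⟩ := D.π_surj f
  have h0 := (fix_split O.u hf hf').1
  obtain ⟨a, rfl, ha⟩ := hv
  obtain ⟨x, hx⟩ := hm
  obtain ⟨j, rfl⟩ := D.π_surj x
  have e1 := O.shift hP ha (ne_one_of hv0) hx
  refine ne_one_of hv0 (O.no_shift hP ha (j := j * a0) ?_)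
  show (O.u : G) * (val j * val a0) * (O.u : G)⁻¹ = val a * (val j * val a0)
  rw [show (O.u : G) * (val j * val a0) * (O.u : G)⁻¹ =
    ((O.u : G) * val j * (O.u : G)⁻¹) * ((O.u : G) * val a0 * (O.u : G)⁻¹) by group, e1, h0]
  calc val a * z * val j * (val a0 * z) = val a * z * (val j * val a0 * z) := by group
    _ = val a * z * (z * (val j * val a0)) := by
        rw [((D.pre.gen.comm_z _ (val_mem j)).mul_left (D.pre.gen.comm_z _ (val_mem a0))).eq]
    _ = val a * (z * z) * (val j * val a0) := by group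
    _ = _ := by rw [D.pre.gen.sq, mul_one]

include hP in
theorem two_le (h : ¬ O.One) : Nat.card O.IV ≤ 2 := by
  classical
  obtain ⟨f, hf, hf'⟩ := SetLike.not_le_iff_exists.1 h
  obtain ⟨a0, rfl⟩ := D.π_surj f
  have hsplit := (fix_split O.u hf hf').2
  have key : ∀ v ∈ O.IV, v ≠ 0 → B v (D.π a0) = 1 := by
    intro v hv hv0
    by_contra hB
    have hB0 : B v (D.π a0) = 0 := (by decide : ∀ b : ZMod 2, b ≠ 1 → b = 0) _ hB
    refine hv0 (O.IV_move_two hP h hv (D.orth_fix_le O.u fun w hw => ?_))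
    rcases hsplit w hw with hc | hc
    · exact O.IV_orth hv w hc
    · have h2 := O.IV_orth hv _ hc
      rwa [B_add_right, hB0, add_zero] at h2
  have huniq : ∀ v ∈ O.IV, ∀ w ∈ O.IV, v ≠ 0 → w ≠ 0 → v = w := by
    intro v hv w hw hv0 hw0
    by_contra hne
    have hs : v + w ≠ 0 := fun e => hne (by rw [← add_zero v, ← v6_add_self w, ← add_assoc, e, zero_add])
    have h3 := key _ (add_mem hv hw) hs
    rw [B_add, key v hv hv0, key w hw hw0] at h3
    exact absurd h3 (by decide)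
  have hinj : Function.Injective (fun v : O.IV => decide ((v : V6) = 0)) := by
    intro v w e
    refine Subtype.ext ?_
    by_cases hv0 : (v : V6) = 0
    · simp only [hv0, decide_true] at e
      rw [hv0, of_decide_eq_true e.symm]
    · simp only [hv0, decide_false] at e
      exact huniq _ v.2 _ w.2 hv0 (of_decide_eq_false e.symm)
  have := Nat.card_le_card_of_injective _ hinj
  rwa [Nat.card_eq_fintype_card (α := Bool), Fintype.card_bool] at this

theorem IV_le_move (h : O.One) : O.IV ≤ moveS (D.ψ O.u) :=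
  fun _ hv => D.orth_fix_le O.u fun w hw => O.IV_orth hv w (h hw)

include hP in
theorem four_le : Nat.card O.IV ≤ 4 := by
  classical
  by_cases h1 : O.One
  swap
  · exact (O.two_le hP h1).trans (by norm_num)
  have hm := O.IV_le_move h1
  by_contra hlt
  have hpick : ∀ s : Finset V6, s.card ≤ 4 → ∃ w ∈ O.IV, w ∉ s := by
    intro s hs
    by_contra hno
    push Not at hno
    refine hlt ((Nat.card_le_card_of_injective (fun v : O.IV => (⟨v.1, hno v.1 v.2⟩ : s)) ?_).trans ?_)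
    · exact fun v w e => Subtype.ext (congrArg (fun q : s => q.1) e)
    · rwa [Nat.card_eq_finsetCard]
  obtain ⟨v, hv, hv'⟩ := hpick {0} (by simp)
  obtain ⟨w, hw, hw'⟩ := hpick {0, v} (Finset.card_le_two.trans (by norm_num))
  obtain ⟨s, hs, hs'⟩ := hpick {0, v, w, v + w} Finset.card_le_four
  simp only [Finset.mem_insert, Finset.mem_singleton, not_or] at hv' hw' hs'
  obtain ⟨x, hx⟩ := hm hv
  have hws0 : w + s ≠ 0 := fun e => hs'.2.2.1 (by rw [← add_zero s, ← v6_add_self w, ← add_assoc, add_comm s w, e, zero_add])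
  have hwsv : v ≠ w + s := fun e => hs'.2.2.2 (by rw [e, add_comm w s, add_assoc, v6_add_self, add_zero])
  have h2 := O.pair_ne hP hv hw hv' hw'.1 (Ne.symm hw'.2) hx (hm hw)
  have h3 := O.pair_ne hP hv hs hv' hs'.1 (Ne.symm hs'.2.1) hx (hm hs)
  have h4 := O.pair_ne hP hv (add_mem hw hs) hv' hws0 hwsv hx (hm (add_mem hw hs))
  rw [B_add_right] at h4
  exact (by decide : ∀ a b : ZMod 2, a ≠ 0 → b ≠ 0 → a + b ≠ 0 → False) _ _ h2 h3 h4

theorem symm_symm_u : (O.symm.symm.u : G) = O.u := by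
  show O.g⁻¹⁻¹ * z * O.g⁻¹⁻¹⁻¹ = O.g * z * O.g⁻¹
  rw [inv_inv]

include hP in
theorem small_four {a : GL6} (ha : a ∈ O.A) : Nat.card ((fixS (D.ψ O.u)).map (disp a)) ≤ 4 := by
  by_cases h1 : O.One
  · exact (AddSubgroup.card_le_of_le ((AddSubgroup.map_mono h1).trans (O.map_le ha))).trans (O.four_le hP)
  · exact (O.card_map_le ha).trans (Nat.mul_le_mul_left 2 (O.two_le hP h1))

include hP in
theorem move_eq : Nat.card (moveS (D.ψ O.u)) = 64 := by
  refine (move_or_fix D.cardK0 O.t_mem O.t_sq O.t_ne).resolve_right fun h => ?_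
  have hc := O.symm.card_A
  rw [O.card_I_symm, ← O.card_IV, O.symm_symm_u] at hc
  have hA := card_small_four D.cardK0 O.symm.t_mem O.symm.t_sq O.symm.t_ne O.symm.A_le O.symm.A_two O.symm.A_comm
    fun a ha => O.symm.small_four hP ha
  have hf := D.card_fix_le O.u
  by_cases h1 : O.One
  · have := AddSubgroup.card_le_of_le h1
    have := O.four_le hP
    nlinarith
  · have := O.two_le hP h1
    nlinarith

theorem fix_eq_move (h64 : Nat.card (moveS (D.ψ O.u)) = 64) :
    fixS (D.ψ O.u) = moveS (D.ψ O.u) ∧ Nat.card (fixS (D.ψ O.u)) = 64 := by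
  have h := card_fix_mul_move (D.ψ O.u)
  rw [h64] at h
  have h2 : Nat.card (fixS (D.ψ O.u)) = 64 := by omega
  exact ⟨(AddSubgroup.eq_of_le_of_card_ge (move_le_fix O.t_sq) (by rw [h2, h64])).symm, h2⟩

include hP in
theorem image_two (h1 : O.One) {a : GL6} (ha : a ∈ O.A) : Nat.card ((fixS (D.ψ O.u)).map (disp a)) ≤ 2 := by
  classical
  obtain ⟨hfm, -⟩ := O.fix_eq_move (O.move_eq hP)
  have hin : (fixS (D.ψ O.u)).map (disp a) ≤ O.IV := (AddSubgroup.map_mono h1).trans (O.map_le ha)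
  have huniq : ∀ v ∈ (fixS (D.ψ O.u)).map (disp a), ∀ w ∈ (fixS (D.ψ O.u)).map (disp a), v ≠ 0 → w ≠ 0 → v = w := by
    intro v hv w hw hv0 hw0
    by_contra hne
    obtain ⟨x, hx⟩ := O.IV_le_move h1 (hin hv)
    refine O.pair_ne hP (hin hv) (hin hw) hv0 hw0 hne hx (O.IV_le_move h1 (hin hw)) ?_
    obtain ⟨b, hb, rfl⟩ := hw
    obtain ⟨r, hr, rfl⟩ := O.exists_of_A ha
    set ai := D.ψ r⁻¹ with hai
    have hia : ∀ y, ai (D.ψ r y) = y := fun y => by rw [hai, map_inv, gl_inv_apply]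
    have e1 : B x (D.ψ r b) = B (ai x) b := by
      simp only [B]
      rw [← D.inv r⁻¹ (x + D.ψ r b), ← D.inv r⁻¹ x, ← D.inv r⁻¹ (D.ψ r b), map_add, ← hai, hia]
    rw [disp_apply, B_add_right, e1, ← B_add]
    rw [B_comm]
    have hmem : ai x + x ∈ fixS (D.ψ O.u) := by
      have hv' : ai v = v := by
        have := O.A_fix_IV (a := ai) (by rw [hai, map_inv]; exact inv_mem ha) (hin hv)
        exact this
      have hcomm : D.ψ O.u (ai x) = ai (D.ψ O.u x) := by
        have h := LinearEquiv.congr_fun (O.A_comm ai (by rw [hai, map_inv]; exact inv_mem ha)) x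
        exact h.symm
      rw [mem_fixS, map_add, hcomm]
      have htx : D.ψ O.u x = v + x := by
        rw [← hx, disp_apply, add_assoc, v6_add_self, add_zero]
      rw [htx, map_add, hv']
      rw [add_add_add_comm, v6_add_self, zero_add]
    exact move_le_orth O.u (by rw [← hfm]; exact hb) _ hmem
  have hinj : Function.Injective (fun v : (fixS (D.ψ O.u)).map (disp a) => decide ((v : V6) = 0)) := by
    intro v w e
    refine Subtype.ext ?_
    by_cases hv0 : (v : V6) = 0
    · simp only [hv0, decide_true] at e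
      rw [hv0, of_decide_eq_true e.symm]
    · simp only [hv0, decide_false] at e
      exact huniq _ v.2 _ w.2 hv0 (of_decide_eq_false e.symm)
  have := Nat.card_le_card_of_injective _ hinj
  rwa [Nat.card_eq_fintype_card (α := Bool), Fintype.card_bool] at this

include hP in
/-- An element of small displacement in the second radical. -/
theorem exists_transvection : ∃ r : HH, (r : G) ∈ O.Ju ∧ (r : G) * r = 1 ∧ Nat.card (moveS (D.ψ r)) = 4 := by
  have h64 := O.move_eq hP
  obtain ⟨-, hfs⟩ := O.symm.fix_eq_move (O.symm.move_eq hP)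
  have hA := O.card_A
  rw [← O.card_IV] at hA
  have hcs : 32 ≤ Nat.card (D.cent (O.symm.u : G)) ∧ Nat.card (D.cent (O.symm.u : G)) ≤ 64 := by
    have := AddSubgroup.card_le_of_le (D.cent_le_fix O.symm.u)
    have := D.card_fix_le O.symm.u
    omega
  have hsmall : Nat.card O.IV ≤ 1 → False := by
    intro h
    obtain ⟨h32, -⟩ := card_small_two D.cardK0 O.t_mem O.t_sq O.t_ne h64 O.A_le O.A_two O.A_comm
      fun a ha => (O.card_map_le ha).trans (by omega)
    nlinarith
  have hone : O.One := by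
    by_contra h
    refine hsmall ?_
    have hsub : O.IV = ⊥ := eq_bot_iff.2 fun v hv => by
      obtain ⟨hfm, -⟩ := O.fix_eq_move h64
      exact AddSubgroup.mem_bot.2 (O.IV_move_two hP h hv (hfm ▸ D.cent_le_fix O.u (O.IV_le_cent hv)))
    rw [hsub, AddSubgroup.card_bot]
  have hone' : O.symm.One := by
    by_contra h
    refine hsmall ?_
    have hsub : O.symm.IV = ⊥ := eq_bot_iff.2 fun v hv => by
      obtain ⟨hfm, -⟩ := O.symm.fix_eq_move (O.symm.move_eq hP)
      exact AddSubgroup.mem_bot.2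
        (O.symm.IV_move_two hP h hv (hfm ▸ D.cent_le_fix O.symm.u (O.symm.IV_le_cent hv)))
    rw [O.card_IV, ← O.card_I_symm, ← O.symm.card_IV, hsub, AddSubgroup.card_bot]
  have hc64 : Nat.card (D.cent (O.symm.u : G)) = 64 :=
    le_antisymm hcs.2 (hfs ▸ AddSubgroup.card_le_of_le hone')
  obtain ⟨h32, hcert⟩ := card_small_two D.cardK0 O.t_mem O.t_sq O.t_ne h64 O.A_le O.A_two O.A_comm
    fun a ha => O.image_two hP hone ha
  have h4 := O.four_le hP
  rw [hc64] at hA
  obtain ⟨_, ha, h2, hm⟩ := hcert (by nlinarith)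
  obtain ⟨r, hr, rfl⟩ := O.exists_of_A ha
  refine ⟨r, hr.1, ?_, hm⟩
  rcases O.pre_u.gen.square (r : G) hr.1 with e | e
  · exact e
  · exfalso
    refine O.t_ne ?_
    rw [← h2, ← map_mul]
    exact congrArg D.ψ (Subtype.ext e.symm)

end Out

theorem trans_large (hs : sigE ∉ K0) (hK : Nat.card K0 = 9797760) {a : V6} (ha : qn a = 0) (ha0 : a ≠ 0)
    (hA : ¬ Small a) {b : V6} (hb : qn b = 0) (hb0 : b ≠ 0) (hB : ¬ Small b) : ∃ k ∈ K0, k a = b := by
  classical
  set T := T1 hK hs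
  have hout : ∀ b, Small b ↔ b ∈ T.orb T.M v2 := fun b => by
    rw [T.mem_orb]
    constructor
    · rintro ⟨k, hk, e⟩; exact ⟨⟨k, le_adj hk⟩, hk, e⟩
    · rintro ⟨c, hc, e⟩; exact ⟨c, hc, e⟩
  have hsub : T.orb T.M a ⊆ ((Finset.univ.filter fun b : V6 => qn b = 0) \ insert 0 (T.orb T.M v2)) := by
    intro b hb
    obtain ⟨c, hc, rfl⟩ := T.mem_orb.1 hb
    refine Finset.mem_sdiff.2 ⟨Finset.mem_filter.2 ⟨Finset.mem_univ _, by rw [T.inv, ha]⟩, fun h => ?_⟩
    rcases Finset.mem_insert.1 h with h | h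
    · exact ha0 ((LinearEquiv.map_eq_zero_iff _).1 h)
    · obtain ⟨k, hk, e⟩ := (hout _).2 h
      exact hA ⟨(c : GL6)⁻¹ * k, mul_mem (inv_mem hc) hk, by
        rw [gl_mul, e]; exact gl_inv_apply _ _⟩
  have hcard : (T.orb T.M a).card = 1701 := by
    obtain ⟨I, -, hI, h | h⟩ := T.exists_I le_rfl ha ha0
    · exfalso
      obtain ⟨c, hc, e⟩ := T.mem_orb.1 ((hI 0).1 h.1)
      exact hA ⟨(c : GL6)⁻¹, inv_mem hc, by
        show (c : GL6)⁻¹ v2 = a
        rw [show v2 = (c : GL6) a from e.symm, gl_inv_apply]⟩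
    · exact h.2
  have heq := Finset.eq_of_subset_of_card_le hsub (by
    rw [hcard, Finset.card_sdiff_of_subset, Finset.card_insert_of_notMem, (T.card_small le_rfl).1, singular_card]
    · intro h
      obtain ⟨c, -, e⟩ := T.mem_orb.1 h
      exact absurd ((LinearEquiv.map_eq_zero_iff _).1 e) Std.v2_sing.2
    · intro b hb
      refine Finset.mem_filter.2 ⟨Finset.mem_univ _, ?_⟩
      rcases Finset.mem_insert.1 hb with rfl | hb
      · decide +kernel
      · obtain ⟨c, -, rfl⟩ := T.mem_orb.1 hb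
        rw [T.inv]; exact Std.v2_sing.1)
  have hgin : b ∈ T.orb T.M a := by
    rw [heq]
    refine Finset.mem_sdiff.2 ⟨Finset.mem_filter.2 ⟨Finset.mem_univ _, hb⟩, fun h => ?_⟩
    rcases Finset.mem_insert.1 h with h | h
    · exact hb0 h
    · exact hB ((hout _).2 h)
  obtain ⟨c, hc, e⟩ := T.mem_orb.1 hgin
  exact ⟨c, hc, e⟩

theorem exists_trans (hs : sigE ∉ K0) (hK : Nat.card K0 = 9797760) {a : V6} (ha : qn a = 0) (ha0 : a ≠ 0) {g : GL6}
    (hg : g ∈ Big) (hqg : ∀ b, qn (g b) = qn b) : ∃ k ∈ K0, k a = g a := by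
  classical
  by_cases hA : Small a
  · obtain ⟨k1, hk1, e1⟩ := small_big hg hA
    obtain ⟨k2, hk2, e2⟩ := hA
    exact ⟨k1 * k2⁻¹, mul_mem hk1 (inv_mem hk2), by rw [gl_mul, ← e2, gl_inv_apply, e1, e2]⟩
  refine trans_large hs hK ha ha0 hA (by rw [hqg, ha]) ((LinearEquiv.map_ne_zero_iff _).2 ha0) fun h => hA ?_
  have := small_big (inv_mem hg) h
  rwa [gl_inv_apply] at this

/-- The index of the cover in the image. -/
theorem relIndex_cases (D : Dz z Q) : ∃ j, j ≤ 2 ∧ K0.relIndex D.ψ.range = 2 ^ j ∧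
    Nat.card D.ψ.range = 2 ^ j * 9797760 := by
  have hle : K0 ≤ D.ψ.range := D.mapK ▸ Subgroup.map_le_range _ _
  have h4 : K0.relIndex Big = 4 := by
    have h := Subgroup.card_mul_index (K0.subgroupOf Big)
    rw [Nat.card_congr (subgroupOfEquivOfLe (show K0 ≤ Big from le_sup_left)).toEquiv, D.cardK0,
      card_Big D.cardK0] at h
    show (K0.subgroupOf Big).index = 4
    exact four_of _ h
  have hd : K0.relIndex D.ψ.range ∣ 2 ^ 2 := by
    rw [show (2 : ℕ) ^ 2 = 4 by norm_num, ← h4]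
    exact Dvd.intro _ (Subgroup.relIndex_mul_relIndex _ _ _ hle D.range_le)
  obtain ⟨j, hj, e⟩ := (Nat.dvd_prime_pow Nat.prime_two).1 hd
  refine ⟨j, hj, e, ?_⟩
  have h := Subgroup.card_mul_index (K0.subgroupOf D.ψ.range)
  rw [Nat.card_congr (subgroupOfEquivOfLe hle).toEquiv, D.cardK0,
    show (K0.subgroupOf D.ψ.range).index = 2 ^ j from e] at h
  rw [← h, mul_comm]

/-- The order of a stabiliser in the image. -/
theorem card_range_stab (D : Dz z Q) {a : V6} (ha : qn a = 0) (ha0 : a ≠ 0) :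
    Nat.card ↥(D.ψ.range ⊓ fixer a) * 9797760 = Nat.card D.ψ.range * Nat.card ↥(K0 ⊓ fixer a) := by
  classical
  have hle : K0 ≤ D.ψ.range := D.mapK ▸ Subgroup.map_le_range _ _
  have hk : ∀ g : D.ψ.range, ∃ k ∈ K0, k a = (g : GL6) a := fun g => by
    obtain ⟨c, hc⟩ := g.2
    exact exists_trans D.sig_not D.cardK0 ha ha0 (D.range_le g.2) fun b => by rw [← hc]; exact D.inv c b
  have hk' : ∀ v : V6, ∃ k : GL6, k ∈ K0 ∧ ((∃ g : D.ψ.range, (g : GL6) a = v) → k a = v) := fun v => by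
    by_cases h : ∃ g : D.ψ.range, (g : GL6) a = v
    · obtain ⟨g, e⟩ := h
      obtain ⟨k, hk1, hk2⟩ := hk g
      exact ⟨k, hk1, fun _ => hk2.trans e⟩
    · exact ⟨1, one_mem _, fun h' => absurd h' h⟩
  choose k hkK hka using hk'
  rw [← D.cardK0, ← Nat.card_prod, ← Nat.card_prod]
  refine (Nat.card_eq_of_bijective (fun p : D.ψ.range × ↥(K0 ⊓ fixer a) =>
    ((⟨(k ((p.1 : GL6) a))⁻¹ * p.1, mem_inf.2 ⟨mul_mem (inv_mem (hle (hkK _))) p.1.2, ?_⟩⟩ : ↥(D.ψ.range ⊓ fixer a)),
      (⟨k ((p.1 : GL6) a) * p.2, mul_mem (hkK _) (mem_inf.1 p.2.2).1⟩ : K0))) ⟨?_, ?_⟩).symm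
  · show ((k ((p.1 : GL6) a))⁻¹ * (p.1 : GL6)) a = a
    rw [gl_mul]
    conv_lhs => arg 2; rw [← hka _ ⟨p.1, rfl⟩]
    rw [gl_inv_apply]
  · rintro ⟨g, s⟩ ⟨g', s'⟩ e
    obtain ⟨e1, e2⟩ := Prod.ext_iff.1 e
    have e2' : k ((g : GL6) a) * (s : GL6) = k ((g' : GL6) a) * s' := congrArg Subtype.val e2
    have hv : (g : GL6) a = (g' : GL6) a := by
      have h := LinearEquiv.congr_fun e2' a
      rw [gl_mul, gl_mul, mem_fixer.1 (mem_inf.1 s.2).2, mem_fixer.1 (mem_inf.1 s'.2).2, hka _ ⟨g, rfl⟩,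
        hka _ ⟨g', rfl⟩] at h
      exact h
    have e1' : (k ((g : GL6) a))⁻¹ * (g : GL6) = (k ((g' : GL6) a))⁻¹ * g' := congrArg Subtype.val e1
    rw [hv] at e1' e2'
    exact Prod.ext (Subtype.ext (mul_left_cancel e1')) (Subtype.ext (mul_left_cancel e2'))
  · rintro ⟨⟨h, hh⟩, ⟨k', hk'⟩⟩
    set v := k' a
    have hv : k v a = v := hka v ⟨⟨k', hle hk'⟩, rfl⟩
    have hga : (k v * h) a = v := by rw [gl_mul, mem_fixer.1 (mem_inf.1 hh).2, hv]
    have hs : (k v)⁻¹ * k' ∈ K0 ⊓ fixer a := mem_inf.2 ⟨mul_mem (inv_mem (hkK v)) hk', by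
      show ((k v)⁻¹ * k') a = a
      rw [gl_mul, show k' a = k v a from hv.symm, gl_inv_apply]⟩
    refine ⟨(⟨k v * h, mul_mem (hle (hkK v)) (mem_inf.1 hh).1⟩, ⟨_, hs⟩), Prod.ext (Subtype.ext ?_) (Subtype.ext ?_)⟩
    · show (k ((k v * h) a))⁻¹ * (k v * h) = h
      rw [hga, inv_mul_cancel_left]
    · show k ((k v * h) a) * ((k v)⁻¹ * k') = k'
      rw [hga, mul_inv_cancel_left]

include D in
/-- Without fusion in the radical the central involution is isolated. -/
theorem isolated (hz : orderOf z = 2) (hP : NoFuse z Q) : Cfsg.IsIsolatedInvolution z := by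
  classical
  haveI : Fact (Nat.Prime 2) := ⟨Nat.prime_two⟩
  refine ⟨hz, fun g hg => ?_⟩
  by_contra hne
  have hmem : g * z * g⁻¹ ∈ HH := mem_centralizer_singleton_iff.2 hg.symm.eq
  let O : Out D := ⟨g, hmem, fun h => hne (hP g h)⟩
  obtain ⟨r, hrJ, hr2, hrm⟩ := O.exists_transvection hP
  -- the partner in the radical
  obtain ⟨e, he, her⟩ := hrJ
  obtain ⟨a, rfl⟩ := D.mem_QG.1 he
  have her' : g * val a * g⁻¹ = (r : G) := her
  have ha1 : val a ≠ 1 := fun h => by
    have hr1 : r = 1 := Subtype.ext (by rw [← her', h]; group; rfl)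
    rw [hr1, map_one] at hrm
    have : moveS (1 : GL6) = ⊥ := eq_bot_iff.2 (by
      rintro _ ⟨x, rfl⟩
      exact AddSubgroup.mem_bot.2 (v6_add_self x))
    rw [this, AddSubgroup.card_bot] at hrm
    norm_num at hrm
  have haz : val a ≠ z := fun h => by
    have hru : r = O.u := Subtype.ext (by rw [← her', h]; rfl)
    rw [hru, O.move_eq hP] at hrm
    norm_num at hrm
  have hsing : qn (D.π a) = 0 := by
    refine (D.sq_iff_val a).1 ?_
    have h : g * (val a * val a) * g⁻¹ = 1 := by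
      rw [show g * (val a * val a) * g⁻¹ = g * val a * g⁻¹ * (g * val a * g⁻¹) by group, her', hr2]
    exact conj_eq_one_iff.1 h
  have ha0 : D.π a ≠ 0 := fun h => ((D.π_eq_zero a).1 h).elim ha1 haz
  -- the centraliser of the transvection
  set C := centralizer ({(r : G)} : Set G)
  set X := HH ⊓ C
  set J := QG ⊓ C
  obtain ⟨T0⟩ : Nonempty (Sylow 2 X) := inferInstance
  set T := (T0 : Subgroup X).map X.subtype with hT
  have hTX : T ≤ X := map_subtype_le _
  have hQH : QG ≤ HH := map_subtype_le _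
  have hJX : J ≤ X := inf_le_inf hQH le_rfl
  have hQ2 : IsPGroup 2 QG := IsPGroup.of_card (n := 13) (by
    rw [card_map_of_injective (centralizer ({z} : Set G)).subtype_injective, D.cardQ])
  have hJT : J ≤ T := by
    haveI : (J.subgroupOf X).Normal := ⟨fun x hx y => by
      have hy := mem_inf.1 y.2
      refine ⟨?_, ?_⟩
      · exact D.pre.conj_mem (mem_centralizer_singleton_iff.1 hy.1) (mem_subgroupOf.1 hx).1
      · have hy2 : (y : G) ∈ C := hy.2
        have hx2 : (x : G) ∈ C := (mem_subgroupOf.1 hx).2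
        show ((y * x * y⁻¹ : X) : G) ∈ C
        exact mul_mem (mul_mem hy2 hx2) (inv_mem hy2)⟩
    have hp : IsPGroup 2 (J.subgroupOf X ⊔ (T0 : Subgroup X) : Subgroup X) :=
      ((hQ2.to_le (inf_le_left : J ≤ QG)).of_equiv (subgroupOfEquivOfLe hJX).symm).to_sup_of_normal_left T0.2
    have h : J.subgroupOf X ≤ T0 := le_sup_left.trans_eq (T0.3 hp le_sup_right)
    intro x hx
    exact ⟨⟨x, hJX hx⟩, h (mem_subgroupOf.2 hx), rfl⟩
  have hT2 : IsPGroup 2 T := T0.2.map _
  have hzJ : z ∈ J := ⟨D.pre.gen.mem, mem_centralizer_singleton_iff.2 (zcomm r).eq.symm⟩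
  have hJcard : 1024 ≤ Nat.card J := by
    rw [show J = QG ⊓ centralizer ({(r : G)} : Set G) from rfl, D.card_meet]
    have h := card_fix_mul_move (D.ψ r)
    rw [hrm] at h
    have := D.card_fix_le r
    omega
  have huniq : ∀ y : G, y * z * y⁻¹ ∈ T → (∀ x ∈ T, x * (y * z * y⁻¹) = y * z * y⁻¹ * x) → y * z * y⁻¹ = z := by
    intro y hy hyc
    by_contra hne'
    have hyH : y * z * y⁻¹ ∈ HH := (mem_inf.1 (hTX hy)).1
    let Y : Out D := ⟨y, hyH, fun h => hne' (hP y h)⟩
    obtain ⟨-, hfix⟩ := Y.fix_eq_move (Y.move_eq hP)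
    have hJY : J ≤ QG ⊓ centralizer ({(Y.u : G)} : Set G) := fun x hx =>
      ⟨hx.1, mem_centralizer_singleton_iff.2 (hyc x (hJT hx))⟩
    have h1 := Subgroup.card_le_of_le hJY
    rw [D.card_meet Y.u] at h1
    have h2 := AddSubgroup.card_le_of_le (D.cent_le_fix Y.u)
    omega
  have hmax : ∀ T' : Subgroup G, T ≤ T' → T' ≤ C → T' ≤ HH → IsPGroup 2 T' → T' ≤ T := by
    intro T' h1 h2 h3 h4
    have hle : T' ≤ X := le_inf h3 h2
    have h5 : T'.subgroupOf X = T0 := T0.3 (h4.of_equiv (subgroupOfEquivOfLe hle).symm) fun x hx =>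
      mem_subgroupOf.2 (h1 ⟨x, hx, rfl⟩)
    intro x hx
    exact ⟨⟨x, hle hx⟩, h5 ▸ mem_subgroupOf.2 hx, rfl⟩
  obtain ⟨j, hj, hrel, hrange⟩ := relIndex_cases D
  -- the upper bound
  have hTle : Nat.card T ≤ 2 ^ (17 + j) := by
    have hTH : T ≤ HH := hTX.trans inf_le_left
    set Y := (T.subgroupOf HH).map D.ψ with hY
    have hY2 : IsPGroup 2 Y := (hT2.of_equiv (subgroupOfEquivOfLe hTH).symm).map _
    have hYr : Y ≤ D.ψ.range := Subgroup.map_le_range _ _
    let f := D.ψ.comp (T.subgroupOf HH).subtype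
    have h1 := Subgroup.card_eq_card_quotient_mul_card_subgroup f.ker
    rw [Nat.card_congr (QuotientGroup.quotientKerEquivRange f).toEquiv, MonoidHom.range_comp, Subgroup.range_subtype,
      Nat.card_congr (subgroupOfEquivOfLe hTH).toEquiv] at h1
    have hker : Nat.card f.ker ≤ 2 ^ 11 := by
      refine (Nat.card_le_card_of_injective (fun x : f.ker => (⟨((x.1.1 : HH) : G),
        (D.ψ_one_iff _).1 (MonoidHom.mem_ker.1 x.2), (mem_inf.1 (hTX (mem_subgroupOf.1 x.1.2))).2⟩ : J))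
        fun x y e => Subtype.ext (Subtype.ext (Subtype.ext (congrArg (fun t : J => (t : G)) e)))).trans ?_
      rw [show J = QG ⊓ centralizer ({(r : G)} : Set G) from rfl, D.card_meet]
      have h := card_fix_mul_move (D.ψ r)
      rw [hrm] at h
      have := AddSubgroup.card_le_of_le (D.cent_le_fix r)
      omega
    have hYK : Nat.card ↥(Y ⊓ K0) ≤ 64 := by
      obtain ⟨n, hn⟩ := IsPGroup.iff_card.1 (hY2.to_le (inf_le_left : Y ⊓ K0 ≤ Y))
      by_contra hlt
      have hn7 : 7 ≤ n := by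
        by_contra h7
        have := Nat.pow_le_pow_right two_pos (show n ≤ 6 by omega)
        omega
      have hn' : n ≤ 7 := by
        by_contra h8
        have h8' : 2 ^ 8 ∣ 9797760 := (pow_dvd_pow 2 (by omega)).trans
          (hn ▸ D.cardK0 ▸ Subgroup.card_dvd_of_le (inf_le_right : Y ⊓ K0 ≤ K0))
        norm_num at h8'
      refine not_centralise D.cardK0 (t := D.ψ r) (D.range_le ⟨r, rfl⟩) ?_ ?_ hrm.le inf_le_right
        (hY2.to_le inf_le_left) (by rw [hn, show n = 7 by omega]; norm_num) ?_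
      · rw [← map_mul, show r * r = 1 from Subtype.ext hr2, map_one]
      · intro h
        have : moveS (D.ψ r) = ⊥ := eq_bot_iff.2 (by
          rintro _ ⟨x, rfl⟩
          refine AddSubgroup.mem_bot.2 ?_
          rw [disp_apply, h]
          exact v6_add_self x)
        rw [this, AddSubgroup.card_bot] at hrm
        norm_num at hrm
      · rintro _ ⟨⟨c, hc, rfl⟩, -⟩
        rw [← map_mul, ← map_mul]
        exact congrArg D.ψ (Subtype.ext (mem_centralizer_singleton_iff.1 (mem_inf.1 (hTX (mem_subgroupOf.1 hc))).2))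
    have hYcard : Nat.card Y ≤ 64 * 2 ^ j := by
      have h := Subgroup.card_mul_index (K0.subgroupOf Y)
      have h2 : Nat.card (K0.subgroupOf Y) = Nat.card ↥(Y ⊓ K0) := by
        rw [← Nat.card_congr (subgroupOfEquivOfLe (inf_le_left : Y ⊓ K0 ≤ Y)).toEquiv, inf_subgroupOf_left]
      rw [h2] at h
      rw [← h, ← hrel]
      refine Nat.mul_le_mul hYK (Subgroup.relIndex_le_of_le_right hYr ?_)
      rw [hrel]; positivity
    rw [h1, show (2 : ℕ) ^ (17 + j) = 64 * 2 ^ j * 2 ^ 11 by rw [pow_add]; ring]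
    exact Nat.mul_le_mul hYcard hker
  -- the lower bound
  set Ce := centralizer ({val a} : Set G)
  set Xe := HH ⊓ Ce
  have hXe : 2 ^ (18 + j) ∣ Nat.card Xe := by
    have hle : Xe ≤ HH := inf_le_left
    let f := D.ψ.comp (Xe.subgroupOf HH).subtype
    have h1 := Subgroup.card_eq_card_quotient_mul_card_subgroup f.ker
    rw [Nat.card_congr (QuotientGroup.quotientKerEquivRange f).toEquiv, MonoidHom.range_comp, Subgroup.range_subtype,
      Nat.card_congr (subgroupOfEquivOfLe hle).toEquiv, D.map_cent ha1 haz] at h1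
    have hker : Nat.card f.ker = 4096 := by
      have e1 : Nat.card f.ker = Nat.card ↥(QG ⊓ Ce) := by
        refine Nat.card_eq_of_bijective (fun x : f.ker => (⟨((x.1.1 : HH) : G), (D.ψ_one_iff _).1 (MonoidHom.mem_ker.1 x.2),
          (mem_subgroupOf.1 x.1.2).2⟩ : ↥(QG ⊓ Ce))) ⟨fun x y e => ?_, fun x => ?_⟩
        · exact Subtype.ext (Subtype.ext (Subtype.ext (congrArg (fun t : ↥(QG ⊓ Ce) => (t : G)) e)))
        · exact ⟨⟨⟨⟨x, hQH x.2.1⟩, mem_subgroupOf.2 ⟨hQH x.2.1, x.2.2⟩⟩,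
            MonoidHom.mem_ker.2 ((D.ψ_one_iff _).2 x.2.1)⟩, rfl⟩
      let L : AddSubgroup V6 := AddSubgroup.zmultiples (D.π a)
      have e2 : D.cent ((a : HH) : G) = orthS L := by
        ext v
        constructor
        · rintro ⟨b, rfl, hb⟩ w ⟨n, rfl⟩
          have h := (D.comm_iff_B b a).1 hb
          show B (D.π b) (n • D.π a) = 0
          rcases Int.even_or_odd n with ⟨m, rfl⟩ | ⟨m, rfl⟩
          · rw [add_smul, v6_add_self, B_zero]
          · rw [add_smul, one_smul, two_mul, add_smul, v6_add_self, zero_add, h]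
        · intro hv
          obtain ⟨b, rfl⟩ := D.π_surj v
          exact ⟨b, rfl, (D.comm_iff_B b a).2 (hv _ (AddSubgroup.mem_zmultiples _))⟩
      have hL : Nat.card L = 2 := by
        rw [Nat.card_zmultiples]
        exact addOrderOf_eq_prime (by rw [two_nsmul, v6_add_self]) ha0
      have h4 := D.card_orth L
      rw [hL, ← e2] at h4
      rw [e1, show QG ⊓ Ce = QG ⊓ centralizer ({((a : HH) : G)} : Set G) from rfl, D.card_meet]
      omega
    rw [hker] at h1
    have hstab := card_range_stab D hsing ha0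
    rw [hrange] at hstab
    have h64 : 64 ∣ Nat.card ↥(K0 ⊓ fixer (D.π a)) := by
      by_cases hS : Small (D.π a)
      · rw [card_small_stab D.cardK0 D.sig_not hS]; norm_num
      · rw [card_large D.cardK0 D.sig_not hsing ha0 hS]; norm_num
    have heq : Nat.card ↥(D.ψ.range ⊓ fixer (D.π a)) = 2 ^ j * Nat.card ↥(K0 ⊓ fixer (D.π a)) :=
      cancel_big _ _ _ hstab
    obtain ⟨c, hc⟩ := h64
    rw [h1, heq, hc]
    exact ⟨c, by rw [pow_add]; ring⟩
  obtain ⟨Pe, hPe⟩ := Sylow.exists_subgroup_card_pow_prime 2 hXe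
  have hPle : (Pe.map Xe.subtype).map (MulAut.conj g).toMonoidHom ≤ C := by
    rintro _ ⟨_, ⟨x, -, rfl⟩, rfl⟩
    refine mem_centralizer_singleton_iff.2 ?_
    rw [← her']
    have h : (x : G) * val a = val a * x := mem_centralizer_singleton_iff.1 (mem_inf.1 x.2).2
    show g * (x : G) * g⁻¹ * (g * val a * g⁻¹) = g * val a * g⁻¹ * (g * (x : G) * g⁻¹)
    rw [show g * (x : G) * g⁻¹ * (g * val a * g⁻¹) = g * ((x : G) * val a) * g⁻¹ by group, h]
    group
  have hmain := two_part_le hT2 (hTX.trans inf_le_right) (hTX.trans inf_le_left) (hJT hzJ) hmax huniq hPle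
    (((IsPGroup.of_card hPe).map _).map _)
  rw [card_map_of_injective (MulAut.conj g).injective, card_map_of_injective Xe.subtype_injective, hPe] at hmain
  have := hmain.trans hTle
  have := Nat.pow_le_pow_iff_right (a := 2) one_lt_two |>.1 this
  omega

end CfsgLib.FiLarge.Chz
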