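import Cfsg.Agent.FiLarge.Chz.TChecks
import Mathlib.GroupTheory.Sylow

/-!
Bounds on 2-subgroups of centralisers of involutions in the doubly extended cover, read from the tables.
-/

set_option autoImplicit false
set_option maxRecDepth 100000
set_option linter.style.haveILetI false

namespace CfsgLib.FiLarge.Chz

open CfsgLib CfsgLib.FiLarge Subgroup
open CfsgLib.FiLarge.Eleven (dec enc dec_enc dec_inj dec_xor dec_zero dec_bits enc_lt)

theorem v6_add_self (a : V6) : a + a = 0 := funext fun i => f4_add_self (a i)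

/-- The displacement. -/
def disp (r : GL6) : V6 →+ V6 := AddMonoidHom.mk' (fun a => r a + a) fun a b => by rw [map_add]; abel

theorem disp_apply (r : GL6) (a : V6) : disp r a = r a + a := rfl

/-- The fixed vectors. -/
def fixS (t : GL6) : AddSubgroup V6 := (disp t).ker

theorem mem_fixS {t : GL6} {a : V6} : a ∈ fixS t ↔ t a = a := by
  show t a + a = 0 ↔ _
  exact ⟨fun h => by rw [← add_zero (t a), ← v6_add_self a, ← add_assoc, h, zero_add],
    fun h => by rw [h, v6_add_self]⟩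

/-- The displaced vectors. -/
def moveS (r : GL6) : AddSubgroup V6 := (disp r).range

theorem move_le_fix {t : GL6} (ht : t * t = 1) : moveS t ≤ fixS t := by
  rintro _ ⟨a, rfl⟩
  rw [mem_fixS, disp_apply, map_add, ← gl_mul, ht, gl_one, add_comm]

theorem card_fix_mul_move (t : GL6) : Nat.card (fixS t) * Nat.card (moveS t) = 4096 := by
  have h := AddSubgroup.card_eq_card_quotient_mul_card_addSubgroup (fixS t)
  have h2 : Nat.card V6 = 4096 := by rw [Nat.card_eq_fintype_card]; rfl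
  have h3 : Nat.card (V6 ⧸ (disp t).ker) = Nat.card (moveS t) :=
    Nat.card_congr (QuotientAddGroup.quotientKerEquivRange (disp t)).toEquiv
  rw [h2, fixS, h3] at h
  rw [fixS, mul_comm]
  exact h.symm

/-- A closed duplicate-free list of codes. -/
def Spn (s : List ℕ) : Prop :=
  s.Nodup ∧ (∀ a ∈ s, a < 4096) ∧ (∀ a ∈ s, ∀ b ∈ s, Nat.xor a b ∈ s) ∧ 0 ∈ s

theorem spn_zero : Spn [0] := ⟨by simp, by simp, by simp, by simp⟩

theorem spn_extend {s : List ℕ} (h : Spn s) {v : ℕ} (hv : v < 4096) (hn : v ∉ s) :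
    Spn (s ++ s.map fun a => Nat.xor a v) := by
  obtain ⟨h1, h2, h3, h0⟩ := h
  have cancel : ∀ a b : ℕ, Nat.xor a (Nat.xor a b) = b := fun a b => by
    show a ^^^ (a ^^^ b) = b
    rw [← Nat.xor_assoc, Nat.xor_self, Nat.zero_xor]
  refine ⟨List.nodup_append.2 ⟨h1, h1.map fun a b e => ?_, fun a ha b hb e => ?_⟩, fun a ha => ?_, fun a ha b hb => ?_,
    List.mem_append_left _ h0⟩
  · have e' : a ^^^ v = b ^^^ v := e
    have := congrArg (· ^^^ v) e'
    simpa [Nat.xor_assoc] using this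
  · obtain ⟨c, hc, rfl⟩ := List.mem_map.1 hb
    refine hn ?_
    have := h3 c hc a ha
    rwa [e, cancel] at this
  · rcases List.mem_append.1 ha with ha | ha
    · exact h2 a ha
    · obtain ⟨c, hc, rfl⟩ := List.mem_map.1 ha
      exact Nat.xor_lt_two_pow (n := 12) (h2 c hc) hv
  · rcases List.mem_append.1 ha with ha | ha <;> rcases List.mem_append.1 hb with hb | hb
    · exact List.mem_append_left _ (h3 a ha b hb)
    · obtain ⟨c, hc, rfl⟩ := List.mem_map.1 hb
      exact List.mem_append_right _ (List.mem_map.2 ⟨_, h3 a ha c hc, Nat.xor_assoc a c v⟩)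
    · obtain ⟨c, hc, rfl⟩ := List.mem_map.1 ha
      refine List.mem_append_right _ (List.mem_map.2 ⟨_, h3 c hc b hb, ?_⟩)
      show c ^^^ b ^^^ v = c ^^^ v ^^^ b
      rw [Nat.xor_assoc, Nat.xor_comm b v, ← Nat.xor_assoc]
    · obtain ⟨c, hc, rfl⟩ := List.mem_map.1 ha
      obtain ⟨d, hd, rfl⟩ := List.mem_map.1 hb
      refine List.mem_append_left _ ?_
      have : Nat.xor (Nat.xor c v) (Nat.xor d v) = Nat.xor c d := by
        show c ^^^ v ^^^ (d ^^^ v) = c ^^^ d
        rw [Nat.xor_assoc, Nat.xor_comm d v, ← Nat.xor_assoc v v d, Nat.xor_self, Nat.zero_xor]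
      rw [this]
      exact h3 c hc d hd

theorem spn_span (cap : ℕ) : ∀ (vs s : List ℕ), (∀ v ∈ vs, v < 4096) → Spn s →
    Spn (span2 cap s vs) ∧ (∀ a ∈ s, a ∈ span2 cap s vs) ∧
      ((span2 cap s vs).length ≤ cap → ∀ v ∈ vs, v ∈ span2 cap s vs) ∧
      ∀ I : AddSubgroup V6, (∀ a ∈ s, dec a ∈ I) → (∀ v ∈ vs, dec v ∈ I) → ∀ a ∈ span2 cap s vs, dec a ∈ I
  | [], s, _, hs => ⟨hs, fun a ha => ha, fun _ v hv => absurd hv List.not_mem_nil, fun _ h _ => h⟩
  | v :: vs, s, hv, hs => by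
    rw [span2]
    split_ifs with h1 h2
    · refine ⟨hs, fun a ha => ha, fun h => absurd h ?_, fun _ h _ => h⟩
      exact not_le.2 (Nat.le_of_ble_eq_true h1)
    · obtain ⟨a1, a2, a3, a4⟩ := spn_span cap vs s (fun a ha => hv a (List.mem_cons_of_mem _ ha)) hs
      refine ⟨a1, a2, fun h a ha => ?_, fun I hI hJ => a4 I hI fun a ha => hJ a (List.mem_cons_of_mem _ ha)⟩
      rcases List.mem_cons.1 ha with rfl | ha
      · exact a2 _ (List.contains_iff_mem.1 h2)
      · exact a3 h a ha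
    · have hn : v ∉ s := fun h => h2 (List.contains_iff_mem.2 h)
      obtain ⟨a1, a2, a3, a4⟩ := spn_span cap vs _ (fun a ha => hv a (List.mem_cons_of_mem _ ha))
        (spn_extend hs (hv v List.mem_cons_self) hn)
      refine ⟨a1, fun a ha => a2 a (List.mem_append_left _ ha), fun h a ha => ?_, fun I hI hJ => ?_⟩
      · rcases List.mem_cons.1 ha with rfl | ha
        · exact a2 _ (List.mem_append_right _ (List.mem_map.2 ⟨0, hs.2.2.2, Nat.zero_xor a⟩))
        · exact a3 h a ha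
      · refine a4 I (fun a ha => ?_) fun a ha => hJ a (List.mem_cons_of_mem _ ha)
        rcases List.mem_append.1 ha with ha | ha
        · exact hI a ha
        · obtain ⟨c, hc, rfl⟩ := List.mem_map.1 ha
          rw [show Nat.xor c v = c ^^^ v from rfl, dec_xor]
          exact add_mem (hI c hc) (hJ v List.mem_cons_self)

theorem span_length_le (cap : ℕ) {vs : List ℕ} (hv : ∀ v ∈ vs, v < 4096) {I : AddSubgroup V6}
    (hI : ∀ v ∈ vs, dec v ∈ I) : (span2 cap [0] vs).length ≤ Nat.card I := by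
  classical
  obtain ⟨⟨h1, h2, -, -⟩, -, -, h4⟩ := spn_span cap vs [0] hv spn_zero
  have h4' := h4 I (fun a ha => by rw [List.mem_singleton.1 ha, dec_zero]; exact zero_mem _) hI
  rw [← List.toFinset_card_of_nodup h1, ← Nat.card_eq_finsetCard]
  exact Nat.card_le_card_of_injective (fun a => (⟨dec a.1, h4' _ (List.mem_toFinset.1 a.2)⟩ : I))
    fun a b e => Subtype.ext (dec_inj (h2 _ (List.mem_toFinset.1 a.2)) (h2 _ (List.mem_toFinset.1 b.2))
      (congrArg Subtype.val e))

theorem diffs_lt {M B : List ℕ} (hM : ∀ c ∈ M, c < 4096) (hB : ∀ b ∈ B, b < 4096) : ∀ v ∈ diffs M B, v < 4096 := by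
  intro v hv
  obtain ⟨a, ha, rfl⟩ := List.mem_map.1 hv
  exact Nat.xor_lt_two_pow (n := 12) (Eleven.app_lt hM) (hB a ha)

theorem diffs_mem {r : GL6} {M B : List ℕ} (h : GRep r M) (hB : ∀ b ∈ B, b < 4096) {S : AddSubgroup V6}
    (hS : ∀ b ∈ B, dec b ∈ S) : ∀ v ∈ diffs M B, dec v ∈ S.map (disp r) := by
  intro v hv
  obtain ⟨a, ha, rfl⟩ := List.mem_map.1 hv
  refine ⟨dec a, hS a ha, ?_⟩
  rw [show Nat.xor (Eleven.app M a) a = Eleven.app M a ^^^ a from rfl, dec_xor, disp_apply, h.app (hB a ha)]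

/-- A small displacement is seen by the test. -/
theorem smallB_of_le {r : GL6} {M B : List ℕ} (h : GRep r M) (hB : ∀ b ∈ B, b < 4096) {S : AddSubgroup V6}
    (hS : ∀ b ∈ B, dec b ∈ S) {k : ℕ} (hk : Nat.card (S.map (disp r)) ≤ 2 ^ k) : smallB k M B = true :=
  Nat.ble_eq_true_of_le ((span_length_le _ (diffs_lt h.1.2 hB) (diffs_mem h hB hS)).trans hk)

theorem basisC_eq : basisC = (List.range 12).map fun k => 2 ^ k := rfl

theorem basisC_lt : ∀ b ∈ basisC, b < 4096 := by decide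

/-- A completed span bounds the displaced vectors. -/
theorem move_le_len {r : GL6} {M : List ℕ} (h : GRep r M) {cap : ℕ}
    (hlen : (span2 cap [0] (diffs M basisC)).length ≤ cap) :
    Nat.card (moveS r) ≤ (span2 cap [0] (diffs M basisC)).length := by
  classical
  obtain ⟨⟨h1, h2, h3, h0⟩, -, h5, -⟩ :=
    spn_span cap (diffs M basisC) [0] (diffs_lt h.1.2 basisC_lt) spn_zero
  have h5' := h5 hlen
  set s := span2 cap [0] (diffs M basisC)
  let I : AddSubgroup V6 :=
    { carrier := {a | enc a ∈ s}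
      zero_mem' := by
        show enc 0 ∈ s
        rw [show enc 0 = 0 by decide +kernel]; exact h0
      add_mem' := fun {a b} (ha : enc a ∈ s) (hb : enc b ∈ s) => by
        show enc (a + b) ∈ s
        rw [dec_enc_add]; exact h3 _ ha _ hb
      neg_mem' := fun {a} (ha : enc a ∈ s) => by
        show enc (-a) ∈ s
        rw [neg_eq_of_add_eq_zero_right (v6_add_self a)]; exact ha }
  have hle : moveS r ≤ I := by
    rintro _ ⟨a, rfl⟩
    rw [← (dec_enc a).1, ← dec_bits ⟨_, enc_lt a⟩, map_sum]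
    refine sum_mem fun j hj => ?_
    have hj' : j < 12 := Finset.mem_range.1 hj
    split
    · have hmem : Nat.xor (Eleven.app M (2 ^ j)) (2 ^ j) ∈ s :=
        h5' _ (List.mem_map.2 ⟨2 ^ j, by rw [basisC_eq]; exact List.mem_map.2 ⟨j, List.mem_range.2 hj', rfl⟩, rfl⟩)
      have hlt : 2 ^ j < 4096 := Nat.pow_lt_pow_right one_lt_two (m := j) (n := 12) hj'
      show enc (disp r (dec (2 ^ j))) ∈ s
      have he : disp r (dec (2 ^ j)) = dec (Nat.xor (Eleven.app M (2 ^ j)) (2 ^ j)) := by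
        rw [disp_apply, show Nat.xor (Eleven.app M (2 ^ j)) (2 ^ j) = Eleven.app M (2 ^ j) ^^^ 2 ^ j from rfl,
          dec_xor, h.app hlt]
      rw [he, show enc (dec (Nat.xor (Eleven.app M (2 ^ j)) (2 ^ j))) = Nat.xor (Eleven.app M (2 ^ j)) (2 ^ j) from
        Eleven.enc_dec ⟨_, Nat.xor_lt_two_pow (n := 12) (Eleven.app_lt h.1.2) hlt⟩]
      exact hmem
    · rw [map_zero]; exact zero_mem _
  rw [← List.toFinset_card_of_nodup h1, ← Nat.card_eq_finsetCard]
  exact Nat.card_le_card_of_injective (fun a => (⟨enc a.1, List.mem_toFinset.2 (hle a.2)⟩ : s.toFinset))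
    fun a b e => Subtype.ext (by rw [← (dec_enc a.1).1, ← (dec_enc b.1).1]; exact congrArg (fun q => dec q.1) e)

/-- A passed test bounds the displaced vectors. -/
theorem move_le_of_smallB {r : GL6} {M : List ℕ} (h : GRep r M) {k : ℕ} (hk : smallB k M basisC = true) :
    Nat.card (moveS r) ≤ 2 ^ k :=
  (move_le_len h (Nat.le_of_ble_eq_true hk)).trans (Nat.le_of_ble_eq_true hk)

theorem eq_of_bounds (n : ℕ) (h1 : 39191040 ≤ n) (h2 : n ≤ 4 * 9797760) : n = 39191040 := by omega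

variable (hK : Nat.card K0 = 9797760)

include hK in
theorem card_Big : Nat.card Big = 39191040 := by
  classical
  have h1 : 9797760 ∣ Nat.card Big := hK ▸ Subgroup.card_dvd_of_le le_sup_left
  have h2 : 512 ∣ Nat.card Big := card_T512 ▸ Subgroup.card_dvd_of_le T512_le
  have h3 : Nat.card Big ≤ 4 * Nat.card K0 := by
    let y : Fin 4 → GL6 := ![1, sigE, u0E, sigE * u0E]
    have hy : ∀ g : Big, ∃ i : Fin 4, (g : GL6) * y i ∈ K0 := fun g => by
      rcases big_cases g.2 with h | h | h | h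
      exacts [⟨0, by show (g : GL6) * 1 ∈ K0; rwa [mul_one]⟩, ⟨1, h⟩, ⟨2, h⟩, ⟨3, h⟩]
    choose f hf using hy
    have := Nat.card_le_card_of_injective (fun g : Big => ((f g, ⟨_, hf g⟩) : Fin 4 × K0)) fun a b e => by
      obtain ⟨e1, e2⟩ := Prod.ext_iff.1 e
      have e3 : (a : GL6) * y (f a) = b * y (f b) := congrArg Subtype.val e2
      rw [show f a = f b from e1] at e3
      exact Subtype.ext (mul_right_cancel e3)
    rwa [Nat.card_prod, Nat.card_fin] at this
  rw [hK] at h3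
  have h4 : Nat.lcm 9797760 512 ∣ Nat.card Big := Nat.lcm_dvd h1 h2
  rw [show Nat.lcm 9797760 512 = 39191040 by decide +kernel] at h4
  exact eq_of_bounds _ (Nat.le_of_dvd Nat.card_pos h4) h3

include hK in
/-- A 2-subgroup of the extension moves into the table. -/
theorem exists_into {P : Subgroup GL6} (hP : P ≤ Big) (h2 : IsPGroup 2 P) :
    ∃ g ∈ Big, ∀ x ∈ P, g * x * g⁻¹ ∈ T512 := by
  classical
  haveI : Fact (Nat.Prime 2) := ⟨Nat.prime_two⟩
  have hc : Nat.card (T512.subgroupOf Big) = 2 ^ (Nat.card Big).factorization 2 := by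
    rw [Nat.card_congr (subgroupOfEquivOfLe T512_le).toEquiv, card_T512, card_Big hK,
      show 39191040 = 2 ^ 9 * 76545 by norm_num, Nat.factorization_mul (by norm_num) (by norm_num),
      Finsupp.add_apply, Nat.Prime.factorization_pow Nat.prime_two, Finsupp.single_eq_same,
      Nat.factorization_eq_zero_of_not_dvd (by norm_num), add_zero]
    rfl
  let S0 : Sylow 2 Big := Sylow.ofCard (T512.subgroupOf Big) hc
  obtain ⟨S, hS⟩ := (h2.of_equiv (subgroupOfEquivOfLe hP).symm).exists_le_sylow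
  obtain ⟨g, hg⟩ := MulAction.exists_smul_eq Big S S0
  refine ⟨g, g.2, fun x hx => ?_⟩
  have h : g * ⟨x, hP hx⟩ * g⁻¹ ∈ (S0 : Subgroup Big) := hg ▸ ⟨⟨x, hP hx⟩, hS (mem_subgroupOf.2 hx), rfl⟩
  exact mem_subgroupOf.1 h

theorem repC_facts (n : ℕ) (hn : n < 28) : ∃ g ∈ T512, GRep g (repC n) := by
  have h := rep_len.2 (repT.getD n (0, 0, [])) (by
    rw [List.getD_eq_getElem _ _ (by rw [rep_len.1]; exact hn)]; exact List.getElem_mem _)
  obtain ⟨g, -, hg⟩ := el_rep _ h.1
  exact ⟨g, ⟨_, h.1, hg⟩, hg⟩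

theorem rep_ok (n : ℕ) (hn : n < 28) : repOk n = true := by
  have h0 := rep_ok0; have h1 := rep_ok1; have h2 := rep_ok2; have h3 := rep_ok3
  simp only [List.all_eq_true] at h0 h1 h2 h3
  by_cases a : n < 7
  · exact h0 n (List.mem_range'_1.2 ⟨Nat.zero_le _, by omega⟩)
  by_cases b : n < 14
  · exact h1 n (List.mem_range'_1.2 ⟨by omega, by omega⟩)
  by_cases c : n < 21
  · exact h2 n (List.mem_range'_1.2 ⟨by omega, by omega⟩)
  exact h3 n (List.mem_range'_1.2 ⟨by omega, by omega⟩)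

theorem invol_entry {s : GL6} (hs : s ∈ T512) (hs2 : s * s = 1) (hs1 : s ≠ 1) :
    ∃ p ∈ invT, GRep s (elC p.1) := by
  obtain ⟨i, hi, hr⟩ := hs
  have h := invol_ok
  simp only [involOk, List.all_eq_true] at h
  have h1 := h i (List.mem_range.2 hi)
  simp only [Bool.or_eq_true, Bool.not_eq_true', beq_eq_false_iff_ne, List.any_eq_true] at h1
  rcases h1 with (h1 | h1) | ⟨p, hp, h1⟩
  · refine absurd ?_ h1
    exact ((hr.mul hr).code (by rw [hs2]; exact grep_one))
  · refine absurd ?_ hs1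
    rw [Nat.eq_of_beq_eq_true h1] at hr
    exact hr.elt (el_facts.2.2.2.1 ▸ grep_one)
  · exact ⟨p, hp, by rw [Nat.eq_of_beq_eq_true h1]; exact hr⟩

include hK in
/-- A 2-group commuting with an involution moves into the table with the involution at a representative. -/
theorem exists_move {t : GL6} (ht : t ∈ Big) (ht2 : t * t = 1) (ht1 : t ≠ 1) {A : Subgroup GL6} (hA : A ≤ Big)
    (hA2 : IsPGroup 2 A) (hc : ∀ a ∈ A, a * t = t * a) :
    ∃ n, n < 28 ∧ ∃ g : GL6, (∀ a ∈ A, g * a * g⁻¹ ∈ T512) ∧ GRep (g * t * g⁻¹) (repC n) := by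
  haveI : Fact (Nat.Prime 2) := ⟨Nat.prime_two⟩
  have hz : IsPGroup 2 (Subgroup.zpowers t) := by
    rintro ⟨g, k, rfl⟩
    refine ⟨1, Subtype.ext ?_⟩
    show (t ^ k) ^ 2 ^ 1 = 1
    rw [pow_one, ← zpow_natCast (t ^ k), zpow_comm, zpow_natCast, pow_two, ht2, one_zpow]
  have hn : Subgroup.zpowers t ≤ normalizer (A : Set GL6) := by
    rw [zpowers_le, mem_normalizer_iff]
    intro a
    constructor
    · intro h
      rwa [← hc a h, mul_inv_cancel_right]
    · intro h
      have h1 := hc _ h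
      have : a = t * a * t⁻¹ := by
        refine mul_left_cancel (a := t) ?_
        rw [← h1]; group
      rwa [this]
  obtain ⟨g, -, hg⟩ := exists_into hK (P := Subgroup.zpowers t ⊔ A) (sup_le (by rwa [zpowers_le]) hA)
    (hz.to_sup_of_normal_right' hA2 hn)
  set s := g * t * g⁻¹
  obtain ⟨p, hp, hpr⟩ := invol_entry (hg t (mem_sup_left (mem_zpowers t)))
    (show g * t * g⁻¹ * (g * t * g⁻¹) = 1 by rw [show g * t * g⁻¹ * (g * t * g⁻¹) = g * (t * t) * g⁻¹ by group,
      ht2, mul_one, mul_inv_cancel])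
    (fun e => ht1 (conj_eq_one_iff.1 e))
  have h := conj_ok
  simp only [conjOk, List.all_eq_true] at h
  have h1 := h p hp
  simp only [Bool.and_eq_true, beq_iff_eq] at h1
  obtain ⟨r, hrT, hr⟩ := repC_facts p.2.1 (Nat.le_of_ble_eq_true h1.1.1.1)
  obtain ⟨x, -, hx⟩ := el_rep p.2.2 (Nat.le_of_ble_eq_true h1.1.1.2)
  have hxT : x ∈ T512 := ⟨_, Nat.le_of_ble_eq_true h1.1.1.2, hx⟩
  have hxs : x * r = s * x := (hx.mul hr).elt (h1.1.2 ▸ hpr.mul hx)
  refine ⟨p.2.1, Nat.le_of_ble_eq_true h1.1.1.1, x⁻¹ * g, fun a ha => ?_, ?_⟩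
  · rw [show x⁻¹ * g * a * (x⁻¹ * g)⁻¹ = x⁻¹ * (g * a * g⁻¹) * x by group]
    exact mul_mem (mul_mem (inv_mem hxT) (hg a (mem_sup_right ha))) hxT
  · rw [show x⁻¹ * g * t * (x⁻¹ * g)⁻¹ = x⁻¹ * (s * x) by simp only [s]; group, ← hxs, inv_mul_cancel_left]
    exact hr

theorem disp_conj (g r : GL6) (a : V6) : disp (g * r * g⁻¹) (g a) = g (disp r a) := by
  rw [disp_apply, disp_apply, map_add, gl_mul, gl_mul, gl_inv_apply]

theorem card_map_conj (g r : GL6) (S : AddSubgroup V6) :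
    Nat.card ((S.map g.toLinearMap.toAddMonoidHom).map (disp (g * r * g⁻¹))) = Nat.card (S.map (disp r)) := by
  have e : (S.map g.toLinearMap.toAddMonoidHom).map (disp (g * r * g⁻¹)) =
      (S.map (disp r)).map g.toLinearMap.toAddMonoidHom := by
    rw [AddSubgroup.map_map, AddSubgroup.map_map]
    congr 1
    exact AddMonoidHom.ext fun a => disp_conj g r a
  rw [e]
  exact (AddSubgroup.card_map_of_injective g.injective)

theorem fix_conj (g t : GL6) : fixS (g * t * g⁻¹) = (fixS t).map g.toLinearMap.toAddMonoidHom := by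
  ext a
  rw [mem_fixS, AddSubgroup.mem_map]
  constructor
  · intro h
    refine ⟨g⁻¹ a, mem_fixS.2 ?_, gl_apply_inv g a⟩
    refine g.injective ?_
    rw [gl_apply_inv]
    exact h
  · rintro ⟨b, hb, rfl⟩
    show (g * t * g⁻¹) (g b) = g b
    rw [gl_mul, gl_mul, gl_inv_apply, mem_fixS.1 hb]

theorem card_move_conj (g r : GL6) : Nat.card (moveS (g * r * g⁻¹)) = Nat.card (moveS r) := by
  have h := card_map_conj g r ⊤
  rw [AddSubgroup.map_top_of_surjective _ g.surjective] at h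
  rw [moveS, moveS, AddMonoidHom.range_eq_map, AddMonoidHom.range_eq_map]
  exact h

/-- The situation at a representative. -/
theorem rep_setup (n : ℕ) (hn : n < 28) {s : GL6} (hs : GRep s (repC n)) :
    (∀ b ∈ fixC n, b < 4096) ∧ (∀ b ∈ fixC n, dec b ∈ fixS s) ∧
      ∀ {a : GL6} {M : List ℕ}, GRep a M → a ∈ T512 → a * s = s * a → M ∈ centC n := by
  have h := rep_ok n hn
  simp only [repOk, Bool.and_eq_true, List.all_eq_true] at h
  refine ⟨fun b hb => Nat.le_of_ble_eq_true (h.1.1.1.1 b hb).1, fun b hb => ?_, fun {a M} ha hT hc => ?_⟩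
  · have hb' := h.1.1.1.1 b hb
    rw [mem_fixS, hs.app (Nat.le_of_ble_eq_true hb'.1), Nat.eq_of_beq_eq_true hb'.2]
  · refine List.mem_filter.2 ⟨?_, beq_iff_eq.2 ((ha.mul hs).code (hc ▸ hs.mul ha))⟩
    obtain ⟨i, hi, hr⟩ := hT
    rw [ha.code hr, elC, List.getD_eq_getElem _ _ (by rw [el_facts.1]; exact hi)]
    exact List.getElem_mem _

/-- An injection into a part of the table. -/
theorem card_le_part {A : Subgroup GL6} {g : GL6} (hA : ∀ a ∈ A, g * a * g⁻¹ ∈ T512) (L : List (List ℕ))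
    (hL : ∀ a ∈ A, ∀ M, GRep (g * a * g⁻¹) M → g * a * g⁻¹ ∈ T512 → M ∈ L) :
    Nat.card A ≤ L.length ∧ (L.length ≤ Nat.card A → ∀ M ∈ L, ∃ a ∈ A, GRep (g * a * g⁻¹) M) := by
  classical
  have h : ∀ a : A, ∃ i, i < 512 ∧ GRep (g * a * g⁻¹) (elC i) := fun a => hA a a.2
  choose f hf using h
  let F : A → L.toFinset := fun a => ⟨elC (f a), List.mem_toFinset.2 (hL a a.2 _ (hf a).2 (hA a a.2))⟩
  have hF : Function.Injective F := fun a b e => by
    have e' : elC (f a) = elC (f b) := congrArg Subtype.val e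
    exact Subtype.ext (mul_left_cancel (mul_right_cancel ((hf a).2.elt (e' ▸ (hf b).2))))
  have h1 := Nat.card_le_card_of_injective F hF
  rw [Nat.card_eq_finsetCard] at h1
  refine ⟨h1.trans L.toFinset_card_le, fun hge M hM => ?_⟩
  have hb : Function.Bijective F := (Nat.bijective_iff_injective_and_card F).2
    ⟨hF, le_antisymm (by rwa [Nat.card_eq_finsetCard]) (by
      rw [Nat.card_eq_finsetCard]; exact L.toFinset_card_le.trans hge)⟩
  obtain ⟨a, ha⟩ := hb.2 ⟨M, List.mem_toFinset.2 hM⟩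
  exact ⟨a, a.2, by rw [← (show elC (f a) = M from congrArg Subtype.val ha)]; exact (hf a).2⟩

variable {t : GL6} (ht : t ∈ Big) (ht2 : t * t = 1) (ht1 : t ≠ 1)

include hK ht ht2 ht1

/-- The displaced space has order 64 or the fixed space at least 256. -/
theorem move_or_fix : Nat.card (moveS t) = 64 ∨ 256 ≤ Nat.card (fixS t) := by
  obtain ⟨n, hn, g, -, hg⟩ := exists_move hK ht ht2 ht1 (A := ⊥) bot_le IsPGroup.of_bot
    (fun a ha => by rw [mem_bot.1 ha, one_mul, mul_one])
  have h := rep_ok n hn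
  simp only [repOk, Bool.and_eq_true, Bool.or_eq_true] at h
  obtain ⟨hlt, hfix, -⟩ := rep_setup n hn hg
  rcases h.1.1.1.2 with e | e
  · left
    have h1 := (Nat.le_of_ble_eq_true e).trans (span_length_le 64 (diffs_lt hg.1.2 basisC_lt)
      (diffs_mem hg basisC_lt (S := ⊤) fun b _ => trivial))
    rw [← AddMonoidHom.range_eq_map, show (disp (g * t * g⁻¹)).range = moveS (g * t * g⁻¹) from rfl,
      card_move_conj] at h1
    have h2 := AddSubgroup.card_le_of_le (move_le_fix ht2)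
    have h3 := card_fix_mul_move t
    have h4 : Nat.card (moveS t) * Nat.card (moveS t) ≤ 4096 := h3 ▸ Nat.mul_le_mul_right _ h2
    have h5 : Nat.card (moveS t) ≤ 64 := by
      by_contra hc
      have := Nat.mul_le_mul (not_le.1 hc) (not_le.1 hc)
      omega
    omega
  · right
    have h1 := (Nat.le_of_ble_eq_true e).trans (span_length_le 256 hlt hfix)
    rwa [fix_conj, AddSubgroup.card_map_of_injective g.injective] at h1

theorem card_small_four {A : Subgroup GL6} (hA : A ≤ Big) (hA2 : IsPGroup 2 A) (hc : ∀ a ∈ A, a * t = t * a)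
    (hs : ∀ a ∈ A, Nat.card ((fixS t).map (disp a)) ≤ 4) : Nat.card A < 128 := by
  obtain ⟨n, hn, g, hAT, hg⟩ := exists_move hK ht ht2 ht1 hA hA2 hc
  have h := rep_ok n hn
  simp only [repOk, Bool.and_eq_true] at h
  obtain ⟨hlt, hfix, hcent⟩ := rep_setup n hn hg
  refine lt_of_le_of_lt (card_le_part hAT _ fun a ha M hM hT => List.mem_filter.2
    ⟨hcent hM hT ?_, ?_⟩).1 (Nat.le_of_ble_eq_true h.1.1.2)
  · rw [show g * a * g⁻¹ * (g * t * g⁻¹) = g * (a * t) * g⁻¹ by group, hc a ha]; group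
  · refine smallB_of_le hM hlt (S := fixS (g * t * g⁻¹)) hfix ?_
    rw [fix_conj, card_map_conj]
    exact hs a ha

theorem card_small_two (hW : Nat.card (moveS t) = 64) {A : Subgroup GL6} (hA : A ≤ Big) (hA2 : IsPGroup 2 A)
    (hc : ∀ a ∈ A, a * t = t * a) (hs : ∀ a ∈ A, Nat.card ((fixS t).map (disp a)) ≤ 2) :
    Nat.card A ≤ 32 ∧ (Nat.card A = 32 → ∃ r ∈ A, r * r = 1 ∧ Nat.card (moveS r) = 4) := by
  obtain ⟨n, hn, g, hAT, hg⟩ := exists_move hK ht ht2 ht1 hA hA2 hc
  have h := rep_ok n hn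
  simp only [repOk, Bool.and_eq_true, Bool.or_eq_true, Bool.not_eq_true', beq_iff_eq] at h
  obtain ⟨hlt, hfix, hcent⟩ := rep_setup n hn hg
  obtain ⟨hle, hsurj⟩ := card_le_part hAT ((centC n).filter fun r => smallB 1 r (fixC n)) fun a ha M hM hT =>
    List.mem_filter.2 ⟨hcent hM hT (by
      rw [show g * a * g⁻¹ * (g * t * g⁻¹) = g * (a * t) * g⁻¹ by group, hc a ha]; group), smallB_of_le hM hlt
        (S := fixS (g * t * g⁻¹)) hfix (by rw [fix_conj, card_map_conj]; exact hs a ha)⟩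
  have hno : ¬ Nat.ble 64 (span2 64 [0] (diffs (repC n) basisC)).length = false := by
    intro e
    have h2 : Nat.card (moveS (g * t * g⁻¹)) = 64 := by rw [card_move_conj, hW]
    have hlen : (span2 64 [0] (diffs (repC n) basisC)).length < 64 := by
      by_contra hc
      rw [Nat.ble_eq_true_of_le (not_lt.1 hc)] at e
      exact Bool.noConfusion e
    have := move_le_len hg hlen.le
    omega
  rcases h.1.2 with (e | e) | e
  · exact absurd e hno
  · have := Nat.le_of_ble_eq_true e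
    exact ⟨by omega, fun h32 => absurd h32 (by omega)⟩
  · obtain ⟨⟨⟨⟨e1, e2⟩, e3⟩, e4⟩, e5⟩ := e
    have e1' := Nat.le_of_ble_eq_true e1
    refine ⟨hle.trans e1', fun h32 => ?_⟩
    obtain ⟨r, hr, hrr⟩ := hsurj (by omega) _ (List.contains_iff_mem.1 e2)
    refine ⟨r, hr, ?_, ?_⟩
    · have h1 : g * r * g⁻¹ * (g * r * g⁻¹) = 1 := (hrr.mul hrr).elt (e3 ▸ grep_one)
      rw [show g * r * g⁻¹ * (g * r * g⁻¹) = g * (r * r) * g⁻¹ by group] at h1
      exact conj_eq_one_iff.1 h1
    · have h4 : Nat.card (moveS r) ≤ 4 := card_move_conj g r ▸ move_le_of_smallB hrr e5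
      have h2 : ¬ Nat.card (moveS r) ≤ 2 := fun hle2 => by
        rw [smallB_of_le hrr basisC_lt (S := ⊤) (fun b _ => trivial) (k := 1) (by
          rw [← AddMonoidHom.range_eq_map]; exact (card_move_conj g r).le.trans hle2)] at e4
        exact Bool.noConfusion e4
      have hdvd : Nat.card (moveS r) ∣ 4096 := Dvd.intro_left _ (card_fix_mul_move r)
      interval_cases hh : Nat.card (moveS r) <;> omega

theorem card_sq {A : Subgroup GL6} (hA : A ≤ Big) (hA2 : IsPGroup 2 A) (hc : ∀ a ∈ A, a * t = t * a)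
    (hs : ∀ a ∈ A, a * a = 1 ∨ a * a = t) : Nat.card A ≤ 224 := by
  obtain ⟨n, hn, g, hAT, hg⟩ := exists_move hK ht ht2 ht1 hA hA2 hc
  have h := sq_ok
  simp only [List.all_eq_true] at h
  have h1 := h n (List.mem_range'_1.2 ⟨Nat.zero_le _, by omega⟩)
  refine (card_le_part hAT _ fun a ha M hM hT => List.mem_filter.2 ⟨?_, ?_⟩).1.trans (Nat.le_of_ble_eq_true h1)
  · obtain ⟨i, hi, hr⟩ := hT
    rw [hM.code hr, elC, List.getD_eq_getElem _ _ (by rw [el_facts.1]; exact hi)]
    exact List.getElem_mem _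
  · have h2 := hM.mul hM
    rw [show g * a * g⁻¹ * (g * a * g⁻¹) = g * (a * a) * g⁻¹ by group] at h2
    rcases hs a ha with e | e <;> rw [e] at h2 <;> simp only [Bool.or_eq_true, beq_iff_eq]
    · rw [mul_one, mul_inv_cancel] at h2
      exact Or.inl (h2.code grep_one)
    · exact Or.inr (h2.code hg)

/-- No other involution is small against one of small displacement. -/
theorem eq_of_small (hW : Nat.card (moveS t) ≤ 4) {s : GL6} (hs : s ∈ Big) (hs2 : s * s = 1) (hs1 : s ≠ 1)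
    (hc : s * t = t * s) (hsm : Nat.card ((fixS t).map (disp s)) ≤ 2) : s = t := by
  haveI : Fact (Nat.Prime 2) := ⟨Nat.prime_two⟩
  obtain ⟨n, hn, g, hAT, hg⟩ := exists_move hK ht ht2 ht1 (A := Subgroup.zpowers s) (by rwa [zpowers_le])
    (by
      rintro ⟨x, k, rfl⟩
      refine ⟨1, Subtype.ext ?_⟩
      show (s ^ k) ^ 2 ^ 1 = 1
      rw [pow_one, ← zpow_natCast (s ^ k), zpow_comm, zpow_natCast, pow_two, hs2, one_zpow])
    (by rintro _ ⟨k, rfl⟩; exact ((show Commute s t from hc).zpow_left k).eq)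
  have h := rep_ok n hn
  simp only [repOk, Bool.and_eq_true, Bool.or_eq_true, Bool.not_eq_true', List.all_eq_true, beq_iff_eq] at h
  obtain ⟨hlt, hfix, hcent⟩ := rep_setup n hn hg
  have hT := hAT s (mem_zpowers s)
  obtain ⟨i, hi, hr⟩ := hT
  have hsmall : smallB 2 (repC n) basisC = true := smallB_of_le hg basisC_lt (S := ⊤) (fun b _ => trivial) (by
    rw [← AddMonoidHom.range_eq_map]; exact (card_move_conj g t).le.trans hW)
  rcases h.2 with e | e
  · rw [hsmall] at e; exact Bool.noConfusion e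
  have hin := hcent hr ⟨i, hi, hr⟩ (by
    rw [show g * s * g⁻¹ * (g * t * g⁻¹) = g * (s * t) * g⁻¹ by group, hc]; group)
  rcases e _ hin with (e1 | e1) | e1
  · exfalso
    have h2 := hr.mul hr
    rw [show g * s * g⁻¹ * (g * s * g⁻¹) = g * (s * s) * g⁻¹ by group, hs2, mul_one, mul_inv_cancel] at h2
    rw [show (Eleven.mul (elC i) (elC i) == idc) = true from beq_iff_eq.2 (h2.code grep_one),
      smallB_of_le hr hlt (S := fixS (g * t * g⁻¹)) hfix (by rw [fix_conj, card_map_conj]; exact hsm)] at e1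
    exact Bool.noConfusion e1
  · exact absurd (conj_eq_one_iff.1 ((e1 ▸ hr).elt grep_one)) hs1
  · exact mul_left_cancel (mul_right_cancel ((e1 ▸ hr).elt hg))

/-- An involution of small displacement centralises no Sylow 2-subgroup of the cover. -/
theorem not_centralise (hW : Nat.card (moveS t) ≤ 4) {P : Subgroup GL6} (hP : P ≤ K0)
    (hP2 : IsPGroup 2 P) (hPc : Nat.card P = 128) (hc : ∀ a ∈ P, a * t = t * a) : False := by
  haveI : Fact (Nat.Prime 2) := ⟨Nat.prime_two⟩
  have hz : IsPGroup 2 (Subgroup.zpowers t) := by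
    rintro ⟨x, k, rfl⟩
    refine ⟨1, Subtype.ext ?_⟩
    show (t ^ k) ^ 2 ^ 1 = 1
    rw [pow_one, ← zpow_natCast (t ^ k), zpow_comm, zpow_natCast, pow_two, ht2, one_zpow]
  have hn : P ≤ normalizer (Subgroup.zpowers t : Set GL6) := by
    intro a ha
    rw [mem_normalizer_iff]
    have key : ∀ k : ℤ, a * t ^ k * a⁻¹ = t ^ k := fun k => by
      rw [((show Commute a t from hc a ha).zpow_right k).eq, mul_inv_cancel_right]
    intro x
    constructor
    · rintro ⟨k, rfl⟩
      exact ⟨k, (key k).symm⟩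
    · rintro ⟨k, hk⟩
      refine ⟨k, ?_⟩
      have hk' : t ^ k = a * x * a⁻¹ := hk
      have := key k
      rw [hk'] at this
      exact hk'.trans (mul_left_cancel (mul_right_cancel this))
  obtain ⟨g, hgB, hg⟩ := exists_into hK (P := P ⊔ Subgroup.zpowers t)
    (sup_le (hP.trans le_sup_left) (by rwa [zpowers_le])) (hP2.to_sup_of_normal_right' hz hn)
  have hBn : Big ≤ normalizer (K0 : Set GL6) := by
    refine sup_le le_normalizer ((Subgroup.closure_le _).2 ?_)
    rintro x (rfl | rfl)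
    exacts [sig_norm, u0_norm]
  set P' := P.map (MulAut.conj g).toMonoidHom
  have hP' : P' ≤ K0 ⊓ T512 := by
    rintro _ ⟨a, ha, rfl⟩
    exact ⟨(mem_normalizer_iff.1 (hBn hgB) a).1 (hP ha), hg a (mem_sup_left ha)⟩
  have hle : Nat.card ↥(K0 ⊓ T512) ≤ 128 := by
    have h1 : Nat.card ↥(K0 ⊓ T512) ∣ 9797760 := hK ▸ Subgroup.card_dvd_of_le inf_le_left
    have h2 : Nat.card ↥(K0 ⊓ T512) ∣ 512 := card_T512 ▸ Subgroup.card_dvd_of_le inf_le_right
    have h3 := Nat.dvd_gcd h1 h2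
    rw [show Nat.gcd 9797760 512 = 128 by decide +kernel] at h3
    exact Nat.le_of_dvd (by norm_num) h3
  have heq : P' = K0 ⊓ T512 := Subgroup.eq_of_le_of_card_ge hP' (by
    rwa [card_map_of_injective (MulAut.conj g).injective, hPc])
  have hst := hg t (mem_sup_right (mem_zpowers t))
  set s := g * t * g⁻¹ with hs
  obtain ⟨p, hp, hpr⟩ := invol_entry hst
    (show g * t * g⁻¹ * (g * t * g⁻¹) = 1 by rw [show g * t * g⁻¹ * (g * t * g⁻¹) = g * (t * t) * g⁻¹ by group,
      ht2, mul_one, mul_inv_cancel])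
    (fun e => ht1 (conj_eq_one_iff.1 e))
  have h := conj_ok
  simp only [conjOk, List.all_eq_true] at h
  have h1 := h p hp
  simp only [Bool.and_eq_true, Bool.or_eq_true, Bool.not_eq_true', List.all_eq_false] at h1
  rcases h1.2 with e | ⟨j, hj, e⟩
  · rw [smallB_of_le hpr basisC_lt (S := ⊤) (fun b _ => trivial) (k := 2) (by
      rw [← AddMonoidHom.range_eq_map]; exact (card_move_conj g t).le.trans hW)] at e
    exact Bool.noConfusion e
  · refine e ?_
    have hj' := List.mem_range.1 hj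
    obtain ⟨x, hx, hxr⟩ := syl_rep ⟨j, hj'⟩
    have hxT : x ∈ T512 := by
      obtain ⟨k, hk, hk'⟩ := el_mul 0 j (by norm_num) (by omega)
      exact ⟨k, hk, hk' ▸ by simpa using (el_facts.2.2.2.1 ▸ grep_one : GRep 1 (elC 0)).mul hxr⟩
    obtain ⟨a, ha, e2⟩ : x ∈ P' := heq ▸ ⟨hx, hxT⟩
    refine beq_iff_eq.2 ((hpr.mul hxr).code ?_)
    have e2' : g * a * g⁻¹ = x := e2
    have hcomm : s * x = x * s := by
      rw [hs, ← e2', show g * t * g⁻¹ * (g * a * g⁻¹) = g * (t * a) * g⁻¹ by group, ← hc a ha]; group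
    rw [hcomm]
    exact hxr.mul hpr

end CfsgLib.FiLarge.Chz
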