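import Cfsg.Agent.FiLarge.Chz.Setting
import Cfsg.Agent.FiLarge.Chz.Tab

/-!
Preimages in the extraspecial radical of subspaces, centralisers of elements acting on it, and lifts of stabilisers.
-/

set_option autoImplicit false
set_option maxRecDepth 100000
set_option linter.style.haveILetI false
set_option linter.unusedSectionVars false
set_option quotPrecheck false

namespace CfsgLib.FiLarge.Chz

open CfsgLib CfsgLib.FiLarge Subgroup

/-- The polar form. -/
def B (a b : V6) : ZMod 2 := qn (a + b) + qn a + qn b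

theorem B_eq (a b : V6) : B a b = trF (herm a b) := polar_qn a b

theorem B_add (a b c : V6) : B (a + b) c = B a c + B b c := by
  rw [B_eq, B_eq, B_eq, herm_add, trF_add]

theorem B_comm (a b : V6) : B a b = B b a := by
  rw [B, B, add_comm a b, add_right_comm]

theorem B_add_right (a b c : V6) : B a (b + c) = B a b + B a c := by
  rw [B_comm, B_add, B_comm b, B_comm c]

theorem z2_self : ∀ a : ZMod 2, a + a = 0 := by decide

theorem B_self (a : V6) : B a a = 0 := by
  rw [B, v6_add_self, show qn (0 : V6) = 0 by decide +kernel, zero_add, z2_self]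

theorem B_zero (a : V6) : B a 0 = 0 := by
  rw [B, add_zero, show qn (0 : V6) = 0 by decide +kernel, add_zero, z2_self]

theorem z2_iff : ∀ a b c : ZMod 2, a + b + c = 0 ↔ a = b + c := by decide

theorem B_iff (a b : V6) : B a b = 0 ↔ qn (a + b) = qn a + qn b := z2_iff _ _ _

/-- The vectors orthogonal to a subspace. -/
def orthS (S : AddSubgroup V6) : AddSubgroup V6 where
  carrier := {a | ∀ b ∈ S, B a b = 0}
  zero_mem' := fun b _ => by rw [B_comm, B_zero]
  add_mem' := fun {a a'} ha ha' b hb => by rw [B_add, ha b hb, ha' b hb, add_zero]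
  neg_mem' := fun {a} ha b hb => by rw [neg_eq_of_add_eq_zero_right (v6_add_self a)]; exact ha b hb

/-- A subgroup of bounded index bounds the image. -/
theorem card_map_two {A B : Type*} [AddCommGroup A] [AddCommGroup B] [Finite A] (f : A →+ B)
    {S' S : AddSubgroup A} (hle : S' ≤ S) (h : Nat.card S ≤ 2 * Nat.card S') :
    Nat.card (S.map f) ≤ 2 * Nat.card (S'.map f) := by
  classical
  by_cases hSS : S ≤ S'
  · rw [le_antisymm hle hSS]
    omega
  obtain ⟨x, hx, hx'⟩ := SetLike.not_le_iff_exists.1 hSS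
  have hcov : ∀ y ∈ S, y ∈ S' ∨ y - x ∈ S' := by
    intro y hy
    let F : Bool × S' → S := fun p => ⟨(bif p.1 then x else 0) + (p.2 : A), add_mem (by
      cases p.1
      exacts [zero_mem _, hx]) (hle p.2.2)⟩
    have hF : Function.Injective F := by
      rintro ⟨b, a⟩ ⟨b', a'⟩ e
      have e' : (bif b then x else 0) + (a : A) = (bif b' then x else 0) + (a' : A) := congrArg Subtype.val e
      cases b <;> cases b' <;> simp only [cond_true, cond_false, zero_add] at e'
      · exact Prod.ext rfl (Subtype.ext e')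
      · exact absurd (by rw [show x = (a : A) - (a' : A) by rw [e']; abel]; exact sub_mem a.2 a'.2) hx'
      · exact absurd (by rw [show x = (a' : A) - (a : A) by rw [← e']; abel]; exact sub_mem a'.2 a.2) hx'
      · exact Prod.ext rfl (Subtype.ext (add_left_cancel e'))
    have hb : Function.Bijective F := (Nat.bijective_iff_injective_and_card F).2 ⟨hF, le_antisymm
      (Nat.card_le_card_of_injective F hF) (by rw [Nat.card_prod, Nat.card_eq_fintype_card (α := Bool), Fintype.card_bool]; exact h)⟩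
    obtain ⟨⟨b, a⟩, e⟩ := hb.2 ⟨y, hy⟩
    have e' : (bif b then x else 0) + (a : A) = y := congrArg Subtype.val e
    cases b
    · left; rw [← e']; simp
    · right; rw [← e']; simp
  let G' : Bool × S'.map f → S.map f := fun p => ⟨(bif p.1 then f x else 0) + (p.2 : B), add_mem (by
    cases p.1
    exacts [zero_mem _, ⟨x, hx, rfl⟩]) (AddSubgroup.map_mono hle p.2.2)⟩
  have hG : Function.Surjective G' := by
    rintro ⟨_, y, hy, rfl⟩
    rcases hcov y hy with h' | h'
    · exact ⟨(false, ⟨f y, y, h', rfl⟩), Subtype.ext (zero_add _)⟩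
    · exact ⟨(true, ⟨f (y - x), y - x, h', rfl⟩), Subtype.ext (by simp [G', map_sub])⟩
  haveI : Finite (S'.map f) := Finite.of_surjective (fun a : S' => (⟨f a, a, a.2, rfl⟩ : S'.map f)) fun b => by
    obtain ⟨a, ha, e⟩ := b.2
    exact ⟨⟨a, ha⟩, Subtype.ext e⟩
  refine (Nat.card_le_card_of_surjective G' hG).trans_eq ?_
  rw [Nat.card_prod, Nat.card_eq_fintype_card (α := Bool), Fintype.card_bool]

namespace Dz

variable {G : Type*} [Group G] [Finite G] {z : G} {Q : Subgroup (centralizer ({z} : Set G))} [Q.Normal]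
  (D : Dz z Q)

local notation "HH" => centralizer ({z} : Set G)
local notation "QG" => Q.map (centralizer ({z} : Set G)).subtype

/-- The underlying element. -/
abbrev val (a : Q) : G := ((a : centralizer ({z} : Set G)) : G)

theorem π_one : D.π 1 = 0 := (D.π_eq_zero 1).2 (Or.inl rfl)

theorem π_inv (a : Q) : D.π a⁻¹ = D.π a := by
  have h : D.π a⁻¹ + D.π a = 0 := by rw [← D.π_mul, inv_mul_cancel, D.π_one]
  rw [← add_zero (D.π a⁻¹), ← v6_add_self (D.π a), ← add_assoc, h, zero_add]

/-- The centre in the radical. -/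
noncomputable def zQ : Q :=
  ⟨⟨z, mem_centralizer_singleton_iff.2 rfl⟩, by
    obtain ⟨c, hc, e⟩ := D.pre.gen.mem
    rw [show (⟨z, mem_centralizer_singleton_iff.2 rfl⟩ : HH) = c from Subtype.ext e.symm]
    exact hc⟩

theorem val_zQ : val D.zQ = z := rfl

theorem π_zQ : D.π D.zQ = 0 := (D.π_eq_zero _).2 (Or.inr rfl)

include D in
theorem mem_QG {x : G} : x ∈ QG ↔ ∃ a : Q, val a = x :=
  ⟨fun ⟨c, hc, e⟩ => ⟨⟨c, hc⟩, e⟩, fun ⟨a, e⟩ => ⟨a.1, a.2, e⟩⟩

theorem val_mem (a : Q) : val a ∈ QG := mem_map_of_mem _ a.2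

theorem val_inj {a b : Q} (h : val a = val b) : a = b := Subtype.ext (Subtype.ext h)

theorem eq_of_π {a b : Q} (h : D.π a = D.π b) : val b = val a ∨ val b = val a * z := by
  have h0 : D.π (a⁻¹ * b) = 0 := by rw [D.π_mul, D.π_inv, h, v6_add_self]
  have e0 : val (a⁻¹ * b) = (val a)⁻¹ * val b := rfl
  rcases (D.π_eq_zero _).1 h0 with e | e <;> rw [show ((((a⁻¹ * b : Q) : HH)) : G) = _ from e0] at e
  · exact Or.inl (inv_mul_eq_one.1 e).symm
  · exact Or.inr (inv_mul_eq_iff_eq_mul.1 e)

include D in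
theorem comm_iff_B (a b : Q) : val a * val b = val b * val a ↔ B (D.π a) (D.π b) = 0 := by
  rw [B_iff, ← D.comm_iff]
  exact ⟨fun h => val_inj h, fun h => congrArg val h⟩

include D in
theorem sq_iff_val (a : Q) : val a * val a = 1 ↔ qn (D.π a) = 0 := by
  rw [← D.sq_iff]
  exact ⟨fun h => val_inj h, fun h => congrArg val h⟩

theorem ψ_one_iff (c : HH) : D.ψ c = 1 ↔ (c : G) ∈ QG := by
  rw [← MonoidHom.mem_ker, D.ker]
  constructor
  · exact fun h => mem_map_of_mem _ h
  · rintro ⟨d, hd, e⟩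
    rwa [← (Subtype.ext e : d = c)]

theorem act_val {c : HH} {a b : Q} (h : (c : G) * val a * (c : G)⁻¹ = val b) : D.ψ c (D.π a) = D.π b := by
  rw [← D.act]
  exact congrArg D.π (val_inj h)

theorem conj_val (c : HH) (a : Q) : val (MulAut.conjNormal c a) = (c : G) * val a * (c : G)⁻¹ := rfl

theorem zcomm (c : HH) : Commute (c : G) z := mem_centralizer_singleton_iff.1 c.2

/-- The subspace as a subgroup of the radical. -/
def preQ (S : AddSubgroup V6) : Subgroup Q where
  carrier := {a | D.π a ∈ S}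
  one_mem' := by show D.π 1 ∈ S; rw [D.π_one]; exact zero_mem _
  mul_mem' := fun {a b} ha hb => by show D.π (a * b) ∈ S; rw [D.π_mul]; exact add_mem ha hb
  inv_mem' := fun {a} ha => by show D.π a⁻¹ ∈ S; rw [D.π_inv]; exact ha

/-- The preimage of a subspace. -/
def preS (S : AddSubgroup V6) : Subgroup G :=
  (D.preQ S).map ((centralizer ({z} : Set G)).subtype.comp Q.subtype)

theorem mem_preS {S : AddSubgroup V6} {x : G} : x ∈ D.preS S ↔ ∃ a : Q, D.π a ∈ S ∧ val a = x := Iff.rfl

theorem preS_le (S : AddSubgroup V6) : D.preS S ≤ QG := by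
  rintro _ ⟨a, -, rfl⟩
  exact val_mem a

theorem card_preS (S : AddSubgroup V6) : Nat.card (D.preS S) = 2 * Nat.card S := by
  rw [preS, card_map_of_injective (fun a b h => val_inj h)]
  let f : D.preQ S →* Multiplicative S :=
    { toFun := fun a => Multiplicative.ofAdd ⟨D.π a, a.2⟩
      map_one' := congrArg Multiplicative.ofAdd (Subtype.ext D.π_one)
      map_mul' := fun a b => congrArg Multiplicative.ofAdd (Subtype.ext (D.π_mul _ _)) }
  have hf : Function.Surjective f := fun s => by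
    obtain ⟨a, ha⟩ := D.π_surj (Multiplicative.toAdd s).1
    exact ⟨⟨a, show D.π a ∈ S from ha ▸ (Multiplicative.toAdd s).2⟩, congrArg Multiplicative.ofAdd (Subtype.ext ha)⟩
  rw [Subgroup.card_eq_card_quotient_mul_card_subgroup f.ker,
    Nat.card_congr (QuotientGroup.quotientKerEquivOfSurjective f hf).toEquiv,
    show Nat.card (Multiplicative S) = Nat.card S from Nat.card_congr Multiplicative.toAdd]
  have hk : Nat.card f.ker = 2 := by
    rw [Nat.card_eq_two_iff]
    let zz : f.ker := ⟨⟨D.zQ, show D.π D.zQ ∈ S by rw [D.π_zQ]; exact zero_mem _⟩,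
      MonoidHom.mem_ker.2 (congrArg Multiplicative.ofAdd (Subtype.ext D.π_zQ))⟩
    refine ⟨1, zz, fun e => D.pre.gen.ne_one (congrArg (fun a : f.ker => val a.1.1) e).symm, ?_⟩
    refine Set.eq_univ_of_forall fun a => ?_
    have h : D.π a.1.1 = 0 := congrArg (fun m : Multiplicative S => ((Multiplicative.toAdd m : S) : V6)) (MonoidHom.mem_ker.1 a.2)
    rcases (D.π_eq_zero _).1 h with e | e
    · exact Or.inl (Subtype.ext (Subtype.ext (val_inj e)))
    · exact Or.inr (Subtype.ext (Subtype.ext (val_inj e)))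
  rw [hk, mul_comm]

include D in
theorem card_orth (S : AddSubgroup V6) : Nat.card S * Nat.card (orthS S) = 4096 := by
  have hz : z ∈ D.preS S := ⟨D.zQ, show D.π D.zQ ∈ S by rw [D.π_zQ]; exact zero_mem _, rfl⟩
  have h := Extra2.card_mul_card_centralizer D.pre.gen hz (D.preS_le S)
  have he : QG ⊓ centralizer (D.preS S : Set G) = D.preS (orthS S) := by
    ext x
    constructor
    · rintro ⟨hx, hc⟩
      obtain ⟨a, rfl⟩ := D.mem_QG.1 hx
      refine ⟨a, fun b hb => ?_, rfl⟩
      obtain ⟨b', rfl⟩ := D.π_surj b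
      exact (D.comm_iff_B a b').1 (mem_centralizer_iff.1 hc _ ⟨b', hb, rfl⟩).symm
    · rintro ⟨a, ha, rfl⟩
      refine ⟨val_mem a, mem_centralizer_iff.2 ?_⟩
      rintro _ ⟨b, hb, rfl⟩
      exact ((D.comm_iff_B a b).2 (ha _ hb)).symm
  rw [he, D.card_preS, D.card_preS, card_map_of_injective (centralizer ({z} : Set G)).subtype_injective, D.cardQ] at h
  nlinarith

/-- The image of the centraliser in the radical. -/
def cent (x : G) : AddSubgroup V6 where
  carrier := {v | ∃ a : Q, D.π a = v ∧ val a * x = x * val a}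
  zero_mem' := ⟨1, D.π_one, show (1 : G) * x = x * 1 by rw [one_mul, mul_one]⟩
  add_mem' := by
    rintro _ _ ⟨a, rfl, ha⟩ ⟨b, rfl, hb⟩
    refine ⟨a * b, D.π_mul a b, ?_⟩
    exact (Commute.mul_left (show Commute (val a) x from ha) (show Commute (val b) x from hb)).eq
  neg_mem' := by
    rintro _ ⟨a, rfl, ha⟩
    exact ⟨a, (neg_eq_of_add_eq_zero_right (v6_add_self _)).symm, ha⟩

theorem meet_eq (c : HH) : QG ⊓ centralizer ({(c : G)} : Set G) = D.preS (D.cent c) := by
  ext x
  constructor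
  · rintro ⟨hx, hc⟩
    obtain ⟨a, rfl⟩ := D.mem_QG.1 hx
    exact ⟨a, ⟨a, rfl, mem_centralizer_singleton_iff.1 hc⟩, rfl⟩
  · rintro ⟨a, ⟨b, hb, hbc⟩, rfl⟩
    refine ⟨val_mem a, mem_centralizer_singleton_iff.2 ?_⟩
    show Commute (val a) (c : G)
    rcases D.eq_of_π hb with e | e <;> rw [e]
    exacts [hbc, (show Commute (val b) (c : G) from hbc).mul_left (zcomm c).symm]

theorem card_meet (c : HH) : Nat.card ↥(QG ⊓ centralizer ({(c : G)} : Set G)) = 2 * Nat.card (D.cent c) := by
  rw [D.meet_eq, D.card_preS]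

theorem cent_le_fix (c : HH) : D.cent c ≤ fixS (D.ψ c) := by
  rintro _ ⟨a, rfl, ha⟩
  refine mem_fixS.2 (D.act_val ?_)
  rw [← ha, mul_inv_cancel_right]

theorem fix_cases (c : HH) {a : Q} (h : D.π a ∈ fixS (D.ψ c)) :
    (c : G) * val a * (c : G)⁻¹ = val a ∨ (c : G) * val a * (c : G)⁻¹ = val a * z := by
  have e : D.π a = D.π (MulAut.conjNormal c a) := by rw [D.act, mem_fixS.1 h]
  exact D.eq_of_π e

theorem card_fix_le (c : HH) : Nat.card (fixS (D.ψ c)) ≤ 2 * Nat.card (D.cent c) := by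
  classical
  by_cases hall : fixS (D.ψ c) ≤ D.cent c
  · have := AddSubgroup.card_le_of_le hall
    omega
  obtain ⟨v, hv, hv'⟩ := SetLike.not_le_iff_exists.1 hall
  obtain ⟨a0, rfl⟩ := D.π_surj v
  have hnot : (c : G) * val a0 * (c : G)⁻¹ ≠ val a0 := fun e => hv' ⟨a0, rfl, (mul_inv_eq_iff_eq_mul.1 e).symm⟩
  have h0 := (D.fix_cases c hv).resolve_left hnot
  have key : ∀ w ∈ fixS (D.ψ c), w ∉ D.cent c → w + D.π a0 ∈ D.cent c := by
    intro w hw hw'
    obtain ⟨b, rfl⟩ := D.π_surj w
    have hb := (D.fix_cases c hw).resolve_left fun e => hw' ⟨b, rfl, (mul_inv_eq_iff_eq_mul.1 e).symm⟩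
    refine ⟨b * a0, D.π_mul b a0, (mul_inv_eq_iff_eq_mul.1 ?_).symm⟩
    show (c : G) * (val b * val a0) * (c : G)⁻¹ = val b * val a0
    rw [show (c : G) * (val b * val a0) * (c : G)⁻¹ = ((c : G) * val b * (c : G)⁻¹) * ((c : G) * val a0 * (c : G)⁻¹) by
      group, hb, h0]
    calc val b * z * (val a0 * z) = val b * (z * val a0) * z := by group
      _ = val b * val a0 * (z * z) := by rw [← (D.pre.gen.comm_z _ (val_mem a0)).eq]; group
      _ = val b * val a0 := by rw [D.pre.gen.sq, mul_one]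
  let F : fixS (D.ψ c) → Bool × D.cent c := fun w =>
    if h : (w : V6) ∈ D.cent c then (false, ⟨w, h⟩) else (true, ⟨(w : V6) + D.π a0, key _ w.2 h⟩)
  have hF : Function.Injective F := by
    intro w w' e
    simp only [F] at e
    split_ifs at e with h1 h2 <;> simp only [Prod.mk.injEq, Subtype.mk.injEq, Bool.false_eq_true, Bool.true_eq_false,
      false_and, true_and] at e
    · exact Subtype.ext e
    · exact Subtype.ext (add_right_cancel e)
  have := Nat.card_le_card_of_injective F hF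
  rw [Nat.card_prod, Nat.card_eq_fintype_card (α := Bool), Fintype.card_bool] at this
  exact this

theorem orth_fix_le (c : HH) : orthS (fixS (D.ψ c)) ≤ moveS (D.ψ c) := by
  have h1 : moveS (D.ψ c) ≤ orthS (fixS (D.ψ c)) := by
    rintro _ ⟨x, rfl⟩ b hb
    rw [disp_apply, B_add]
    have : B (D.ψ c x) b = B x b := by
      conv_lhs => rw [← mem_fixS.1 hb]
      simp only [B, ← map_add, D.inv]
    rw [this, z2_self]
  refine (le_of_eq (AddSubgroup.eq_of_le_of_card_ge h1 ?_).symm)
  have h3 := D.card_orth (fixS (D.ψ c))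
  have h4 := card_fix_mul_move (D.ψ c)
  exact le_of_eq (Nat.eq_of_mul_eq_mul_left Nat.card_pos (h3.trans h4.symm))

include D in
theorem exists_flip {a : Q} (h1 : val a ≠ 1) (hz : val a ≠ z) :
    ∃ q : Q, val q * val a * (val q)⁻¹ = val a * z := by
  obtain ⟨x, hx, e⟩ := Extra2.exists_conj_mul D.pre.gen (val_mem a) h1 hz
  obtain ⟨q, hq, rfl⟩ := hx
  exact ⟨⟨q, hq⟩, e⟩

/-- The stabiliser of a vector is the image of the centraliser of a lift. -/
theorem map_cent {a : Q} (h1 : val a ≠ 1) (hz : val a ≠ z) :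
    ((centralizer ({z} : Set G) ⊓ centralizer ({val a} : Set G)).subgroupOf HH).map D.ψ =
      D.ψ.range ⊓ fixer (D.π a) := by
  ext g
  constructor
  · rintro ⟨c, hc, rfl⟩
    refine ⟨⟨c, rfl⟩, D.act_val ?_⟩
    rw [mul_inv_eq_iff_eq_mul]
    exact mem_centralizer_singleton_iff.1 (mem_subgroupOf.1 hc).2
  · rintro ⟨⟨c, rfl⟩, hfix⟩
    have e : D.π a = D.π (MulAut.conjNormal c a) := by rw [D.act]; exact hfix.symm
    rcases D.eq_of_π e with e | e
    · exact ⟨c, mem_subgroupOf.2 ⟨c.2, mem_centralizer_singleton_iff.2 (mul_inv_eq_iff_eq_mul.1 e)⟩, rfl⟩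
    · obtain ⟨q, hq⟩ := D.exists_flip h1 hz
      refine ⟨(q : HH) * c, mem_subgroupOf.2 ⟨((q : HH) * c).2, mem_centralizer_singleton_iff.2 ?_⟩, ?_⟩
      · refine mul_inv_eq_iff_eq_mul.1 ?_
        show val q * (c : G) * val a * (val q * (c : G))⁻¹ = val a
        rw [show val q * (c : G) * val a * (val q * (c : G))⁻¹ = val q * ((c : G) * val a * (c : G)⁻¹) * (val q)⁻¹ by
          group, ← conj_val, e]
        calc val q * (val a * z) * (val q)⁻¹ = val q * val a * (val q)⁻¹ * (val q * z * (val q)⁻¹) := by group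
          _ = val a * z * z := by rw [hq, (D.pre.gen.comm_z _ (val_mem q)).eq, mul_inv_cancel_right]
          _ = val a := by rw [mul_assoc, D.pre.gen.sq, mul_one]
      · rw [map_mul, (D.ψ_one_iff _).2 (val_mem q), one_mul]

end Dz

end CfsgLib.FiLarge.Chz
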