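import Cfsg.Agent.FiLarge.Chz.Split
import Cfsg.Agent.KGroup.CharP
import Cfsg.Agent.FiThree.Fischer
import Cfsg.Agent.Invol.IsolatedApps
import Cfsg.Agent.S1715

/-!
The groups with a centraliser of an involution of the two largest Fischer types.
-/

set_option autoImplicit false
set_option maxRecDepth 100000
set_option linter.style.haveILetI false
set_option linter.unusedSectionVars false
set_option quotPrecheck false

namespace CfsgLib.FiLarge.Chz

open CfsgLib CfsgLib.FiLarge Subgroup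
open Dz (val val_mem val_inj zcomm)

/-- An element over a coset of an involution normalising the cover squares into the cover. -/
theorem sq_mem_of {g t : GL6} (ht : t * t = 1) (hn : t ∈ normalizer (K0 : Set GL6)) (h : g * t ∈ K0) :
    g * g ∈ K0 := by
  have h2 := (mem_normalizer_iff.1 hn _).1 h
  rw [inv_eq_of_mul_eq_one_right ht] at h2
  have e : g * t * (t * (g * t) * t) = g * (t * t) * g * (t * t) := by group
  have := mul_mem h h2
  rwa [e, ht, mul_one, mul_one] at this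

theorem big_sq {g : GL6} (hg : g ∈ Big) : g * g ∈ K0 := by
  rcases big_cases hg with h | h | h | h
  · exact mul_mem h h
  · exact sq_mem_of sigE_sq sig_norm h
  · exact sq_mem_of u0E_sq u0_norm h
  · refine sq_mem_of ?_ (mul_mem sig_norm u0_norm) h
    rw [mul_assoc, ← mul_assoc u0E, ← sig_u0, mul_assoc, u0E_sq, mul_one, sigE_sq]

theorem two_of_four (a : ℕ) (h : a * 2 = 4) : a = 2 := by omega

theorem four_mul_eq (n : ℕ) (h : n = 2 ^ 2 * 9797760) : n = 39191040 := by omega

theorem eq_of_cover_index {n : ℕ} (h : n = 2 ^ 0 * 9797760) : n = 9797760 := by omega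

variable {G : Type*} [Group G] [Finite G] {z : G}

local notation "HH" => centralizer ({z} : Set G)

/-- A normal subgroup of index two with the centraliser data of the simple Fischer group. -/
theorem split_case (hz : orderOf z = 2) (Q : Subgroup (centralizer ({z} : Set G))) [Q.Normal]
    (hQP : Cfsg.pCore 2 ↥(centralizer ({z} : Set G)) = Q)
    (hCQ : centralizer (Q : Set ↥(centralizer ({z} : Set G))) ≤ Q)
    (hQ : Cfsg.IsExtraspecial 2 Q) (hcard : Nat.card Q = 2 ^ 13)
    (N Kb : Subgroup (centralizer ({z} : Set G))) [N.Normal] [Kb.Normal] (hQN : Q ≤ N) (hNK : N ≤ Kb)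
    (hN : Nat.card N = 3 * Nat.card Q) {F : Type} [Field F] [Fintype F] (hF : Fintype.card F = 9)
    (e : Kb ⧸ N.subgroupOf Kb ≃* Cfsg.PSU 4 F 3) (hK4 : Kb.index = 4)
    {M : Subgroup G} [M.Normal] (hMi : M.index = 2) (hKM : Kb.map (centralizer ({z} : Set G)).subtype ≤ M)
    {d : centralizer ({z} : Set G)} (hd : (d : G) ∉ M) {x : G}
    (hx : x * z * x⁻¹ ∈ Q.map (centralizer ({z} : Set G)).subtype) (hxz : x * z * x⁻¹ ≠ z) (hzM : z ∈ M) :
    Cfsg.Spor.IsoFi24' ↥M := by
  classical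
  haveI : Fact (Nat.Prime 2) := ⟨Nat.prime_two⟩
  let zM : ↥M := ⟨z, hzM⟩
  let φ : ↥(centralizer ({zM} : Set ↥M)) →* HH :=
    { toFun := fun h => ⟨(h : ↥M), mem_centralizer_singleton_iff.2
        (congrArg Subtype.val (mem_centralizer_singleton_iff.1 h.2))⟩
      map_one' := rfl
      map_mul' := fun _ _ => rfl }
  have hφ : Function.Injective φ := fun a b h => Subtype.ext (Subtype.ext (congrArg (fun t : HH => (t : G)) h))
  have hr : φ.range = M.subgroupOf HH := by
    ext c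
    constructor
    · rintro ⟨h, rfl⟩; exact mem_subgroupOf.2 (h : ↥M).2
    · intro hc
      exact ⟨⟨⟨c, mem_subgroupOf.1 hc⟩, mem_centralizer_singleton_iff.2
        (Subtype.ext (mem_centralizer_singleton_iff.1 c.2))⟩, rfl⟩
  haveI hrn : φ.range.Normal := hr ▸ inferInstance
  have hKr : Kb ≤ φ.range := fun c hc => by
    rw [hr]; exact mem_subgroupOf.2 (hKM (mem_map_of_mem _ hc))
  have hNr : N ≤ φ.range := hNK.trans hKr
  have hQr : Q ≤ φ.range := hQN.trans hNr
  let pull : ∀ A : Subgroup HH, A ≤ φ.range → ↥(A.comap φ) ≃* ↥A := fun A hA =>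
    ((A.comap φ).equivMapOfInjective φ hφ).trans (MulEquiv.subgroupCongr (map_comap_eq_self hA))
  have hcardp : ∀ A, A ≤ φ.range → Nat.card ↥(A.comap φ) = Nat.card A := fun A hA =>
    Nat.card_congr (pull A hA).toEquiv
  -- the index
  have hr2 : φ.range.index = 2 := by
    refine ((Nat.dvd_prime Nat.prime_two).1 ?_).resolve_left fun h => hd ?_
    · rw [hr, ← hMi]; exact Subgroup.relIndex_dvd_index_of_normal M HH
    · have h1 : d ∈ φ.range := by rw [Subgroup.index_eq_one.1 h]; exact mem_top d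
      rw [hr] at h1
      exact mem_subgroupOf.1 h1
  have hK2 : (Kb.comap φ).index = 2 := by
    rw [Subgroup.index_comap]
    refine two_of_four _ ?_
    rw [← hr2, Subgroup.relIndex_mul_index hKr, hK4]
  -- the radical
  have hP : Cfsg.pCore 2 ↥(centralizer ({zM} : Set ↥M)) = Q.comap φ := by
    refine le_antisymm ?_ (Solvable.le_pCore 2 inferInstance ?_)
    · let θ := MonoidHom.ofInjective hφ
      haveI : (Cfsg.pCore 2 φ.range).Characteristic := characteristic_iff_map_le.mpr fun a =>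
        Solvable.le_pCore 2 ((Solvable.pCore_normal 2).map _ a.surjective) ((Solvable.isPGroup_pCore 2).map _)
      have h1 : (Cfsg.pCore 2 φ.range).map φ.range.subtype ≤ Q := by
        rw [← hQP]
        exact Solvable.le_pCore 2 inferInstance ((Solvable.isPGroup_pCore 2).map _)
      intro p hp
      have h2 : θ p ∈ Cfsg.pCore 2 φ.range :=
        Solvable.le_pCore 2 ((Solvable.pCore_normal 2).map _ θ.surjective) ((Solvable.isPGroup_pCore 2).map θ.toMonoidHom)
          (mem_map_of_mem _ hp)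
      exact h1 ⟨θ p, h2, rfl⟩
    · exact IsPGroup.of_card (n := 13) (by rw [hcardp Q hQr, hcard])
  have hC : CharP.HasCharP 2 ↥(centralizer ({zM} : Set ↥M)) := by
    show centralizer _ ≤ _
    rw [hP]
    intro c hc
    refine hCQ (mem_centralizer_iff.2 fun q hq => ?_)
    obtain ⟨q', rfl⟩ := hQr hq
    rw [← map_mul, ← map_mul, mem_centralizer_iff.1 hc q' hq]
  -- the quotient
  let e' : ↥(Kb.comap φ) ⧸ (N.comap φ).subgroupOf (Kb.comap φ) ≃* Cfsg.PSU 4 F 3 :=
    (QuotientGroup.congr _ (N.subgroupOf Kb) (pull Kb hKr) (by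
      ext a
      constructor
      · rintro ⟨b, hb, rfl⟩
        exact mem_subgroupOf.2 (mem_subgroupOf.1 hb : φ b ∈ N)
      · intro ha
        obtain ⟨b, rfl⟩ := (pull Kb hKr).surjective a
        exact ⟨b, mem_subgroupOf.2 (mem_subgroupOf.1 ha : φ b ∈ N), rfl⟩)).trans e
  refine Cfsg.Agent.S1715.result (G := ↥M) zM ?_ (Q.comap φ) (N.comap φ) (Kb.comap φ)
    (hC.Fstar_eq.trans hP) ?_ ((hcardp Q hQr).trans hcard) (comap_mono hQN) (comap_mono hNK) ?_ F hF e' hK2 ?_
  · rw [← hz]; exact (Subgroup.orderOf_coe zM).symm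
  · exact LargeExtra.isExtraspecial_equiv (pull Q hQr).symm hQ
  · rw [hcardp N hNr, hcardp Q hQr, hN]
  obtain ⟨q, hq, hqe⟩ := hx
  have hqM : (q : G) ∈ M := hKM (mem_map_of_mem _ (hNK (hQN hq)))
  obtain ⟨y, hy, hye⟩ : ∃ y ∈ M, y * z * y⁻¹ = x * z * x⁻¹ := by
    by_cases h : x ∈ M
    · exact ⟨x, h, rfl⟩
    refine ⟨x * d, (Subgroup.mul_mem_iff_of_index_two hMi).2 (iff_of_false h hd), ?_⟩
    have hdz : (d : G) * z = z * d := mem_centralizer_singleton_iff.1 d.2
    calc x * d * z * (x * d)⁻¹ = x * ((d : G) * z) * (d : G)⁻¹ * x⁻¹ := by group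
      _ = x * z * x⁻¹ := by rw [hdz]; group
  have hqe' : (q : G) = y * z * y⁻¹ := (show (q : G) = x * z * x⁻¹ from hqe).trans hye.symm
  have hmem : (⟨y, hy⟩ : ↥M) * zM * (⟨y, hy⟩ : ↥M)⁻¹ ∈ centralizer ({zM} : Set ↥M) := by
    refine mem_centralizer_singleton_iff.2 (Subtype.ext ?_)
    show y * z * y⁻¹ * z = z * (y * z * y⁻¹)
    rw [← hqe']
    exact mem_centralizer_singleton_iff.1 q.2
  refine ⟨⟨y, hy⟩, ⟨hmem, ?_⟩, fun h => hxz ?_⟩
  · show φ ⟨_, hmem⟩ ∈ Q
    rw [show φ ⟨_, hmem⟩ = q from Subtype.ext hqe'.symm]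
    exact hq
  · rw [← hye]; exact congrArg Subtype.val h

/-- The groups with the centraliser. -/
theorem main (hz : orderOf z = 2) (Q : Subgroup (centralizer ({z} : Set G))) [Q.Normal]
    (hQP : Cfsg.pCore 2 ↥(centralizer ({z} : Set G)) = Q)
    (hCQ : centralizer (Q : Set ↥(centralizer ({z} : Set G))) ≤ Q)
    (hQ : Cfsg.IsExtraspecial 2 Q) (hcard : Nat.card Q = 2 ^ 13)
    (N Kb : Subgroup (centralizer ({z} : Set G))) [N.Normal] [Kb.Normal] (hQN : Q ≤ N) (hNK : N ≤ Kb)
    (hN : Nat.card N = 3 * Nat.card Q) {F : Type} [Field F] [Fintype F] (hF : Fintype.card F = 9)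
    (e : Kb ⧸ N.subgroupOf Kb ≃* Cfsg.PSU 4 F 3) :
    centralizer ({z} : Set G) ⊔ Cfsg.oddCore G = ⊤ ∨
      (Kb.index = 2 ∧ Cfsg.Spor.IsoFi24' G) ∨
      (Kb.index = 4 ∧ (∀ x : ↥(centralizer ({z} : Set G)) ⧸ Kb, x ^ 2 = 1) ∧
        Nonempty (G ≃* Cfsg.Spor.Fi24)) := by
  classical
  haveI : Fact (Nat.Prime 2) := ⟨Nat.prime_two⟩
  have hC : CharP.HasCharP 2 ↥(centralizer ({z} : Set G)) := by
    show centralizer _ ≤ _
    rw [hQP]; exact hCQ
  have hFit := hC.Fstar_eq.trans hQP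
  obtain ⟨D, rfl⟩ := exists_dz hz hFit hQ hcard N Kb hQN hNK hN hF e
  by_cases hP : NoFuse z Q
  · refine Or.inl (eq_top_iff.2 fun g _ => ?_)
    obtain ⟨o, ho, c, hc, rfl⟩ := IsoApps.exists_mul (isolated (D := D) hz hP) g
    exact mul_mem (le_sup_right (a := HH) ho) (le_sup_left (b := Cfsg.oddCore G) hc)
  refine Or.inr ?_
  obtain ⟨x, hx, hxz⟩ : ∃ x : G, x * z * x⁻¹ ∈ Q.map (centralizer ({z} : Set G)).subtype ∧ x * z * x⁻¹ ≠ z := by
    by_contra h
    push Not at h
    exact hP h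
  obtain ⟨s, hs⟩ := D.mem_QG.1 hx
  have hsz : val s ≠ z := fun h => hxz (hs.symm.trans h)
  obtain ⟨j, hj, hrel, hrange⟩ := relIndex_cases D
  have hidx : D.K.index = 2 ^ j := by
    have h : (K0.comap D.ψ) = D.K := by
      rw [← D.mapK, comap_map_eq, D.ker, sup_eq_left.2 D.le]
    rw [← h, index_comap, hrel]
  have hle : K0 ≤ D.ψ.range := D.mapK ▸ Subgroup.map_le_range _ _
  interval_cases j
  · exact absurd (Subgroup.eq_of_le_of_card_ge hle (le_of_eq (by rw [D.cardK0, eq_of_cover_index hrange]))).symm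
      (D.range_ne hs.symm hsz)
  · refine Or.inl ⟨hidx, ?_⟩
    obtain ⟨q, hq, hqe⟩ := hx
    refine Cfsg.Agent.S1715.result z hz Q N D.K hFit hQ hcard hQN hNK hN F hF e hidx
      ⟨x, ⟨mem_centralizer_singleton_iff.2 ?_, ?_⟩, hxz⟩
    · rw [← show (q : G) = x * z * x⁻¹ from hqe]
      exact mem_centralizer_singleton_iff.1 q.2
    · exact (Subtype.ext hqe : q = ⟨x * z * x⁻¹, _⟩) ▸ hq
  · refine Or.inr ⟨hidx, fun c => ?_, ?_⟩
    · obtain ⟨c, rfl⟩ := QuotientGroup.mk_surjective c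
      rw [pow_two, ← QuotientGroup.mk_mul, QuotientGroup.eq_one_iff]
      have h : D.ψ (c * c) ∈ D.K.map D.ψ := by
        rw [D.mapK, map_mul]; exact big_sq (D.range_le ⟨c, rfl⟩)
      rw [← Subgroup.mem_comap, comap_map_eq, D.ker, sup_eq_left.2 D.le] at h
      exact h
    have hbig : D.ψ.range = Big := Subgroup.eq_of_le_of_card_ge D.range_le (le_of_eq (by
      rw [card_Big D.cardK0, four_mul_eq _ hrange]))
    have hsigR : sigE ∈ D.ψ.range := by
      rw [hbig]; exact le_sup_right (a := K0) (Subgroup.subset_closure (Set.mem_insert _ _))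
    obtain ⟨M, hMn, hMi, hKM, d, hd⟩ := exists_split hsigR hs.symm hsz
    haveI := hMn
    have hQM : ∀ a : Q, val a ∈ M := fun a => hKM (mem_map_of_mem _ (D.le a.2))
    have hzM : z ∈ M := by
      obtain ⟨a, ha⟩ := D.mem_QG.1 D.pre.gen.mem
      exact ha ▸ hQM a
    obtain ⟨eM⟩ := split_case hz Q hQP hCQ hQ hcard N D.K hQN hNK hN hF e hidx hMi hKM hd hx hxz hzM
    haveI := Coset.Fi24.finite_group
    haveI := Coset.Fi24.isSimple
    haveI hMs : IsSimpleGroup ↥M := eM.isSimpleGroup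
    have hZ : Subgroup.center ↥M = ⊥ := by
      refine (IsSimpleGroup.eq_bot_or_eq_top_of_normal _ inferInstance).resolve_right fun h => ?_
      have hs1 : D.π s ≠ 0 := (D.sing_of_conj hs.symm hsz).2
      obtain ⟨q, hq⟩ := D.exists_flip (a := s) (fun e => hs1 ((D.π_eq_zero s).2 (Or.inl e))) hsz
      have hc : val q * val s = val s * val q :=
        congrArg Subtype.val (mem_center_iff.1 (h ▸ mem_top (⟨val s, hQM s⟩ : ↥M)) ⟨val q, hQM q⟩)
      rw [hc, mul_inv_cancel_right] at hq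
      exact D.pre.gen.ne_one (mul_left_cancel (a := val s) (b := z) (c := 1) (by rw [mul_one]; exact hq.symm))
    have hcent : centralizer (M : Set G) = ⊥ := by
      refine eq_bot_iff.2 fun c hc => ?_
      have hcQ : c ∈ Q.map (centralizer ({z} : Set G)).subtype := D.pre.self (mem_centralizer_iff.2 (by
        rintro _ ⟨a, ha, rfl⟩
        exact mem_centralizer_iff.1 hc _ (hQM ⟨a, ha⟩)))
      obtain ⟨a, rfl⟩ := D.mem_QG.1 hcQ
      have h : (⟨val a, hQM a⟩ : ↥M) ∈ Subgroup.center ↥M :=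
        mem_center_iff.2 fun y => Subtype.ext (mem_centralizer_iff.1 hc _ y.2)
      rw [hZ, mem_bot] at h
      exact mem_bot.2 (congrArg Subtype.val h)
    exact (FiThree.equiv_fi24 M hMi eM hcent).map MulEquiv.symm

end CfsgLib.FiLarge.Chz
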