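import Cfsg.Agent.FiLarge.Setting

/-!
An elementary abelian subgroup of order 81 in `PSU(4,3)` is the only one in a Sylow 3-subgroup.
-/

set_option autoImplicit false
set_option maxRecDepth 100000
set_option linter.style.haveILetI false

namespace CfsgLib.FiLarge.Chz

open CfsgLib CfsgLib.FiLarge Subgroup

/-- A three-cycle of the first three points. -/
def cA : A6 := ⟨Equiv.swap 0 1 * Equiv.swap 1 2, Equiv.Perm.mem_alternatingGroup.2 (by decide)⟩

/-- A three-cycle of the last three points. -/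
def cB : A6 := ⟨Equiv.swap 3 4 * Equiv.swap 4 5, Equiv.Perm.mem_alternatingGroup.2 (by decide)⟩

theorem nine_mul : ∀ a b : ZMod 3 × ZMod 3,
    cA ^ (a.1 + b.1).val * cB ^ (a.2 + b.2).val = cA ^ a.1.val * cB ^ a.2.val * (cA ^ b.1.val * cB ^ b.2.val) := by
  decide +kernel

/-- The elementary group of order nine. -/
def nineHom : Multiplicative (ZMod 3 × ZMod 3) →* A6 where
  toFun a := cA ^ (Multiplicative.toAdd a).1.val * cB ^ (Multiplicative.toAdd a).2.val
  map_one' := by simp
  map_mul' a b := nine_mul _ _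

theorem nine_inj : ∀ a : ZMod 3 × ZMod 3, nineHom (Multiplicative.ofAdd a) = 1 → a = 0 := by
  decide +kernel

theorem nine_fix : ∀ a : ZMod 3 × ZMod 3, a ≠ 0 →
    (Finset.univ.filter fun y : W => rho (nineHom (Multiplicative.ofAdd a)) y = y).card ≤ 9 := by
  decide +kernel

theorem nine_fix_all : (Finset.univ.filter fun y : W => rho cA y = y ∧ rho cB y = y).card ≤ 3 := by
  decide +kernel

theorem nine_gen : nineHom (Multiplicative.ofAdd (1, 0)) = cA ∧ nineHom (Multiplicative.ofAdd (0, 1)) = cB := by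
  decide +kernel

variable {P : Type*} [Group P] [Finite P]

theorem exists_three (hP : Nat.card P = 3265920) (L : W → P) (h1 : ∀ a b, L (a + b) = L a * L b)
    (h2 : Function.Injective L) (h3 : ∀ p : A6, ∃ n, ∀ y, n * L y * n⁻¹ = L (rho p y)) :
    ∃ S : Sylow 3 P, ∀ A : Subgroup P, A ≤ (S : Subgroup P) → (∀ a ∈ A, ∀ b ∈ A, a * b = b * a) →
      81 ≤ Nat.card A → ∀ a ∈ A, ∃ y, L y = a := by
  classical
  haveI : Fact (Nat.Prime 3) := ⟨Nat.prime_three⟩
  have hL0 : L 0 = 1 := by
    have h := h1 0 0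
    rw [add_zero] at h
    exact mul_left_cancel (h.symm.trans (mul_one _).symm)
  let Lh : Multiplicative W →* P :=
    { toFun := fun y => L (Multiplicative.toAdd y)
      map_one' := hL0
      map_mul' := fun a b => h1 _ _ }
  have hLi : Function.Injective Lh := fun a b h => Multiplicative.toAdd.injective (h2 h)
  set Lr := Lh.range
  have hLr : Nat.card Lr = 81 := by
    rw [← Nat.card_congr (MonoidHom.ofInjective hLi).toEquiv,
      Nat.card_congr Multiplicative.toAdd, Nat.card_eq_fintype_card]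
    rfl
  let R := nineHom.range
  let N0 : Subgroup P :=
    { carrier := {n | ∃ p ∈ R, ∀ y, n * L y * n⁻¹ = L (rho p y)}
      one_mem' := ⟨1, one_mem _, fun y => by simp⟩
      mul_mem' := by
        rintro n m ⟨p, hp, hn⟩ ⟨q, hq, hm⟩
        refine ⟨p * q, mul_mem hp hq, fun y => ?_⟩
        rw [map_mul, Equiv.Perm.mul_apply, ← hn, ← hm]
        group
      inv_mem' := by
        rintro n ⟨p, hp, hn⟩
        refine ⟨p⁻¹, inv_mem hp, fun y => ?_⟩
        have h := hn (rho p⁻¹ y)
        rw [← Equiv.Perm.mul_apply, ← map_mul, mul_inv_cancel, map_one, Equiv.Perm.one_apply] at h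
        rw [← h]
        group }
  have huniq : ∀ (n : P) (p q : A6), (∀ y, n * L y * n⁻¹ = L (rho p y)) →
      (∀ y, n * L y * n⁻¹ = L (rho q y)) → p = q := fun n p q hp hq =>
    rho_injective (Equiv.ext fun y => h2 ((hp y).symm.trans (hq y)))
  let θ : N0 →* A6 :=
    { toFun := fun n => n.2.choose
      map_one' := huniq 1 _ _ (1 : N0).2.choose_spec.2 (fun y => by simp)
      map_mul' := fun a b => huniq _ _ _ (a * b).2.choose_spec.2 (fun y => by
        rw [map_mul, Equiv.Perm.mul_apply, ← a.2.choose_spec.2, ← b.2.choose_spec.2]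
        simp [mul_assoc]) }
  have hθ : ∀ (n : N0) (y : W), (n : P) * L y * (n : P)⁻¹ = L (rho (θ n) y) := fun n => n.2.choose_spec.2
  have hθR : θ.range = R := by
    refine le_antisymm ?_ fun p hp => ?_
    · rintro _ ⟨n, rfl⟩
      exact n.2.choose_spec.1
    · obtain ⟨n, hn⟩ := h3 p
      exact ⟨⟨n, p, hp, hn⟩, huniq n _ _ (hθ ⟨n, p, hp, hn⟩) hn⟩
  have hR : Nat.card R = 9 := by
    have hi : Function.Injective nineHom := (injective_iff_map_eq_one _).2 fun a ha =>
      Multiplicative.toAdd.injective (nine_inj (Multiplicative.toAdd a) ha)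
    rw [← Nat.card_congr (MonoidHom.ofInjective hi).toEquiv, Nat.card_congr Multiplicative.toAdd,
      Nat.card_prod, Nat.card_zmod]
  have hLN : Lr ≤ N0 := by
    rintro _ ⟨a, rfl⟩
    refine ⟨1, one_mem _, fun y => ?_⟩
    show L _ * L y * (L _)⁻¹ = _
    rw [← h1, add_comm, h1, mul_inv_cancel_right, map_one]
    rfl
  have hLker : Lr.subgroupOf N0 ≤ θ.ker := by
    rintro ⟨n, hn⟩ ⟨a, ha⟩
    refine MonoidHom.mem_ker.2 (huniq n _ _ (hθ ⟨n, hn⟩) fun y => ?_)
    simp only [subtype_apply] at ha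
    rw [← ha]
    show L _ * L y * (L _)⁻¹ = _
    rw [← h1, add_comm, h1, mul_inv_cancel_right, map_one]
    rfl
  have hN : Nat.card N0 = 9 * Nat.card θ.ker := by
    rw [← Subgroup.card_mul_index θ.ker, Subgroup.index_ker, hθR, hR, mul_comm]
  have hdvd : Nat.card N0 ∣ 3265920 := hP ▸ Subgroup.card_subgroup_dvd_card N0
  have h81 : 81 ∣ Nat.card θ.ker := by
    rw [← hLr, ← Nat.card_congr (subgroupOfEquivOfLe hLN).toEquiv]
    exact Subgroup.card_dvd_of_le hLker
  -- a Sylow subgroup of the normalizer is one of the group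
  obtain ⟨S0⟩ := (inferInstance : Nonempty (Sylow 3 N0))
  have h729 : 729 ∣ Nat.card (S0 : Subgroup N0) := by
    have h : 3 ^ 6 ∣ Nat.card N0 := by rw [hN]; obtain ⟨c, hc⟩ := h81; exact ⟨c, by rw [hc]; ring⟩
    exact S0.pow_dvd_card_of_pow_dvd_card h
  have hLS : Lr.subgroupOf N0 ≤ (S0 : Subgroup N0) := by
    have hn : (Lr.subgroupOf N0).Normal := by
      refine ⟨fun a ha n => ?_⟩
      obtain ⟨y, hy⟩ := ha
      refine mem_subgroupOf.2 ⟨Multiplicative.ofAdd (rho (θ n) (Multiplicative.toAdd y)), ?_⟩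
      show L _ = _
      rw [toAdd_ofAdd, ← hθ]
      have : L (Multiplicative.toAdd y) = (a : P) := hy
      rw [this]; rfl
    exact IsPGroup.le_sylow_of_normal (N := Lr.subgroupOf N0)
      (IsPGroup.of_card (n := 4) (by rw [Nat.card_congr (subgroupOfEquivOfLe hLN).toEquiv, hLr]; norm_num)) S0
  obtain ⟨S, hS⟩ : ∃ S : Sylow 3 P, (S : Subgroup P) = (S0 : Subgroup N0).map N0.subtype := by
    obtain ⟨S, hS⟩ := (S0.2.map N0.subtype).exists_le_sylow
    refine ⟨S, (Subgroup.eq_of_le_of_card_ge hS ?_).symm⟩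
    rw [card_map_of_injective N0.subtype_injective]
    obtain ⟨k, hk⟩ := IsPGroup.iff_card.1 S.2
    have hd : 3 ^ k ∣ 3265920 := hk ▸ hP ▸ Subgroup.card_subgroup_dvd_card (S : Subgroup P)
    have hk6 : k ≤ 6 := by
      by_contra h
      have := (pow_dvd_pow 3 (show 7 ≤ k by omega)).trans hd
      norm_num at this
    rw [hk]
    exact (Nat.pow_le_pow_right (by norm_num) hk6).trans (Nat.le_of_dvd Nat.card_pos h729)
  refine ⟨S, fun A hA hc h81A => ?_⟩
  have hAN : A ≤ N0 := hA.trans (hS ▸ map_subtype_le _)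
  set A' := A.subgroupOf N0
  have hA'S : A' ≤ (S0 : Subgroup N0) := fun a ha => by
    obtain ⟨b, hb, e⟩ := hS ▸ hA (mem_subgroupOf.1 ha)
    rwa [← N0.subtype_injective e]
  -- the kernel part lies in the image of the model
  have hker : ∀ a ∈ (S0 : Subgroup N0), θ a = 1 → ∃ y, L y = (a : P) := by
    intro a ha h0
    have hle : Lr.subgroupOf N0 ≤ (S0 : Subgroup N0) ⊓ θ.ker := le_inf hLS hLker
    have heq : Lr.subgroupOf N0 = (S0 : Subgroup N0) ⊓ θ.ker := by
      refine Subgroup.eq_of_le_of_card_ge hle ?_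
      rw [Nat.card_congr (subgroupOfEquivOfLe hLN).toEquiv, hLr]
      obtain ⟨k, hk⟩ := IsPGroup.iff_card.1 (S0.2.to_inf_left (K := θ.ker))
      have hd : 9 * 3 ^ k ∣ 3265920 := by
        refine dvd_trans ?_ hdvd
        rw [hN, ← hk]
        exact mul_dvd_mul_left 9 (Subgroup.card_dvd_of_le inf_le_right)
      have hk4 : k ≤ 4 := by
        by_contra h
        have := (mul_dvd_mul_left 9 (pow_dvd_pow 3 (show 5 ≤ k by omega))).trans hd
        norm_num at this
      rw [hk]
      exact Nat.pow_le_pow_right (by norm_num) hk4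
    obtain ⟨y, hy⟩ : a ∈ Lr.subgroupOf N0 := heq ▸ Subgroup.mem_inf.2 ⟨ha, MonoidHom.mem_ker.2 h0⟩
    exact ⟨_, hy⟩
  let φ := θ.comp A'.subtype
  have hAcard : Nat.card φ.ker * Nat.card φ.range = Nat.card A := by
    rw [← Subgroup.index_ker, Subgroup.card_mul_index, Nat.card_congr (subgroupOfEquivOfLe hAN).toEquiv]
  choose g hg using fun a : φ.ker => hker a.1.1 (hA'S a.1.2) (MonoidHom.mem_ker.1 a.2)
  have hgi : Function.Injective g := fun a b h =>
    Subtype.ext (Subtype.ext (Subtype.ext ((hg a).symm.trans ((congrArg L h).trans (hg b)))))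
  have hfix : ∀ (a : φ.ker) (b : A'), rho (φ b) (g a) = g a := fun a b => h2 (by
    show L (rho (θ b.1) (g a)) = _
    rw [← hθ b.1, hg, hc _ (mem_subgroupOf.1 b.2) _ (mem_subgroupOf.1 a.1.2), mul_inv_cancel_right])
  have hle : φ.range ≤ R := by rw [← hθR]; rintro _ ⟨b, rfl⟩; exact ⟨b.1, rfl⟩
  have hcases : Nat.card φ.range = 1 ∨ Nat.card φ.range = 3 ∨ Nat.card φ.range = 9 := by
    have hd := hR ▸ Subgroup.card_dvd_of_le hle
    obtain ⟨i, hi, he⟩ := (Nat.dvd_prime_pow Nat.prime_three).1 (show Nat.card φ.range ∣ 3 ^ 2 by simpa using hd)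
    rw [he]
    interval_cases i <;> norm_num
  rcases hcases with h | h | h
  · intro a ha
    refine hker ⟨a, hAN ha⟩ (hA'S (mem_subgroupOf.2 ha)) ?_
    have : φ ⟨⟨a, hAN ha⟩, mem_subgroupOf.2 ha⟩ ∈ φ.range := ⟨_, rfl⟩
    rw [card_eq_one.1 h, mem_bot] at this
    exact this
  · exfalso
    obtain ⟨_, ⟨b, rfl⟩, hb1⟩ := (Subgroup.bot_or_exists_ne_one φ.range).resolve_left fun e => by
      rw [e, Subgroup.card_bot] at h; omega
    obtain ⟨t, ht⟩ := hle ⟨b, rfl⟩
    have ht0 : Multiplicative.toAdd t ≠ 0 := fun e => hb1 (by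
      rw [show t = 1 from Multiplicative.toAdd.injective e, map_one] at ht
      exact ht.symm)
    have h9 := nine_fix (Multiplicative.toAdd t) ht0
    have hk : Nat.card φ.ker ≤ 9 := by
      refine le_trans ?_ h9
      rw [← Nat.card_eq_finsetCard]
      refine Nat.card_le_card_of_injective (fun a => ⟨g a, ?_⟩) fun a a' e => hgi (congrArg Subtype.val e)
      rw [Finset.mem_filter, show Multiplicative.ofAdd (Multiplicative.toAdd t) = t from rfl, ht]
      exact ⟨Finset.mem_univ _, hfix a b⟩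
    rw [h] at hAcard
    omega
  · exfalso
    have heq : φ.range = R := Subgroup.eq_of_le_of_card_ge hle (by rw [h, hR])
    obtain ⟨a1, ha1⟩ : cA ∈ φ.range := heq ▸ ⟨Multiplicative.ofAdd (1, 0), nine_gen.1⟩
    obtain ⟨b1, hb1⟩ : cB ∈ φ.range := heq ▸ ⟨Multiplicative.ofAdd (0, 1), nine_gen.2⟩
    have hk : Nat.card φ.ker ≤ 3 := by
      refine le_trans ?_ nine_fix_all
      rw [← Nat.card_eq_finsetCard]
      refine Nat.card_le_card_of_injective (fun a => ⟨g a, ?_⟩) fun a a' e => hgi (congrArg Subtype.val e)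
      rw [Finset.mem_filter, ← ha1, ← hb1]
      exact ⟨Finset.mem_univ _, hfix a a1, hfix a b1⟩
    rw [h] at hAcard
    omega

end CfsgLib.FiLarge.Chz
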