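import Cfsg.Agent.FiLarge.Chz.Raw
import Cfsg.Agent.FiLarge.Chz.Cands
import Mathlib.GroupTheory.Nilpotent

/-!
The cover contains the coded involution in suitable coordinates, is the canonical one, and the whole
group lies in the canonical extension.
-/

set_option autoImplicit false
set_option maxRecDepth 100000
set_option maxHeartbeats 1000000
set_option linter.style.haveILetI false
set_option linter.unusedSimpArgs false

namespace CfsgLib.FiLarge.Chz

open CfsgLib CfsgLib.FiLarge Subgroup Eleven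

/-- The dihedral group of permutations. -/
def D8g : Subgroup GL6 where
  carrier := {g | ∃ k, g = permE (tau8 k)}
  one_mem' := ⟨0, by rw [tau8_zero, permE_one]⟩
  mul_mem' := by
    rintro _ _ ⟨i, rfl⟩ ⟨j, rfl⟩
    obtain ⟨k, hk⟩ := tau8_closed i j
    exact ⟨k, by rw [permE_mul, hk]⟩
  inv_mem' := by
    rintro _ ⟨i, rfl⟩
    obtain ⟨k, hk⟩ := tau8_inv i
    exact ⟨k, by rw [permE_inv, hk]⟩

theorem permE_inj : Function.Injective permE := fun σ τ h => by
  refine (mono_inj (l := 0) (m := 0) ?_).2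
  rw [dmulE_zero, one_mul, one_mul, h]

theorem card_D8g : Nat.card D8g = 8 := by
  let f : Fin 8 → D8g := fun k => ⟨permE (tau8 k), k, rfl⟩
  have hf : Function.Bijective f := by
    refine ⟨fun i j h => tau8_injective (permE_inj (congrArg Subtype.val h)), ?_⟩
    rintro ⟨_, k, rfl⟩
    exact ⟨k, rfl⟩
  rw [← Nat.card_eq_of_bijective f hf, Nat.card_fin]

theorem conj_permE (σ τ : Equiv.Perm (Fin 6)) :
    (permE σ)⁻¹ * permE τ * permE σ = permE (σ * τ * σ⁻¹) := by
  rw [permE_inv, permE_mul, permE_mul, mul_assoc]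

theorem herm_gl {g : GL6} (hl : g * omE = omE * g) (hq : ∀ a, qn (g a) = qn a) (a b : V6) :
    herm (g a) (g b) = herm a b := by
  have h : ∀ u, trF (herm (g u) (g b)) = trF (herm u b) := fun u => by
    rw [← polar_qn, ← polar_qn, ← map_add, hq, hq, hq]
  refine trF_inj _ _ (h a) ?_
  rw [← herm_smul, ← herm_smul, ← linear_of_comm hl, h]

theorem GRep.of_code {g : GL6} {M : List ℕ} {φ : V6 → V6} (h : GRep g M) (e : M = encMap φ)
    {g' : GL6} (h' : ∀ a, g' a = φ a) : g = g' :=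
  h.elt (e ▸ grep_encMap φ h')

theorem grep_perm (τ : Equiv.Perm (Fin 6)) : GRep (permE τ) (encMap fun a i => a (τ i)) :=
  grep_encMap _ fun _ => rfl

theorem wgen_rep {M : Subgroup GL6} (hd : ∀ l : Fin 6 → ZMod 3, ∑ i, l i = 0 → dmulE l ∈ M)
    (hp : ∀ τ : Equiv.Perm (Fin 6), Equiv.Perm.sign τ = 1 → permE τ ∈ M) {N : List ℕ} {f : GL6} (hfM : f ∈ M)
    (hf : GRep f N) (k : Fin 4) : ∃ g ∈ M, GRep g (wgen N k) := by
  fin_cases k
  · exact ⟨_, hp (mkPerm ![1, 2, 0, 3, 4, 5] ![2, 0, 1, 3, 4, 5] (by decide) (by decide)) (by decide),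
      grep_perm _⟩
  · exact ⟨_, hp (mkPerm ![0, 2, 3, 4, 5, 1] ![0, 5, 1, 2, 3, 4] (by decide) (by decide)) (by decide),
      grep_perm _⟩
  · exact ⟨_, hd ![0, 1, 0, 1, 2, 2] (by decide), grep_encMap _ fun _ => rfl⟩
  · exact ⟨f, hfM, hf⟩

theorem word_rep {M : Subgroup GL6} (hd : ∀ l : Fin 6 → ZMod 3, ∑ i, l i = 0 → dmulE l ∈ M)
    (hp : ∀ τ : Equiv.Perm (Fin 6), Equiv.Perm.sign τ = 1 → permE τ ∈ M) {N : List ℕ} {f : GL6} (hfM : f ∈ M)
    (hf : GRep f N) : ∀ w : List (Fin 4), ∃ g ∈ M, GRep g (wordC N w)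
  | [] => ⟨1, one_mem _, grep_one⟩
  | k :: ks => by
    obtain ⟨g, hg, hgr⟩ := wgen_rep hd hp hfM hf k
    obtain ⟨g', hg', hgr'⟩ := word_rep hd hp hfM hf ks
    exact ⟨g * g', mul_mem hg hg', hgr.mul hgr'⟩

namespace Raw

variable {H M : Subgroup GL6} (R : Raw H M)

include R in
theorem sylow_over_D8 : ∃ S : Subgroup GL6, S ≤ M ∧ D8g ≤ S ∧ IsPGroup 2 S ∧ Nat.card S = 128 := by
  haveI : Fact (Nat.Prime 2) := ⟨Nat.prime_two⟩
  have hDM : D8g ≤ M := by
    rintro _ ⟨k, rfl⟩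
    exact R.perm _ (tau8_sign k)
  have hD : IsPGroup 2 (D8g.subgroupOf M) :=
    IsPGroup.of_card (n := 3) (by rw [Nat.card_congr (subgroupOfEquivOfLe hDM).toEquiv, card_D8g]; norm_num)
  obtain ⟨S, hS⟩ := hD.exists_le_sylow
  refine ⟨(S : Subgroup M).map M.subtype, map_subtype_le _, ?_, S.2.map _, ?_⟩
  · intro d hd
    exact ⟨⟨d, hDM hd⟩, hS (mem_subgroupOf.2 hd), rfl⟩
  · rw [card_map_of_injective M.subtype_injective, S.card_eq_multiplicity, R.card,
      show 9797760 = 2 ^ 7 * 76545 by norm_num, Nat.factorization_mul (by norm_num) (by norm_num),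
      Finsupp.add_apply, Nat.Prime.factorization_pow Nat.prime_two, Finsupp.single_eq_same,
      Nat.factorization_eq_zero_of_not_dvd (by norm_num), add_zero]
    norm_num

include R in
/-- A 2-element of the cover centralising the dihedral group and outside it. -/
theorem exists_cent : ∃ f ∈ M, f ∉ D8g ∧ (∀ k, f * permE (tau8 k) = permE (tau8 k) * f ∨ (k ≠ 1 ∧ k ≠ 2)) ∧
    ∃ n : ℕ, f ^ 2 ^ n = 1 := by
  classical
  haveI : Fact (Nat.Prime 2) := ⟨Nat.prime_two⟩
  obtain ⟨S, hSM, hDS, hS2, hScard⟩ := R.sylow_over_D8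
  haveI := hS2.isNilpotent
  have hlt : D8g.subgroupOf S < ⊤ := by
    refine lt_top_iff_ne_top.2 fun h => ?_
    have := congrArg (fun K : Subgroup S => Nat.card K) h
    simp only [card_top, hScard] at this
    rw [Nat.card_congr (subgroupOfEquivOfLe hDS).toEquiv, card_D8g] at this
    norm_num at this
  obtain ⟨⟨f0, hf0S⟩, hn, hnot⟩ :=
    SetLike.exists_of_lt (Group.normalizerCondition_of_isNilpotent (D8g.subgroupOf S) hlt)
  have hmap : ∀ k, ∃ i, f0 * permE (tau8 k) * f0⁻¹ = permE (tau8 i) := fun k => by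
    have h := (mem_normalizer_iff.1 hn ⟨permE (tau8 k), hDS ⟨k, rfl⟩⟩).1 (mem_subgroupOf.2 ⟨k, rfl⟩)
    exact mem_subgroupOf.1 h
  obtain ⟨i, hi⟩ := hmap 1
  obtain ⟨j, hj⟩ := hmap 2
  let c := MulAut.conj f0
  have hci : c (permE (tau8 1)) = permE (tau8 i) := hi
  have hcj : c (permE (tau8 2)) = permE (tau8 j) := hj
  obtain ⟨b1, b2, b7, b0⟩ := base_cases
  have hi2 : tau8 i * tau8 i = 1 := permE_inj (by
    rw [← permE_mul, ← hci, ← map_mul, permE_mul, b1, permE_one, map_one])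
  have hj2 : tau8 j * tau8 j = 1 := permE_inj (by
    rw [← permE_mul, ← hcj, ← map_mul, permE_mul, b2, permE_one, map_one])
  have hij : permE (tau8 j * tau8 i * (tau8 j * tau8 i)) = c (permE (tau8 7)) := by
    rw [← permE_mul, ← permE_mul, ← hci, ← hcj, ← map_mul, ← map_mul, permE_mul, permE_mul, b7]
  have hne : tau8 j * tau8 i * (tau8 j * tau8 i) ≠ 1 := fun e => by
    rw [e, permE_one] at hij
    exact b0 (permE_inj (c.injective (by rw [← hij, permE_one, map_one])))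
  rcases aut_cases i j hi2 hj2 hne with ⟨k, hk1, hk2⟩ | ⟨hi', he⟩
  · refine ⟨(permE (tau8 k))⁻¹ * f0, mul_mem (inv_mem (R.perm _ (tau8_sign k))) (hSM hf0S), fun h => ?_,
      fun m => ?_, ?_⟩
    · refine hnot (mem_subgroupOf.2 ?_)
      have := mul_mem (show permE (tau8 k) ∈ D8g from ⟨k, rfl⟩) h
      rwa [mul_inv_cancel_left] at this
    · have key : ∀ m l, f0 * permE (tau8 m) * f0⁻¹ = permE (tau8 l) →
          tau8 k * tau8 l * (tau8 k)⁻¹ = tau8 m →
            (permE (tau8 k))⁻¹ * f0 * permE (tau8 m) = permE (tau8 m) * ((permE (tau8 k))⁻¹ * f0) := by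
        intro m l h1 h2
        conv_rhs => rw [← h2, ← conj_permE, ← h1]
        group
      by_cases h1 : m = 1
      · subst h1; exact Or.inl (key _ i hi hk1)
      by_cases h2 : m = 2
      · subst h2; exact Or.inl (key _ j hj hk2)
      exact Or.inr ⟨h1, h2⟩
    · obtain ⟨n, hn2⟩ := hS2 ⟨_, mul_mem (inv_mem (hDS ⟨k, rfl⟩)) hf0S⟩
      exact ⟨n, congrArg Subtype.val hn2⟩
  · exfalso
    rw [he] at hij
    let δ : V6 := Pi.single 0 1
    let w : V6 := δ + permE (tau8 1) δ + (permE (tau8 7) δ + permE (tau8 1) (permE (tau8 7) δ))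
    have hw : w ≠ 0 := fun e => inner_ne (congrFun e 3)
    refine hw (f0.injective ?_)
    rw [map_zero]
    have e1 : ∀ a, f0 (permE (tau8 1) a) = permE (tau8 i) (f0 a) := fun a => by
      rw [← gl_mul, ← gl_mul, ← hci]
      show _ = (f0 * permE (tau8 1) * f0⁻¹ * f0) a
      rw [inv_mul_cancel_right]
    have e7 : ∀ a, f0 (permE (tau8 7) a) = permE (tau8 7) (f0 a) := fun a => by
      rw [← gl_mul, ← gl_mul]
      conv_rhs => rw [hij]
      show _ = (f0 * permE (tau8 7) * f0⁻¹ * f0) a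
      rw [inv_mul_cancel_right]
    show f0 (δ + permE (tau8 1) δ + (permE (tau8 7) δ + permE (tau8 1) (permE (tau8 7) δ))) = 0
    rw [map_add, map_add, map_add, e1, e1, e7]
    exact funext fun m => outer_zero i hi' (f0 δ) m

include R in
theorem exists_fd : ∃ d : F4, d ≠ 0 ∧ ∃ g ∈ M, GRep g (encMap (mapply (candM 0 1 d 1))) := by
  classical
  obtain ⟨f, hfM, hfD, hcomm, n, hn⟩ := R.exists_cent
  have hfl := R.central f hfM
  have hfq := R.inv f (R.le hfM)
  let A : Fin 6 → Fin 6 → F4 := fun i j => f (Pi.single j 1) i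
  have hA : ∀ w, f w = mapply A w := by
    intro w
    funext i
    have hw : w = ∑ j, w j • (Pi.single j 1 : V6) := by
      funext k
      simp [Finset.sum_apply, Pi.single_apply]
    conv_lhs => rw [hw]
    rw [map_sum, Finset.sum_apply]
    exact Finset.sum_congr rfl fun j _ => by rw [linear_of_comm hfl]; rfl
  have hshift : ∀ τ : Equiv.Perm (Fin 6), f * permE τ = permE τ * f → ∀ i j, A (τ i) (τ j) = A i j := by
    intro τ hτ i j
    have h := congrFun (LinearEquiv.congr_fun hτ (Pi.single (τ j) 1)) i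
    simp only [gl_mul, permE_apply] at h
    rw [show permE τ (Pi.single (τ j) (1 : F4)) = Pi.single j 1 by
      funext k
      simp [permE_apply, Pi.single_apply]] at h
    exact h.symm
  have s1 := hshift _ ((hcomm 1).resolve_right fun h => h.1 rfl)
  have s2 := hshift _ ((hcomm 2).resolve_right fun h => h.2 rfl)
  have t1 : ∀ i, tau8 1 i = ![1, 0, 3, 2, 4, 5] i := fun i => rfl
  have t2 : ∀ i, tau8 2 i = ![2, 1, 0, 3, 5, 4] i := fun i => rfl
  simp only [t1, t2] at s1 s2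
  have a11 : A 1 1 = A 0 0 := s1 0 0
  have a22 : A 2 2 = A 0 0 := s2 0 0
  have a33 : A 3 3 = A 0 0 := (s1 2 2).trans a22
  have a10 : A 1 0 = A 0 1 := s1 0 1
  have a21 : A 2 1 = A 0 1 := s2 0 1
  have a12 : A 1 2 = A 0 1 := (s2 1 0).trans a10
  have a03 : A 0 3 = A 0 1 := (s1 1 2).trans a12
  have a30 : A 3 0 = A 0 1 := (s1 2 1).trans a21
  have a23 : A 2 3 = A 0 1 := (s2 0 3).trans a03
  have a32 : A 3 2 = A 0 1 := (s2 3 0).trans a30
  have a20 : A 2 0 = A 0 2 := s2 0 2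
  have a13 : A 1 3 = A 0 2 := s1 0 2
  have a31 : A 3 1 = A 0 2 := (s1 2 0).trans a20
  have a14 : A 1 4 = A 0 4 := s1 0 4
  have a25 : A 2 5 = A 0 4 := s2 0 4
  have a35 : A 3 5 = A 0 4 := (s1 2 5).trans a25
  have a15 : A 1 5 = A 0 4 := (s2 1 4).trans a14
  have a05 : A 0 5 = A 0 4 := (s1 1 5).trans a15
  have a24 : A 2 4 = A 0 4 := (s2 0 5).trans a05
  have a34 : A 3 4 = A 0 4 := (s1 2 4).trans a24
  have a55 : A 5 5 = A 4 4 := s2 4 4
  have a54 : A 5 4 = A 4 5 := s2 4 5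
  have a41 : A 4 1 = A 4 0 := s1 4 0
  have a51 : A 5 1 = A 4 0 := (s2 4 1).trans a41
  have a50 : A 5 0 = A 4 0 := (s1 5 1).trans a51
  have a52 : A 5 2 = A 4 0 := s2 4 0
  have a53 : A 5 3 = A 4 0 := (s1 5 2).trans a52
  have a42 : A 4 2 = A 4 0 := (s2 5 0).trans a50
  have a43 : A 4 3 = A 4 0 := (s1 4 2).trans a42
  -- the action on the fixed plane is trivial
  have fix1 : ∀ (o : V6) (c : F4), f o = c • o → o ≠ 0 → c = 1 := by
    intro o c hc ho
    have h2 : ∀ m : ℕ, (f ^ m) o = c ^ m • o := by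
      intro m
      induction m with
      | zero => rw [pow_zero, pow_zero, one_smul, gl_one]
      | succ m ih => rw [pow_succ, gl_mul, hc, linear_of_comm ((Commute.pow_left hfl m).eq), ih, ← mul_smul, pow_succ']
    have h3 := h2 (2 ^ n)
    rw [hn, gl_one] at h3
    have h4 : c ^ 2 ^ n = 1 := by
      obtain ⟨i, hi⟩ := Function.ne_iff.1 ho
      have := congrFun h3 i
      rw [Pi.smul_apply, smul_eq_mul] at this
      exact (mul_eq_right₀ hi).1 this.symm
    have hc0 : c ≠ 0 := fun e => by rw [e, zero_pow (pow_ne_zero _ two_ne_zero)] at h4; exact zero_ne_one h4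
    have h5 : c ^ 3 = 1 := (by decide +kernel : ∀ c : F4, c ≠ 0 → c ^ 3 = 1) c hc0
    exact pow_eq_one_iff_of_coprime (Nat.Coprime.pow_left n (by norm_num)) |>.1 ⟨h4, h5⟩
  have ho4 : f ![1, 1, 1, 1, 0, 0] = (A 0 0 + A 0 2) • ![1, 1, 1, 1, 0, 0] := by
    rw [hA]
    funext i
    fin_cases i <;>
      simp [mapply, Fin.sum_univ_six, a11, a22, a33, a10, a21, a12, a03, a30, a23, a32, a20, a13, a31, a41, a51,
        a50, a52, a53, a42, a43] <;> (try abel_nf) <;> simp [two_smul, f4_add_self] <;> exact Or.inl (by decide +kernel)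
  have ho2 : f ![0, 0, 0, 0, 1, 1] = (A 4 4 + A 4 5) • ![0, 0, 0, 0, 1, 1] := by
    rw [hA]
    funext i
    fin_cases i <;>
      simp [mapply, Fin.sum_univ_six, a14, a25, a35, a15, a05, a24, a34, a55, a54, f4_add_self] <;> abel
  have hac := fix1 _ _ ho4 fun e => one_ne_zero (α := F4) (congrFun e 0)
  have hgh := fix1 _ _ ho2 fun e => one_ne_zero (α := F4) (congrFun e 4)
  -- unitarity
  have hu : ∀ j k, ∑ i, A i j * (A i k * A i k) = if j = k then 1 else 0 := by
    intro j k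
    have h := herm_gl hfl hfq (Pi.single j 1) (Pi.single k 1)
    rw [show herm (Pi.single j (1 : F4) : V6) (Pi.single k 1) = if j = k then 1 else 0 by
      simp [herm, Pi.single_apply, eq_comm]] at h
    exact h
  have hadd : ∀ x y : F4, x + y + (x + y) = 0 := fun x y => f4_add_self _
  have u00 := hu 0 0
  have u44 := hu 4 4
  have u01 := hu 0 1
  have u04 := hu 0 4
  simp only [Fin.sum_univ_six, a11, a22, a33, a10, a21, a12, a20, a13, a31, a30, a14, a24, a34, a41, a51, a50,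
    a54, if_true, if_neg (show (0 : Fin 6) ≠ 1 by decide), if_neg (show (0 : Fin 6) ≠ 4 by decide)]
    at u00 u44 u01 u04
  have hcube : ∀ x y : F4, x + y + y = x := fun x y => by rw [add_assoc, f4_add_self, add_zero]
  have v00 : A 0 0 * (A 0 0 * A 0 0) + A 0 2 * (A 0 2 * A 0 2) = 1 := by
    rw [← u00]; abel_nf; simp [two_smul, f4_add_self]
  have v44 : A 4 4 * (A 4 4 * A 4 4) + A 4 5 * (A 4 5 * A 4 5) = 1 := by
    rw [← u44]; abel_nf; simp [two_smul, f4_add_self]
    exact Or.inl (by decide +kernel)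
  obtain ⟨hc, ha⟩ := diag_pair _ _ hac v00
  obtain ⟨hh, hg⟩ := diag_pair _ _ hgh v44
  rw [hc] at u01 u04
  rw [hh] at u04
  have hb : A 0 1 * A 0 1 = A 0 1 := by
    refine off_pair _ _ ha ?_
    rw [← u01]; abel_nf; simp [two_smul, f4_add_self]
  have he : A 4 0 = A 0 4 * A 0 4 := by
    refine block_pair _ _ _ _ ha hg ?_
    rw [← u04]; abel_nf; simp [two_smul, f4_add_self]
  have hshape : A = candM (A 0 0) (A 0 1) (A 0 4) (A 4 4) := by
    funext i j
    fin_cases i <;> fin_cases j <;>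
      simp [candM, a11, a22, a33, a10, a21, a12, a03, a30, a23, a32, a20, a13, a31, a14, a25, a35, a15, a05,
        a24, a34, a55, a54, a41, a51, a50, a52, a53, a42, a43, hc, hh, he]
  have hfR : GRep f (encMap (mapply (candM (A 0 0) (A 0 1) (A 0 4) (A 4 4)))) :=
    grep_encMap _ fun w => (hA w).trans (congrArg (mapply · w) hshape)
  rcases cand_five _ _ (A 0 4) _ ha hb hg with ⟨k, hk⟩ | ⟨h0, h1, h2, hd⟩ | ⟨w, -, τ, hτ, hw⟩
  · exact absurd ⟨k, hfR.elt (hk ▸ grep_perm (tau8 k))⟩ hfD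
  · refine ⟨A 0 4, hd, ?_⟩
    rcases h0 with h0 | h0
    · exact ⟨f, hfM, by rw [h0, h1, h2] at hfR; exact hfR⟩
    · exact ⟨_, mul_mem (R.perm _ (tau8_sign 7)) hfM, h0 ▸ (grep_perm (tau8 7)).mul hfR⟩
  · exfalso
    obtain ⟨g, hg', hgr⟩ := word_rep R.diag R.perm hfM hfR w.1
    refine R.odd_not_mem (oddT_sign τ hτ) ?_
    rw [← (hgr.pow w.2).of_code hw (g' := permE τ) fun a => rfl]
    exact pow_mem hg' _

end Raw

theorem dmulE_comm (l m : Fin 6 → ZMod 3) : dmulE l * dmulE m = dmulE m * dmulE l := by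
  rw [dmulE_mul, dmulE_mul, add_comm]

theorem twist_code : ∀ d : F4, d ≠ 0 → ∃ a : ZMod 3,
    Eleven.mul (Eleven.mul (encMap (dmul (-(a • l45)))) (encMap (mapply (candM 0 1 d 1))))
      (encMap (dmul (a • l45))) = gn 2 := by
  decide +kernel

theorem untwist_code : ∀ a : ZMod 3, a ≠ 0 → ∃ d : F4, d ≠ 0 ∧ d ≠ om ∧
    Eleven.mul (Eleven.mul (encMap (dmul (a • l45))) (gn 2)) (encMap (dmul (-(a • l45)))) =
      encMap (mapply (candM 0 1 d 1)) := by
  decide +kernel

theorem l45_facts : (∀ a : ZMod 3, ∑ i, (a • l45) i = 2 * a) ∧ ∀ i, l45 (Equiv.swap 4 5 i) = l45 i := by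
  decide +kernel

theorem sigE_dmulE (a : ZMod 3) : sigE * dmulE (a • l45) = dmulE (a • l45) * sigE := by
  rw [sigE, permE_dmulE]
  congr 1
  congr 1
  funext i
  show a * l45 (Equiv.swap 4 5 i) = a * l45 i
  rw [l45_facts.2]

theorem eight_mul_le (n : ℕ) (h : 10935 * 16 * 7 ≤ n) : 9797760 ≤ 8 * n := by omega

theorem seven_dvd {K : Subgroup GL6} (hd : ∀ l : Fin 6 → ZMod 3, ∑ i, l i = 0 → dmulE l ∈ K)
    (hp : ∀ τ : Equiv.Perm (Fin 6), Equiv.Perm.sign τ = 1 → permE τ ∈ K) (hf : fE ∈ K) : 7 ∣ Nat.card K := by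
  haveI : Fact (Nat.Prime 7) := ⟨by norm_num⟩
  obtain ⟨g, hg, hgr⟩ := word_rep hd hp hf fE_rep [1, 2, 3]
  have h21 : g ^ 21 = 1 := (hgr.pow 21).elt (by rw [seven_word.1]; exact grep_one)
  have h3 : g ^ 3 ≠ 1 := fun e => seven_word.2 ((hgr.pow 3).code (by rw [e]; exact grep_one))
  have ho : orderOf (g ^ 3) = 7 := orderOf_eq_prime (by rw [← pow_mul]; exact h21) h3
  rw [← ho]
  exact Subgroup.orderOf_dvd_natCard K (pow_mem hg 3)

theorem sixteen_dvd {K : Subgroup GL6} (hD : D8g ≤ K) (hf : fE ∈ K) : 16 ∣ Nat.card K := by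
  have hc : ∀ k : Fin 8, Eleven.mul (gn 2) (encMap fun a i => a (tau8 k i)) =
      Eleven.mul (encMap fun a i => a (tau8 k i)) (gn 2) ∧ gn 2 ≠ encMap fun a i => a (tau8 k i) := by
    decide +kernel
  have hz2 : IsPGroup 2 (Subgroup.zpowers fE) := by
    rintro ⟨g, k, rfl⟩
    refine ⟨1, Subtype.ext ?_⟩
    show (fE ^ k) ^ 2 ^ 1 = 1
    rw [pow_one, ← zpow_natCast (fE ^ k), zpow_comm, zpow_natCast, pow_two, fE_sq, one_zpow]
  have hn : Subgroup.zpowers fE ≤ normalizer (D8g : Set GL6) := by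
    rw [zpowers_le]
    have hcd : ∀ x ∈ D8g, fE * x * fE⁻¹ = x := by
      rintro _ ⟨k, rfl⟩
      rw [(fE_rep.mul (grep_perm _)).elt (by rw [(hc k).1]; exact (grep_perm _).mul fE_rep), mul_inv_cancel_right]
    refine mem_normalizer_iff.2 fun x => ⟨fun hx => by rwa [hcd x hx], fun hx => ?_⟩
    have h1 := hcd _ hx
    have : x = fE * x * fE⁻¹ := mul_left_cancel (a := fE) (mul_right_cancel (b := fE⁻¹) h1).symm
    rwa [this]
  have hD2 : IsPGroup 2 D8g := IsPGroup.of_card (n := 3) (by rw [card_D8g]; norm_num)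
  haveI : Fact (Nat.Prime 2) := ⟨Nat.prime_two⟩
  obtain ⟨m, hm⟩ := IsPGroup.iff_card.1 (hz2.to_sup_of_normal_right' hD2 hn)
  have hlt : D8g < Subgroup.zpowers fE ⊔ D8g := lt_of_le_of_ne le_sup_right fun e => by
    obtain ⟨k, hk⟩ : fE ∈ D8g := e ▸ mem_sup_left (mem_zpowers fE)
    exact (hc k).2 (fE_rep.code (hk ▸ grep_perm _))
  have h8 : 8 < 2 ^ m := by
    rw [← hm, ← card_D8g]
    by_contra h
    exact hlt.ne (Subgroup.eq_of_le_of_card_ge hlt.le (not_lt.1 h))
  have hm4 : 4 ≤ m := by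
    by_contra h
    have : 2 ^ m ≤ 2 ^ 3 := Nat.pow_le_pow_right two_pos (by omega)
    omega
  refine ((pow_dvd_pow 2 hm4).trans hm.symm.dvd).trans (Subgroup.card_dvd_of_le (sup_le ?_ hD))
  rwa [zpowers_le]

namespace Raw

variable {H M : Subgroup GL6} (R : Raw H M)

include R in
theorem twist (l : Fin 6 → ZMod 3) :
    Raw (H.map (MulAut.conj (dmulE l)⁻¹).toMonoidHom) (M.map (MulAut.conj (dmulE l)⁻¹).toMonoidHom) := by
  set c := MulAut.conj (dmulE l)⁻¹
  have hcd : ∀ d ∈ diagG, c d = d := by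
    rintro _ ⟨m, -, rfl⟩
    show (dmulE l)⁻¹ * dmulE m * (dmulE l)⁻¹⁻¹ = dmulE m
    rw [inv_inv, mul_assoc, dmulE_comm m l, inv_mul_cancel_left]
  have hom : c omE = omE := hcd _ omE_mem_diag
  have hqd : ∀ (k : Fin 6 → ZMod 3) a, qn (dmulE k a) = qn a := fun k a => qn_dmul k a
  have hpull : ∀ E : Subgroup GL6, E ≤ M.map c.toMonoidHom → IsDiagLike E →
      E.comap c.toMonoidHom ≤ M ∧ IsDiagLike (E.comap c.toMonoidHom) := by
    intro E hE hD
    refine ⟨fun x hx => ?_, ?_, ?_, ?_⟩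
    · obtain ⟨m, hm, e⟩ := hE hx
      rwa [← c.injective e]
    · rw [← card_map_of_injective (K := E.comap c.toMonoidHom) (f := c.toMonoidHom) c.injective,
        map_comap_eq_self_of_surjective c.surjective]
      exact hD.1
    · exact fun a ha b hb => c.injective (by rw [map_mul, map_mul]; exact hD.2.1 _ ha _ hb)
    · exact fun a ha => c.injective (by rw [map_pow, map_one]; exact hD.2.2 _ ha)
  refine ⟨map_mono R.le, ?_, ?_, ?_, ?_, ?_, ?_, ?_, ?_, ?_, ?_⟩
  · rintro _ ⟨h, hh, rfl⟩ _ ⟨m, hm, rfl⟩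
    exact ⟨h * m * h⁻¹, R.normal h hh m hm, by rw [map_mul, map_mul, map_inv]⟩
  · rw [card_map_of_injective c.injective, R.card]
  · rintro _ ⟨h, hh, rfl⟩ a
    show qn ((dmulE l)⁻¹ (h ((dmulE l)⁻¹⁻¹ a))) = qn a
    rw [inv_inv, dmulE_inv, hqd, R.inv h hh, hqd]
  · rintro _ ⟨m, hm, rfl⟩
    show c m * omE = omE * c m
    rw [← hom, ← map_mul, R.central m hm, map_mul]
  · rintro _ ⟨h, hh, rfl⟩
    show c h * omE * (c h)⁻¹ = omE ∨ c h * omE * (c h)⁻¹ = omE⁻¹
    rcases R.semi h hh with e | e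
    · left; rw [← hom, ← map_mul, ← map_inv, ← map_mul, e]
    · right; rw [← hom, ← map_mul, ← map_inv, ← map_mul, e, map_inv]
  · intro m hm
    exact ⟨dmulE m, R.diag m hm, hcd _ (dmulE_mem hm)⟩
  · intro τ hτ
    refine ⟨dmulE (fun i => l i - l (τ i)) * permE τ, mul_mem (R.diag _ ?_) (R.perm τ hτ), ?_⟩
    · rw [Finset.sum_sub_distrib, Equiv.sum_comp τ l, sub_self]
    · show (dmulE l)⁻¹ * _ * (dmulE l)⁻¹⁻¹ = permE τ
      rw [inv_inv, mul_assoc, mul_assoc (dmulE _) (permE τ), permE_dmulE, ← mul_assoc (dmulE _),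
        dmulE_mul, dmulE_inv, ← mul_assoc, dmulE_mul,
        show -l + ((fun i => l i - l (τ i)) + fun i => l (τ i)) = 0 by funext i; simp, dmulE_zero, one_mul]
  · intro E hE hD
    obtain ⟨hle, hD'⟩ := hpull E hE hD
    obtain ⟨m, hm, hme⟩ := R.conj_diag _ hle hD'
    refine ⟨c m, ⟨m, hm, rfl⟩, fun e he => ?_⟩
    have h := hme (c.symm e) (show c (c.symm e) ∈ E by rwa [c.apply_symm_apply])
    rw [← hcd _ h, map_mul, map_mul, map_inv, c.apply_symm_apply] at h
    exact h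
  · intro E hE hD hn
    obtain ⟨hle, hD'⟩ := hpull E hE hD
    have h := R.eq_diag _ hle hD' fun d hd e he => by
      show c (d * e * d⁻¹) ∈ E
      rw [map_mul, map_mul, map_inv, hcd d hd]
      exact hn d hd _ he
    refine le_antisymm (fun e he => ?_) fun d hd => ?_
    · have h2 : c.symm e ∈ diagG := h ▸ (show c (c.symm e) ∈ E by rwa [c.apply_symm_apply])
      have := hcd _ h2
      rw [c.apply_symm_apply] at this
      rwa [this]
    · have h2 : c d ∈ E := (h ▸ hd : d ∈ E.comap c.toMonoidHom)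
      rwa [hcd d hd] at h2
  · intro U hU hom' hcard
    have hle : U.comap c.toMonoidHom ≤ M := fun x hx => by
      obtain ⟨m, hm, e⟩ := hU hx
      rwa [← c.injective e]
    have h := R.small _ hle (show c omE ∈ U by rwa [hom]) (by
      rw [← card_map_of_injective (K := U.comap c.toMonoidHom) (f := c.toMonoidHom) c.injective,
        map_comap_eq_self_of_surjective c.surjective]
      rwa [card_map_of_injective c.injective] at hcard)
    rw [← h, map_comap_eq_self_of_surjective c.surjective]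

include R in
theorem eq_K0 (hf : fE ∈ M) : M = K0 := by
  have hle : K0 ≤ M := (Subgroup.closure_le _).2 (Set.insert_subset hf (by
    rintro g (⟨τ, hτ, rfl⟩ | ⟨l, hl, rfl⟩)
    exacts [R.perm τ hτ, R.diag l hl]))
  have hom : omE ∈ K0 := dmul_mem (l := fun _ => 1) (by decide)
  refine (R.small K0 hle hom ?_).symm
  have hE : monoEven ≤ K0 := by
    rintro _ ⟨l, τ, hl, hτ, rfl⟩
    exact mul_mem (dmul_mem hl) (perm_mem hτ)
  have h1 : 10935 ∣ Nat.card K0 := (show 10935 ∣ 87480 by norm_num).trans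
    (card_monoEven ▸ Subgroup.card_dvd_of_le hE)
  have h2 : 16 ∣ Nat.card K0 := sixteen_dvd (by rintro g ⟨k, rfl⟩; exact perm_mem (tau8_sign k)) fE_mem
  have h3 : 7 ∣ Nat.card K0 := seven_dvd (fun l hl => dmul_mem hl) (fun τ hτ => perm_mem hτ) fE_mem
  have := Nat.le_of_dvd Nat.card_pos
    (Nat.Coprime.mul_dvd_of_dvd_of_dvd (by norm_num : Nat.Coprime (10935 * 16) 7)
      (Nat.Coprime.mul_dvd_of_dvd_of_dvd (by norm_num : Nat.Coprime 10935 16) h1 h2) h3)
  rw [R.card]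
  exact eight_mul_le _ this

include R in
theorem range_le (hf : fE ∈ M) : H ≤ Big := by
  intro h hh
  have hK := R.eq_K0 hf
  have hM : M ≤ Big := hK ▸ le_sup_left
  obtain ⟨m, hm, hme⟩ := R.conj_diag (diagG.map (MulAut.conj h).toMonoidHom) (by
    rintro _ ⟨d, hd, rfl⟩
    exact R.normal h hh d (R.diag_M hd)) (diagLike_map h)
  set h' := m * h with hh'
  have hh'H : h' ∈ H := mul_mem (R.le hm) hh
  have hmap : diagG.map (MulAut.conj h').toMonoidHom = diagG := by
    refine Subgroup.eq_of_le_of_card_ge ?_ (by rw [card_map_of_injective (MulAut.conj h').injective])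
    rintro _ ⟨d, hd, rfl⟩
    have := hme _ ⟨d, hd, rfl⟩
    simpa [hh', mul_assoc] using this
  have hn : ∀ d ∈ diagG, h'⁻¹ * d * h' ∈ diagG := fun d hd => by
    obtain ⟨a, ha, e⟩ := hmap.symm ▸ hd
    have e' : h' * a * h'⁻¹ = d := e
    rw [← e']
    simpa [mul_assoc] using ha
  obtain ⟨F, hF, k, τ, hk⟩ : ∃ F, (F = 1 ∨ F = frobE) ∧ ∃ k τ, h' = dmulE k * permE τ * F := by
    rcases R.semi h' hh'H with e | e
    · obtain ⟨k, τ, hk⟩ := mono_lin (mul_inv_eq_iff_eq_mul.1 e) hn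
      exact ⟨1, Or.inl rfl, k, τ, by rw [mul_one, hk]⟩
    · have hfi : frobE⁻¹ = frobE := inv_eq_of_mul_eq_one_right frobE_sq
      obtain ⟨k, τ, hk⟩ := mono_lin (g := h' * frobE) (mul_inv_eq_iff_eq_mul.1 (by
          rw [mul_inv_rev, hfi, show h' * frobE * omE * (frobE * h'⁻¹) = h' * (frobE * omE * frobE) * h'⁻¹ by group,
            frobE_omE]
          have e' := congrArg (·⁻¹) e
          simpa [mul_assoc] using e')) fun d hd => by
        obtain ⟨l, hl, e⟩ := hn d hd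
        refine ⟨-l, by simp [hl], ?_⟩
        rw [← frobE_dmulE, ← e, mul_inv_rev, hfi]
        group
      exact ⟨frobE, Or.inr rfl, k, τ, by rw [← hk, mul_assoc, frobE_sq, mul_one]⟩
  obtain ⟨ρ, S, hρ, hS, hτ⟩ : ∃ ρ S, Equiv.Perm.sign ρ = 1 ∧ (S = 1 ∨ S = sigE) ∧ permE τ = permE ρ * S := by
    rcases Int.units_eq_one_or (Equiv.Perm.sign τ) with e | e
    · exact ⟨τ, 1, e, Or.inl rfl, (mul_one _).symm⟩
    · refine ⟨Equiv.swap 4 5 * τ, sigE, by rw [map_mul, e, Equiv.Perm.sign_swap (by decide)]; rfl, Or.inr rfl, ?_⟩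
      rw [sigE, permE_mul, ← mul_assoc, Equiv.swap_mul_self, one_mul]
  have hsigB : sigE ∈ Big := mem_sup_right (subset_closure (Or.inl rfl))
  have hu0B : u0E ∈ Big := mem_sup_right (subset_closure (Or.inr rfl))
  obtain ⟨b, U, hU, hFU⟩ : ∃ (b : ZMod 3) (U : GL6), (U = 1 ∨ U = u0E) ∧ F = dmulE (b • l45) * U := by
    rcases hF with rfl | rfl
    · exact ⟨0, 1, Or.inl rfl, by rw [zero_smul, dmulE_zero, mul_one]⟩
    · exact ⟨-1, u0E, Or.inr rfl, by rw [neg_smul, one_smul, u0E, ← dmulE_inv, inv_mul_cancel_left]⟩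
  set a : ZMod 3 := 2 * ∑ i, k i
  have hsum : ∑ i, (k i - (a • l45) (ρ i)) = 0 := by
    rw [Finset.sum_sub_distrib, Equiv.sum_comp ρ (fun i => (a • l45) i), l45_facts.1]
    show _ - 2 * (2 * _) = (0 : ZMod 3)
    generalize (∑ i, k i) = δ
    revert δ
    decide
  have hmM : dmulE (fun i => k i - (a • l45) (ρ i)) * permE ρ ∈ M := mul_mem (R.diag _ hsum) (R.perm ρ hρ)
  set Y := S * U
  have hh'eq : h' = dmulE (fun i => k i - (a • l45) (ρ i)) * permE ρ * (dmulE ((a + b) • l45) * Y) := by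
    have hSd : ∀ x : ZMod 3, S * dmulE (x • l45) = dmulE (x • l45) * S := fun x => by
      rcases hS with rfl | rfl
      · rw [one_mul, mul_one]
      · exact sigE_dmulE x
    rw [hk, hτ, hFU, add_smul, ← dmulE_mul]
    have e1 : dmulE k * permE ρ = dmulE (fun i => k i - (a • l45) (ρ i)) * permE ρ * dmulE (a • l45) := by
      rw [mul_assoc, permE_dmulE, ← mul_assoc, dmulE_mul]
      congr 2
      funext i
      simp
    calc dmulE k * (permE ρ * S) * (dmulE (b • l45) * U)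
        = dmulE k * permE ρ * (S * dmulE (b • l45)) * U := by group
      _ = dmulE (fun i => k i - (a • l45) (ρ i)) * permE ρ * dmulE (a • l45) * (dmulE (b • l45) * S) * U := by
          rw [hSd, e1]
      _ = _ := by simp only [Y]; group
  have hD : dmulE ((a + b) • l45) * Y ∈ H := by
    have := mul_mem (inv_mem (R.le hmM)) hh'H
    rwa [hh'eq, inv_mul_cancel_left] at this
  have hY : Y ∈ Big ∧ Y * fE = fE * Y := by
    have h1 : S ∈ Big ∧ Commute S fE := by
      rcases hS with rfl | rfl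
      exacts [⟨one_mem _, Commute.one_left _⟩, ⟨hsigB, fE_sig.symm⟩]
    have h2 : U ∈ Big ∧ Commute U fE := by
      rcases hU with rfl | rfl
      exacts [⟨one_mem _, Commute.one_left _⟩, ⟨hu0B, fE_u0.symm⟩]
    exact ⟨mul_mem h1.1 h2.1, (h1.2.mul_left h2.2).eq⟩
  have hab : a + b = 0 := by
    by_contra hne
    obtain ⟨d, hd0, hd1, hdc⟩ := untwist_code _ hne
    have hmem := R.normal _ hD fE hf
    rw [mul_inv_rev, mul_assoc (dmulE _) Y, hY.2, ← mul_assoc, ← mul_assoc, mul_inv_cancel_right, dmulE_inv] at hmem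
    have hr := ((grep_encMap (g := dmulE ((a + b) • l45)) (dmul ((a + b) • l45)) fun v => rfl).mul fE_rep).mul
      (grep_encMap (g := dmulE (-((a + b) • l45))) (dmul (-((a + b) • l45))) fun v => rfl)
    rw [show Eleven.mul (Eleven.mul (encMap (dmul ((a + b) • l45))) (gn 2)) (encMap (dmul (-((a + b) • l45)))) =
      encMap (mapply (candM 0 1 d 1)) from hdc] at hr
    obtain ⟨g, hg, hgr⟩ := word_rep R.diag R.perm hf (grep_encMap (mapply (candM 0 1 om 1)) (g := fE) fun v => rfl)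
      [0, 2, 3]
    refine R.odd_not_mem (τ := Equiv.swap 4 5) (by decide) ?_
    rw [← ((hgr.mul hr).pow 9).of_code (pair_five om d (by decide +kernel) hd0 hd1.symm) (g' := permE (Equiv.swap 4 5))
      fun v => rfl]
    exact pow_mem (mul_mem hg hmem) 9
  rw [hab, zero_smul, dmulE_zero, one_mul] at hh'eq
  have : h = m⁻¹ * h' := by rw [hh', inv_mul_cancel_left]
  rw [this, hh'eq]
  exact mul_mem (inv_mem (hM hm)) (mul_mem (hM hmM) hY.1)

include R in
/-- Normal coordinates. -/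
theorem exists_normal : ∃ l : Fin 6 → ZMod 3,
    M.map (MulAut.conj (dmulE l)⁻¹).toMonoidHom = K0 ∧ H.map (MulAut.conj (dmulE l)⁻¹).toMonoidHom ≤ Big ∧
      Nat.card K0 = 9797760 ∧ sigE ∉ K0 := by
  obtain ⟨d, hd, g, hg, hgr⟩ := R.exists_fd
  obtain ⟨a, ha⟩ := twist_code d hd
  refine ⟨a • l45, ?_⟩
  have R' := R.twist (a • l45)
  have hf : fE ∈ M.map (MulAut.conj (dmulE (a • l45))⁻¹).toMonoidHom := by
    refine ⟨g, hg, ?_⟩
    show (dmulE (a • l45))⁻¹ * g * (dmulE (a • l45))⁻¹⁻¹ = fE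
    rw [inv_inv, dmulE_inv]
    refine (((grep_encMap (g := dmulE (-(a • l45))) (dmul (-(a • l45))) fun v => rfl).mul hgr).mul
      (grep_encMap (g := dmulE (a • l45)) (dmul (a • l45)) fun v => rfl)).elt ?_
    rw [show Eleven.mul (Eleven.mul (encMap (dmul (-(a • l45)))) (encMap (mapply (candM 0 1 d 1))))
      (encMap (dmul (a • l45))) = gn 2 from ha]
    exact fE_rep
  have hK := R'.eq_K0 hf
  exact ⟨hK, R'.range_le hf, hK ▸ R'.card, hK ▸ R'.odd_not_mem (τ := Equiv.swap 4 5) (by decide)⟩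

end Raw

end CfsgLib.FiLarge.Chz
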