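import Cfsg.Agent.FiLarge.Chz.Lifts

/-!
A conjugate of the central involution in the centraliser and outside the radical: the meet of the two radicals
and the trace of the second on the first.
-/

set_option autoImplicit false
set_option maxRecDepth 100000
set_option linter.style.haveILetI false
set_option linter.unusedSectionVars false
set_option quotPrecheck false

namespace CfsgLib.FiLarge.Chz

open CfsgLib CfsgLib.FiLarge Subgroup

variable {G : Type*} [Group G] [Finite G] {z : G} {Q : Subgroup (centralizer ({z} : Set G))} [Q.Normal]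
  (D : Dz z Q)

local notation "HH" => centralizer ({z} : Set G)
local notation "QG" => Q.map (centralizer ({z} : Set G)).subtype

open Dz (val val_mem val_inj zcomm)

theorem conj_flip {H : Type*} [Group H] {g a c : H} (h : g * a * g⁻¹ = c) : g⁻¹ * c * g⁻¹⁻¹ = a := by
  subst h; group

theorem conj_flip' {H : Type*} [Group H] {g a c : H} (h : g⁻¹ * a * g⁻¹⁻¹ = c) : g * c * g⁻¹ = a := by
  subst h; group

/-- A conjugate of the central involution in the centraliser and outside the radical. -/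
structure Out (D : Dz z Q) where
  /-- The conjugating element. -/
  g : G
  mem : g * z * g⁻¹ ∈ centralizer ({z} : Set G)
  not_mem : g * z * g⁻¹ ∉ Q.map (centralizer ({z} : Set G)).subtype

namespace Out

variable {D} (O : Out D)

/-- The conjugate. -/
def u : HH := ⟨O.g * z * O.g⁻¹, O.mem⟩

/-- The second radical. -/
def Ju : Subgroup G := (QG).map (MulAut.conj O.g).toMonoidHom

/-- The meet of the radicals. -/
def I : Subgroup G := QG ⊓ O.Ju

theorem pre_u : LargeExtra.Pre O.Ju (O.u : G) := LargeExtra.pre_conj D.pre O.g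

theorem u_sq : (O.u : G) * (O.u : G) = 1 := O.pre_u.gen.sq

theorem u_not : (O.u : G) ∉ QG := O.not_mem

theorem z_not : z ∉ O.Ju := by
  rintro ⟨a, ha, e⟩
  have e' : O.g * a * O.g⁻¹ = z := e
  have h : O.g⁻¹ * z * O.g⁻¹⁻¹ ∈ QG := by
    rwa [conj_flip e']
  obtain ⟨b, hb, e2⟩ := D.pre.center_mem_conj h
  have e2' : O.g⁻¹ * b * O.g⁻¹⁻¹ = z := e2
  refine O.not_mem ?_
  rwa [conj_flip' e2']

/-- The conjugate in the other direction. -/
def symm : Out D where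
  g := O.g⁻¹
  mem := by
    have h : Commute (O.g * z * O.g⁻¹) z := mem_centralizer_singleton_iff.1 O.mem
    refine mem_centralizer_singleton_iff.2 ?_
    rw [inv_inv]
    calc O.g⁻¹ * z * O.g * z = O.g⁻¹ * (z * (O.g * z * O.g⁻¹)) * O.g := by group
      _ = O.g⁻¹ * ((O.g * z * O.g⁻¹) * z) * O.g := by rw [h.symm.eq]
      _ = z * (O.g⁻¹ * z * O.g) := by group
  not_mem := fun h => by
    obtain ⟨b, hb, e⟩ := D.pre.center_mem_conj h
    refine O.not_mem ?_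
    have e' : O.g⁻¹ * b * O.g⁻¹⁻¹ = z := e
    rwa [conj_flip' e']

theorem card_I_symm : Nat.card O.symm.I = Nat.card O.I := by
  have e : O.symm.I.map (MulAut.conj O.g).toMonoidHom = O.I := by
    ext x
    constructor
    · rintro ⟨y, ⟨hy1, b, hb, e⟩, rfl⟩
      refine ⟨?_, y, hy1, rfl⟩
      have e' : O.g⁻¹ * b * O.g⁻¹⁻¹ = y := e
      show O.g * y * O.g⁻¹ ∈ QG
      rwa [← e', show O.g * (O.g⁻¹ * b * O.g⁻¹⁻¹) * O.g⁻¹ = b by group]
    · rintro ⟨hx, y, hy, rfl⟩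
      refine ⟨y, ⟨hy, O.g * y * O.g⁻¹, hx, ?_⟩, rfl⟩
      show O.g⁻¹ * (O.g * y * O.g⁻¹) * O.g⁻¹⁻¹ = y
      group
  rw [← e, card_map_of_injective (MulAut.conj O.g).injective]

theorem I_comm_u {x : G} (hx : x ∈ O.I) : x * (O.u : G) = O.u * x := (O.pre_u.gen.comm_z x hx.2).eq

theorem I_comm {x y : G} (hx : x ∈ O.I) (hy : y ∈ O.I) : x * y = y * x := by
  rcases O.pre_u.gen.comm x hx.2 y hy.2 with e | e
  · exact mul_inv_eq_iff_eq_mul.1 (mul_inv_eq_one.1 e)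
  · exfalso
    rcases D.pre.gen.comm x hx.1 y hy.1 with e' | e'
    · exact O.pre_u.gen.ne_one (e.symm.trans e')
    · exact O.u_not (by rw [← e, e']; exact D.pre.gen.mem)

theorem I_sq {x : G} (hx : x ∈ O.I) : x * x = 1 := by
  rcases D.pre.gen.square x hx.1 with e | e
  · exact e
  · have h2 : x ∈ O.Ju := hx.2
    exact absurd ((congrArg (fun t => t ∈ O.Ju) e).mp (mul_mem h2 h2)) O.z_not

/-- The image of the meet. -/
def IV : AddSubgroup V6 where
  carrier := {v | ∃ a : Q, D.π a = v ∧ val a ∈ O.I}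
  zero_mem' := ⟨1, D.π_one, one_mem _⟩
  add_mem' := by
    rintro _ _ ⟨a, rfl, ha⟩ ⟨b, rfl, hb⟩
    exact ⟨a * b, D.π_mul a b, mul_mem ha hb⟩
  neg_mem' := by
    rintro _ ⟨a, rfl, ha⟩
    exact ⟨a, (neg_eq_of_add_eq_zero_right (v6_add_self _)).symm, ha⟩

theorem eq_of_π_I {a b : Q} (ha : val a ∈ O.I) (hb : val b ∈ O.I) (h : D.π a = D.π b) : a = b := by
  rcases D.eq_of_π h with e | e
  · exact (val_inj e).symm
  · exfalso
    refine O.z_not ?_
    have he : (val a)⁻¹ * val b = z := by rw [e]; group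
    have h1 : val a ∈ O.Ju := ha.2
    exact (congrArg (fun t => t ∈ O.Ju) he).mp (mul_mem (inv_mem h1) hb.2)

theorem card_IV : Nat.card O.IV = Nat.card O.I := by
  have h : ∀ x : O.I, ∃ a : Q, val a = (x : G) := fun x => D.mem_QG.1 x.2.1
  choose f hf using h
  refine (Nat.card_eq_of_bijective (fun x => (⟨D.π (f x), f x, rfl, (hf x).symm ▸ x.2⟩ : O.IV)) ⟨fun x y e => ?_, ?_⟩).symm
  · have := O.eq_of_π_I ((hf x).symm ▸ x.2) ((hf y).symm ▸ y.2) (congrArg Subtype.val e)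
    exact Subtype.ext ((hf x).symm.trans ((congrArg val this).trans (hf y)))
  · rintro ⟨_, a, rfl, ha⟩
    exact ⟨⟨val a, ha⟩, Subtype.ext (congrArg D.π (val_inj (hf ⟨val a, ha⟩)))⟩

theorem IV_sing {v : V6} (hv : v ∈ O.IV) : qn v = 0 := by
  obtain ⟨a, rfl, ha⟩ := hv
  exact (D.sq_iff_val a).1 (O.I_sq ha)

theorem IV_le_cent : O.IV ≤ D.cent (O.u : G) := by
  rintro _ ⟨a, rfl, ha⟩
  exact ⟨a, rfl, O.I_comm_u ha⟩

/-- The first radical centralises the meet. -/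
theorem I_comm_R {x r : G} (hx : x ∈ O.I) (hr : r ∈ QG) (hru : r * (O.u : G) = O.u * r) : r * x = x * r := by
  rcases D.pre.gen.comm r hr x hx.1 with e | e
  · exact mul_inv_eq_iff_eq_mul.1 (mul_inv_eq_one.1 e)
  · exfalso
    have h2 : x ∈ O.Ju := hx.2
    exact O.z_not ((congrArg (fun t => t ∈ O.Ju) e).mp (mul_mem (O.pre_u.conj_mem hru h2) (inv_mem h2)))

theorem IV_orth : O.IV ≤ orthS (D.cent (O.u : G)) := by
  rintro _ ⟨a, rfl, ha⟩ _ ⟨b, rfl, hb⟩
  exact (D.comm_iff_B a b).1 (O.I_comm_R ha (val_mem b) hb).symm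

/-- The centraliser of the central involution in the second radical. -/
def Ru : Subgroup G := O.Ju ⊓ centralizer ({z} : Set G)

theorem Ru_comm_u {r : G} (hr : r ∈ O.Ru) : r * (O.u : G) = O.u * r := (O.pre_u.gen.comm_z r hr.1).eq

theorem Ru_comm_I {x r : G} (hx : x ∈ O.I) (hr : r ∈ O.Ru) : r * x = x * r := by
  rcases O.pre_u.gen.comm r hr.1 x hx.2 with e | e
  · exact mul_inv_eq_iff_eq_mul.1 (mul_inv_eq_one.1 e)
  · exfalso
    refine O.u_not ?_
    rw [← e]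
    exact mul_mem (D.pre.conj_mem (mem_centralizer_singleton_iff.1 hr.2) hx.1) (inv_mem hx.1)

/-- The trace of the second radical. -/
def A : Subgroup GL6 := (O.Ru.subgroupOf HH).map D.ψ

theorem exists_of_A {a : GL6} (ha : a ∈ O.A) : ∃ r : HH, (r : G) ∈ O.Ru ∧ D.ψ r = a := by
  obtain ⟨r, hr, rfl⟩ := ha
  exact ⟨r, hr, rfl⟩

theorem A_le : O.A ≤ Big := by
  rintro _ ⟨r, -, rfl⟩
  exact D.range_le ⟨r, rfl⟩

theorem t_mem : D.ψ O.u ∈ Big := D.range_le ⟨O.u, rfl⟩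

theorem t_sq : D.ψ O.u * D.ψ O.u = 1 := by
  rw [← map_mul, show O.u * O.u = 1 from Subtype.ext O.u_sq, map_one]

theorem t_ne : D.ψ O.u ≠ 1 := fun e => O.u_not ((D.ψ_one_iff _).1 e)

theorem A_comm : ∀ a ∈ O.A, a * D.ψ O.u = D.ψ O.u * a := by
  rintro _ ⟨r, hr, rfl⟩
  rw [← map_mul, ← map_mul, show r * O.u = O.u * r from Subtype.ext (O.Ru_comm_u hr)]

theorem A_sq : ∀ a ∈ O.A, a * a = 1 ∨ a * a = D.ψ O.u := by
  rintro _ ⟨r, hr, rfl⟩
  rcases O.pre_u.gen.square (r : G) hr.1 with e | e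
  · exact Or.inl (by rw [← map_mul, show r * r = 1 from Subtype.ext e, map_one])
  · exact Or.inr (by rw [← map_mul, show r * r = O.u from Subtype.ext e])

theorem A_two : IsPGroup 2 O.A := by
  intro a
  refine ⟨2, Subtype.ext ?_⟩
  show (a : GL6) ^ 2 ^ 2 = 1
  rw [show (2 : ℕ) ^ 2 = 2 * 2 by norm_num, pow_mul, pow_two, pow_two]
  rcases O.A_sq _ a.2 with e | e <;> rw [e]
  exacts [one_mul 1, O.t_sq]

theorem card_Ru : Nat.card O.Ru = 2 * Nat.card (D.cent (O.symm.u : G)) := by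
  rw [← D.card_meet O.symm.u]
  have e : (QG ⊓ centralizer ({(O.symm.u : G)} : Set G)).map (MulAut.conj O.g).toMonoidHom = O.Ru := by
    ext x
    constructor
    · rintro ⟨y, ⟨hy, hc⟩, rfl⟩
      refine ⟨⟨y, hy, rfl⟩, mem_centralizer_singleton_iff.2 ?_⟩
      have hc' : y * (O.g⁻¹ * z * O.g⁻¹⁻¹) = O.g⁻¹ * z * O.g⁻¹⁻¹ * y := mem_centralizer_singleton_iff.1 hc
      show O.g * y * O.g⁻¹ * z = z * (O.g * y * O.g⁻¹)
      calc O.g * y * O.g⁻¹ * z = O.g * (y * (O.g⁻¹ * z * O.g⁻¹⁻¹)) * O.g⁻¹ := by group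
        _ = z * (O.g * y * O.g⁻¹) := by rw [hc']; group
    · rintro ⟨⟨y, hy, rfl⟩, hc⟩
      refine ⟨y, ⟨hy, mem_centralizer_singleton_iff.2 ?_⟩, rfl⟩
      have hc' : O.g * y * O.g⁻¹ * z = z * (O.g * y * O.g⁻¹) := mem_centralizer_singleton_iff.1 hc
      show y * (O.g⁻¹ * z * O.g⁻¹⁻¹) = O.g⁻¹ * z * O.g⁻¹⁻¹ * y
      calc y * (O.g⁻¹ * z * O.g⁻¹⁻¹) = O.g⁻¹ * (O.g * y * O.g⁻¹ * z) * O.g := by group
        _ = _ := by rw [hc']; group
  rw [← e, card_map_of_injective (MulAut.conj O.g).injective]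

theorem card_A : Nat.card O.A * Nat.card O.I = 2 * Nat.card (D.cent (O.symm.u : G)) := by
  rw [← O.card_Ru]
  have hle : O.Ru ≤ HH := inf_le_right
  let f := D.ψ.comp (O.Ru.subgroupOf HH).subtype
  have h1 := Subgroup.card_eq_card_quotient_mul_card_subgroup f.ker
  rw [Nat.card_congr (QuotientGroup.quotientKerEquivRange f).toEquiv, MonoidHom.range_comp, Subgroup.range_subtype,
    Nat.card_congr (subgroupOfEquivOfLe hle).toEquiv] at h1
  rw [h1]
  congr 1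
  refine (Nat.card_eq_of_bijective (fun a : f.ker => (⟨((a.1.1 : HH) : G), (D.ψ_one_iff _).1 (MonoidHom.mem_ker.1 a.2),
    (mem_subgroupOf.1 a.1.2).1⟩ : O.I)) ⟨fun a b e => ?_, fun x => ?_⟩).symm
  · exact Subtype.ext (Subtype.ext (Subtype.ext (congrArg (fun t : O.I => (t : G)) e)))
  · have hxH : (x : G) ∈ HH := mem_centralizer_singleton_iff.2 (D.pre.gen.comm_z _ x.2.1).eq
    exact ⟨⟨⟨⟨x, hxH⟩, mem_subgroupOf.2 ⟨x.2.2, hxH⟩⟩, MonoidHom.mem_ker.2 ((D.ψ_one_iff _).2 x.2.1)⟩, rfl⟩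

theorem disp_mem {a : GL6} (ha : a ∈ O.A) {v : V6} (hv : v ∈ D.cent (O.u : G)) : disp a v ∈ O.IV := by
  obtain ⟨r, hr, rfl⟩ := O.exists_of_A ha
  obtain ⟨b, rfl, hb⟩ := hv
  refine ⟨MulAut.conjNormal r b * b⁻¹, ?_, ?_, ?_⟩
  · rw [D.π_mul, D.π_inv, D.act]
    rfl
  · exact val_mem _
  · show (r : G) * val b * (r : G)⁻¹ * (val b)⁻¹ ∈ O.Ju
    rw [show (r : G) * val b * (r : G)⁻¹ * (val b)⁻¹ = (r : G) * (val b * (r : G)⁻¹ * (val b)⁻¹) by group]
    exact mul_mem hr.1 (O.pre_u.conj_mem hb (inv_mem hr.1))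

theorem A_fix_IV {a : GL6} (ha : a ∈ O.A) {v : V6} (hv : v ∈ O.IV) : a v = v := by
  obtain ⟨r, hr, rfl⟩ := O.exists_of_A ha
  obtain ⟨b, rfl, hb⟩ := hv
  refine D.act_val ?_
  rw [O.Ru_comm_I hb hr, mul_inv_cancel_right]

theorem map_le {a : GL6} (ha : a ∈ O.A) : (D.cent (O.u : G)).map (disp a) ≤ O.IV := by
  rintro _ ⟨v, hv, rfl⟩
  exact O.disp_mem ha hv

theorem card_map_le {a : GL6} (ha : a ∈ O.A) : Nat.card ((fixS (D.ψ O.u)).map (disp a)) ≤ 2 * Nat.card O.IV :=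
  (card_map_two _ (D.cent_le_fix O.u) (D.card_fix_le O.u)).trans
    (Nat.mul_le_mul_left 2 (AddSubgroup.card_le_of_le (O.map_le ha)))

end Out

end CfsgLib.FiLarge.Chz
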