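import Cfsg.Agent.FiLarge.Chz.Fusion
import Cfsg.Agent.FiLarge.Pair

/-!
A conjugate of the central involution in the radical lies over no vector of the short orbit, and then the
centraliser induces more than the cover.
-/

set_option autoImplicit false
set_option maxRecDepth 100000
set_option linter.style.haveILetI false
set_option linter.unusedSectionVars false
set_option quotPrecheck false

namespace CfsgLib.FiLarge.Chz

open CfsgLib CfsgLib.FiLarge Subgroup
open Dz (val val_mem val_inj zcomm)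

/-- The stabiliser of a short vector is simple and not abelian. -/
theorem simple_at (hK : Nat.card K0 = 9797760) (hs : sigE ∉ K0) {a : V6} (hA : Small a) :
    IsSimpleGroup ↥(K0 ⊓ fixer a) ∧ ∃ x y : ↥(K0 ⊓ fixer a), x * y ≠ y * x := by
  obtain ⟨k, hk, hka⟩ := hA
  haveI := small_simple hK hs
  have hcard := card_small_stab hK hs ⟨k, hk, hka⟩
  have hin : ∀ g ∈ K0 ⊓ fixer v2, k * g * k⁻¹ ∈ K0 ⊓ fixer a := fun g hg => by
    obtain ⟨h1, h2⟩ := mem_inf.1 hg
    refine mem_inf.2 ⟨mul_mem (mul_mem hk h1) (inv_mem hk), ?_⟩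
    show (k * g * k⁻¹) a = a
    rw [← hka, gl_mul, gl_mul, gl_inv_apply, mem_fixer.1 h2]
  let f : ↥(K0 ⊓ fixer v2) →* ↥(K0 ⊓ fixer a) :=
    { toFun := fun g => ⟨k * g * k⁻¹, hin g g.2⟩
      map_one' := Subtype.ext (by simp)
      map_mul' := fun g h => Subtype.ext (by
        show k * (g * h : GL6) * k⁻¹ = k * g * k⁻¹ * (k * h * k⁻¹)
        group) }
  have hf : Function.Surjective f := fun g => by
    obtain ⟨h1, h2⟩ := mem_inf.1 g.2
    refine ⟨⟨k⁻¹ * g * k, mem_inf.2 ⟨mul_mem (mul_mem (inv_mem hk) h1) hk, ?_⟩⟩, Subtype.ext ?_⟩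
    · show (k⁻¹ * (g : GL6) * k) v2 = v2
      rw [gl_mul, gl_mul, hka, mem_fixer.1 h2, ← hka, gl_inv_apply]
    · show k * (k⁻¹ * (g : GL6) * k) * k⁻¹ = g
      group
  haveI hnt : Nontrivial ↥(K0 ⊓ fixer a) := by
    rw [← Finite.one_lt_card_iff_nontrivial, hcard]; norm_num
  refine ⟨IsSimpleGroup.isSimpleGroup_of_surjective f hf, ?_⟩
  by_contra hno
  push Not at hno
  haveI := IsSimpleGroup.isSimpleGroup_of_surjective f hf
  letI : CommGroup ↥(K0 ⊓ fixer a) := { (inferInstance : Group ↥(K0 ⊓ fixer a)) with mul_comm := hno }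
  have hp := IsSimpleGroup.prime_card (α := ↥(K0 ⊓ fixer a))
  rw [hcard] at hp
  norm_num at hp

variable {G : Type*} [Group G] [Finite G] {z : G} {Q : Subgroup (centralizer ({z} : Set G))} [Q.Normal]
  (D : Dz z Q) {g : G} {s : Q}

local notation "HH" => centralizer ({z} : Set G)
local notation "QG" => Q.map (centralizer ({z} : Set G)).subtype

/-- The trace of the conjugate radical. -/
def EE (g : G) : Subgroup GL6 :=
  ((((QG).map (MulAut.conj g).toMonoidHom) ⊓ HH).subgroupOf HH).map D.ψ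

namespace Dz

variable (hg : g * z * g⁻¹ = val s)

include D in
theorem pre' (hg : g * z * g⁻¹ = val s) : LargeExtra.Pre ((QG).map (MulAut.conj g).toMonoidHom) (val s) :=
  hg ▸ LargeExtra.pre_conj D.pre g

include D in
theorem meet_comm (hg : g * z * g⁻¹ = val s) (hsz : val s ≠ z) {a b : G}
    (ha : a ∈ QG ⊓ (QG).map (MulAut.conj g).toMonoidHom) (hb : b ∈ QG ⊓ (QG).map (MulAut.conj g).toMonoidHom) :
    a * b = b * a := by
  rcases D.pre.gen.comm a ha.1 b hb.1 with e | e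
  · exact mul_inv_eq_iff_eq_mul.1 (mul_inv_eq_one.1 e)
  · exfalso
    rcases (D.pre' hg).gen.comm a ha.2 b hb.2 with e' | e'
    · exact D.pre.gen.ne_one (e.symm.trans e')
    · exact hsz (e'.symm.trans e)

include D in
theorem card_meet_le (hg : g * z * g⁻¹ = val s) (hsz : val s ≠ z) :
    Nat.card ↥(QG ⊓ (QG).map (MulAut.conj g).toMonoidHom) ≤ 2 ^ 7 := by
  set R := QG ⊓ (QG).map (MulAut.conj g).toMonoidHom
  have hle : R ≤ QG ⊓ centralizer (R : Set G) :=
    le_inf inf_le_left fun a ha => mem_centralizer_iff.2 fun b hb => D.meet_comm hg hsz hb ha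
  have hzR : z ∈ R := ⟨D.pre.gen.mem, D.pre.center_mem_conj (hg ▸ val_mem s)⟩
  have h := Extra2.card_mul_card_centralizer D.pre.gen hzR inf_le_left
  have h2 := Subgroup.card_le_of_le hle
  rw [card_map_of_injective (centralizer ({z} : Set G)).subtype_injective, D.cardQ] at h
  nlinarith

theorem EE_sq (hg : g * z * g⁻¹ = val s) : ∀ e ∈ EE D g, e * e = 1 := by
  rintro _ ⟨a, ha, rfl⟩
  rw [← map_mul, D.ψ_one_iff]
  rcases (D.pre' hg).gen.square (a : G) (mem_inf.1 (mem_subgroupOf.1 ha)).1 with e | e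
  · exact (congrArg (fun t => t ∈ QG) e).mpr (one_mem _)
  · exact (congrArg (fun t => t ∈ QG) e).mpr (val_mem s)

theorem EE_comm (hg : g * z * g⁻¹ = val s) : ∀ e ∈ EE D g, ∀ f ∈ EE D g, e * f = f * e := by
  intro e he f hf
  have hef := D.EE_sq hg _ (mul_mem he hf)
  have he' := D.EE_sq hg _ he
  have hf' := D.EE_sq hg _ hf
  calc e * f = e * f * (f * e * (e * f)) := by
        rw [show f * e * (e * f) = f * (e * e) * f by group, he', mul_one, hf', mul_one]
    _ = (e * f) * f * e * (e * f) := by group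
    _ = e * (f * f) * e * (e * f) := by group
    _ = e * e * (e * f) := by rw [hf', mul_one]
    _ = f * e * ((e * f) * (e * f)) := by
        rw [he', one_mul, show f * e * (e * f * (e * f)) = f * (e * e) * f * (e * f) by group, he', mul_one, hf',
          one_mul]
    _ = f * e := by rw [hef, mul_one]

theorem card_EE (hg : g * z * g⁻¹ = val s) (hsz : val s ≠ z) : 32 ≤ Nat.card (EE D g) := by
  set QS := (QG).map (MulAut.conj g).toMonoidHom
  have hQS : Nat.card QS = 2 ^ 13 := by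
    rw [card_map_of_injective (MulAut.conj g).injective,
      card_map_of_injective (centralizer ({z} : Set G)).subtype_injective, D.cardQ]
  have hzQS : z ∈ QS := D.pre.center_mem_conj (hg ▸ val_mem s)
  have h1 := Extra2.card_le_two_mul (D.pre' hg).gen QS le_rfl hzQS
  rw [hQS] at h1
  let f := D.ψ.comp ((QS ⊓ HH).subgroupOf HH).subtype
  have h2 := Subgroup.card_eq_card_quotient_mul_card_subgroup f.ker
  rw [Nat.card_congr (QuotientGroup.quotientKerEquivRange f).toEquiv, MonoidHom.range_comp, Subgroup.range_subtype,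
    Nat.card_congr (subgroupOfEquivOfLe (inf_le_right : QS ⊓ HH ≤ HH)).toEquiv] at h2
  let j : f.ker → ↥(QG ⊓ QS) := fun b => ⟨((b.1.1 : HH) : G),
    ⟨(D.ψ_one_iff _).1 (MonoidHom.mem_ker.1 b.2), (mem_inf.1 (mem_subgroupOf.1 b.1.2)).1⟩⟩
  have hj : Function.Injective j := fun a b e =>
    Subtype.ext (Subtype.ext (Subtype.ext (congrArg (fun u : ↥(QG ⊓ QS) => (u : G)) e)))
  have h3 := Nat.card_le_card_of_injective j hj
  have h4 := D.card_meet_le hg hsz
  have h5 : Nat.card ↥((((QS ⊓ HH).subgroupOf HH).map D.ψ)) = Nat.card (EE D g) := rfl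
  rw [h5] at h2
  nlinarith

theorem EE_le (hg : g * z * g⁻¹ = val s) (hs : val s ≠ 1) (hsz : val s ≠ z) :
    EE D g ≤ D.ψ.range ⊓ fixer (D.π s) := by
  rw [← D.map_cent hs hsz]
  refine map_mono fun c hc => mem_subgroupOf.2 (mem_inf.2 ⟨c.2, mem_centralizer_singleton_iff.2 ?_⟩)
  exact ((D.pre' hg).gen.comm_z _ (mem_inf.1 (mem_subgroupOf.1 hc)).1).eq

theorem EE_normalised (hg : g * z * g⁻¹ = val s) (hs : val s ≠ 1) (hsz : val s ≠ z) {x y : GL6}
    (hx : x ∈ D.ψ.range ⊓ fixer (D.π s)) (hy : y ∈ EE D g) : x * y * x⁻¹ ∈ EE D g := by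
  rw [← D.map_cent hs hsz] at hx
  obtain ⟨c, hc, rfl⟩ := hx
  obtain ⟨b, hb, rfl⟩ := hy
  refine ⟨c * b * c⁻¹, mem_subgroupOf.2 (mem_inf.2 ⟨?_, (c * b * c⁻¹).2⟩), by simp⟩
  exact (D.pre' hg).conj_mem (mem_centralizer_singleton_iff.1 (mem_inf.1 (mem_subgroupOf.1 hc)).2)
    (mem_inf.1 (mem_subgroupOf.1 hb)).1

theorem sing_of_conj (hg : g * z * g⁻¹ = val s) (hsz : val s ≠ z) : qn (D.π s) = 0 ∧ D.π s ≠ 0 := by
  refine ⟨(D.sq_iff_val s).1 ?_, fun h => ?_⟩
  · exact (D.pre' hg).gen.sq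
  · exact ((D.π_eq_zero s).1 h).elim (D.pre' hg).gen.ne_one hsz

/-- No fusion into the short orbit. -/
theorem not_small (hg : g * z * g⁻¹ = val s) (hsz : val s ≠ z) : ¬ Small (D.π s) := by
  intro hA
  have hs : val s ≠ 1 := (D.pre' hg).gen.ne_one
  set S := K0 ⊓ fixer (D.π s) with hS
  have hK0 : K0 ≤ D.ψ.range := D.mapK ▸ Subgroup.map_le_range _ _
  obtain ⟨hsimp, x, y, hxy⟩ := simple_at D.cardK0 D.sig_not hA
  haveI := hsimp
  haveI hn : ((EE D g).subgroupOf S).Normal := ⟨fun e he c => mem_subgroupOf.2 (by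
    obtain ⟨c1, c2⟩ := mem_inf.1 c.2
    exact D.EE_normalised hg hs hsz (mem_inf.2 ⟨hK0 c1, c2⟩) (mem_subgroupOf.1 he))⟩
  rcases IsSimpleGroup.eq_bot_or_eq_top_of_normal _ hn with h | h
  · obtain ⟨j, hj, hrel, -⟩ := relIndex_cases D
    have h32 := D.card_EE hg hsz
    have hbot : K0.subgroupOf (EE D g) = ⊥ := eq_bot_iff.2 fun e he => mem_bot.2 (by
      have hmem : (⟨e.1, mem_inf.2 ⟨mem_subgroupOf.1 he, (mem_inf.1 (D.EE_le hg hs hsz e.2)).2⟩⟩ : S) ∈
          (EE D g).subgroupOf S := mem_subgroupOf.2 e.2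
      rw [h, mem_bot] at hmem
      exact Subtype.ext (congrArg (fun t : S => (t : GL6)) hmem))
    have h1 := Subgroup.card_mul_index (K0.subgroupOf (EE D g))
    rw [hbot, Subgroup.card_bot, one_mul, ← hbot] at h1
    have h2 := Subgroup.relIndex_le_of_le_right (H := K0) ((D.EE_le hg hs hsz).trans inf_le_left)
      (by rw [hrel]; positivity)
    rw [hrel] at h2
    have h4 : 2 ^ j ≤ 2 ^ 2 := Nat.pow_le_pow_right two_pos hj
    rw [show (K0.subgroupOf (EE D g)).index = K0.relIndex (EE D g) from rfl] at h1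
    omega
  · refine hxy (Subtype.ext ?_)
    exact D.EE_comm hg _ (mem_subgroupOf.1 (h ▸ mem_top x)) _ (mem_subgroupOf.1 (h ▸ mem_top y))

/-- With fusion the centraliser induces more than the cover. -/
theorem range_ne (hg : g * z * g⁻¹ = val s) (hsz : val s ≠ z) : D.ψ.range ≠ K0 := by
  classical
  intro hr
  have hs : val s ≠ 1 := (D.pre' hg).gen.ne_one
  obtain ⟨hq, hq0⟩ := D.sing_of_conj hg hsz
  set T := T1 D.cardK0 D.sig_not
  obtain ⟨k0, hk0, hk1, hknot⟩ := (T.card_small le_rfl).2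
  set v := nf k0
  have hfull : ∀ k : Fin 5, k ≠ 0 → k ≠ 1 → (∀ i, nf k i ≠ 0) ∧ qn (nf k) = 0 := by decide +kernel
  obtain ⟨hv, hvq⟩ := hfull k0 hk0 hk1
  have hvs : ¬ Small v := fun ⟨k, hk, e⟩ => hknot (T.mem_orb.2 ⟨⟨k, le_adj hk⟩, hk, e⟩)
  have hv0 : v ≠ 0 := fun e => hv 0 (congrFun e 0)
  obtain ⟨k, hk, hkv⟩ := trans_large D.sig_not D.cardK0 hq hq0 (D.not_small hg hsz) hvq hv0 hvs
  have hmem : ∀ τ : A6, k⁻¹ * ((T.twistHom v τ : GL6)) * k ∈ K0 ⊓ fixer (D.π s) := fun τ => by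
    have h1 : (T.twistHom v τ : GL6) ∈ K0 := (T.exists_twist v τ).choose_spec.1
    refine mem_inf.2 ⟨mul_mem (mul_mem (inv_mem hk) h1) hk, ?_⟩
    show (k⁻¹ * (T.twistHom v τ : GL6) * k) (D.π s) = D.π s
    have h2 : (T.twistHom v τ : GL6) v = v := T.twistHom_fix hv τ
    rw [gl_mul, gl_mul, show k (D.π s) = v from hkv, h2, show v = k (D.π s) from hkv.symm, gl_inv_apply]
  let ι : A6 →* ↥(K0 ⊓ fixer (D.π s)) :=
    { toFun := fun τ => ⟨_, hmem τ⟩
      map_one' := Subtype.ext (by simp)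
      map_mul' := fun σ τ => Subtype.ext (by
        show k⁻¹ * (T.twistHom v (σ * τ) : GL6) * k = k⁻¹ * (T.twistHom v σ : GL6) * k * (k⁻¹ * (T.twistHom v τ : GL6) * k)
        rw [map_mul, Subgroup.coe_mul]; group) }
  have hι : Function.Injective ι := fun σ τ h => by
    refine T.twistHom_injective v (Subtype.ext ?_)
    have e : k⁻¹ * (T.twistHom v σ : GL6) * k = k⁻¹ * (T.twistHom v τ : GL6) * k := congrArg Subtype.val h
    exact mul_left_cancel (mul_right_cancel e)
  set E := (EE D g).subgroupOf (K0 ⊓ fixer (D.π s))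
  haveI hn : E.Normal := ⟨fun e he c => mem_subgroupOf.2 (by
    obtain ⟨c1, c2⟩ := mem_inf.1 c.2
    exact D.EE_normalised hg hs hsz (mem_inf.2 ⟨by rw [hr]; exact c1, c2⟩) (mem_subgroupOf.1 he))⟩
  let φ := (QuotientGroup.mk' E).comp ι
  haveI : IsSimpleGroup A6 := alternatingGroup.isSimpleGroup (by simp)
  have hφ : Function.Injective φ := by
    rw [← MonoidHom.ker_eq_bot_iff]
    refine (IsSimpleGroup.eq_bot_or_eq_top_of_normal _ inferInstance).resolve_right fun h => ?_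
    have hin : ∀ τ, ι τ ∈ E := fun τ =>
      (QuotientGroup.eq_one_iff _).1 (MonoidHom.mem_ker.1 (h ▸ mem_top τ : τ ∈ φ.ker))
    refine Dat.alt_nonabelian (hι ?_)
    rw [map_mul, map_mul]
    exact Subtype.ext (D.EE_comm hg _ (mem_subgroupOf.1 (hin g3)) _ (mem_subgroupOf.1 (hin g5)))
  have hEcard : Nat.card E = Nat.card (EE D g) :=
    Nat.card_congr (subgroupOfEquivOfLe (hr ▸ D.EE_le hg hs hsz)).toEquiv
  have hdvd : 360 * Nat.card (EE D g) ∣ Nat.card ↥(K0 ⊓ fixer (D.π s)) := by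
    rw [Subgroup.card_eq_card_quotient_mul_card_subgroup E, hEcard]
    refine Nat.mul_dvd_mul_right ?_ _
    rw [← card_A6]
    exact Subgroup.card_dvd_of_injective φ hφ
  rw [card_large D.cardK0 D.sig_not hq hq0 (D.not_small hg hsz)] at hdvd
  have h1 := Nat.le_of_dvd (by norm_num) hdvd
  have h2 := D.card_EE hg hsz
  omega

end Dz

end CfsgLib.FiLarge.Chz
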