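import Cfsg.Agent.FiLarge.Chz.Defs
import Mathlib.GroupTheory.Sylow

/-!
A group acting on the orthogonal space with the cover as normal subgroup: the monomial elements of the cover.
-/

set_option autoImplicit false
set_option maxRecDepth 100000
set_option maxHeartbeats 1000000

namespace CfsgLib.FiLarge.Chz

open CfsgLib CfsgLib.FiLarge Subgroup

/-- The scalar of order three. -/
def omE : GL6 := dmulE fun _ => 1

theorem omE_apply (a : V6) : omE a = om • a := rfl

theorem dmulE_mul (l m : Fin 6 → ZMod 3) : dmulE l * dmulE m = dmulE (l + m) := by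
  refine LinearEquiv.ext fun a => funext fun i => ?_
  show omp (l i) * (omp (m i) * a i) = omp (l i + m i) * a i
  rw [omp_add, mul_assoc]

theorem dmulE_zero : dmulE 0 = 1 := by
  refine LinearEquiv.ext fun a => funext fun i => ?_
  show omp 0 * a i = a i
  rw [omp_zero, one_mul]

theorem dmulE_inv (l : Fin 6 → ZMod 3) : (dmulE l)⁻¹ = dmulE (-l) :=
  inv_eq_of_mul_eq_one_right (by rw [dmulE_mul, add_neg_cancel, dmulE_zero])

theorem permE_dmulE (τ : Equiv.Perm (Fin 6)) (l : Fin 6 → ZMod 3) :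
    permE τ * dmulE l = dmulE (fun i => l (τ i)) * permE τ := LinearEquiv.ext fun _ => rfl

theorem permE_inv (τ : Equiv.Perm (Fin 6)) : (permE τ)⁻¹ = permE τ⁻¹ :=
  inv_eq_of_mul_eq_one_right (by rw [permE_mul, inv_mul_cancel, permE_one])

theorem mono_inj {l m : Fin 6 → ZMod 3} {σ τ : Equiv.Perm (Fin 6)}
    (h : dmulE l * permE σ = dmulE m * permE τ) : l = m ∧ σ = τ := by
  have key : ∀ i, σ i = τ i ∧ l i = m i := by
    intro i
    have h1 := congrFun (LinearEquiv.congr_fun h (Pi.single (σ i) 1)) i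
    simp only [gl_mul, dmulE_apply, dmul, permE_apply, Pi.single_eq_same, mul_one] at h1
    have he : σ i = τ i := by
      by_contra e
      rw [Pi.single_eq_of_ne (Ne.symm e), mul_zero] at h1
      exact omp_ne _ h1
    rw [← he, Pi.single_eq_same, mul_one] at h1
    exact ⟨he, omp_inj _ _ h1⟩
  exact ⟨funext fun i => (key i).2, Equiv.ext fun i => (key i).1⟩

/-- The diagonal group. -/
def diagG : Subgroup GL6 where
  carrier := {g | ∃ l : Fin 6 → ZMod 3, ∑ i, l i = 0 ∧ g = dmulE l}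
  one_mem' := ⟨0, by simp, dmulE_zero.symm⟩
  mul_mem' := by
    rintro _ _ ⟨l, hl, rfl⟩ ⟨m, hm, rfl⟩
    exact ⟨l + m, by simp [Finset.sum_add_distrib, hl, hm], dmulE_mul l m⟩
  inv_mem' := by
    rintro _ ⟨l, hl, rfl⟩
    exact ⟨-l, by simp [hl], dmulE_inv l⟩

theorem omE_mem_diag : omE ∈ diagG := ⟨fun _ => 1, by decide, rfl⟩

theorem dmulE_mem {l : Fin 6 → ZMod 3} (hl : ∑ i, l i = 0) : dmulE l ∈ diagG := ⟨l, hl, rfl⟩

theorem dmulE_inj : Function.Injective dmulE := fun l m h => by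
  refine (mono_inj (σ := 1) (τ := 1) ?_).1
  rw [permE_one, mul_one, mul_one, h]

theorem card_sum_zero : Nat.card {l : Fin 6 → ZMod 3 // ∑ i, l i = 0} = 243 := by
  rw [Nat.card_eq_fintype_card]; decide +kernel

theorem card_even : Nat.card {τ : Equiv.Perm (Fin 6) // Equiv.Perm.sign τ = 1} = 360 :=
  (Nat.card_congr (Equiv.subtypeEquivRight fun _ => Iff.rfl)).trans card_A6

theorem card_diag : Nat.card diagG = 243 := by
  rw [← card_sum_zero]
  refine (Nat.card_eq_of_bijective (fun l => (⟨dmulE l.1, dmulE_mem l.2⟩ : diagG))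
    ⟨fun l m h => Subtype.ext (dmulE_inj (congrArg Subtype.val h)), ?_⟩).symm
  rintro ⟨_, l, hl, rfl⟩
  exact ⟨⟨l, hl⟩, rfl⟩

theorem diag_comm {a b : GL6} (ha : a ∈ diagG) (hb : b ∈ diagG) : a * b = b * a := by
  obtain ⟨l, -, rfl⟩ := ha
  obtain ⟨m, -, rfl⟩ := hb
  rw [dmulE_mul, dmulE_mul, add_comm]

theorem diag_cube {a : GL6} (ha : a ∈ diagG) : a ^ 3 = 1 := by
  obtain ⟨l, -, rfl⟩ := ha
  rw [pow_succ, pow_two, dmulE_mul, dmulE_mul, ← dmulE_zero]
  congr 1
  funext i
  exact (by decide : ∀ x : ZMod 3, x + x + x = 0) (l i)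

/-- An elementary abelian group of order 243. -/
def IsDiagLike (E : Subgroup GL6) : Prop :=
  Nat.card E = 243 ∧ (∀ a ∈ E, ∀ b ∈ E, a * b = b * a) ∧ ∀ a ∈ E, a ^ 3 = 1

/-- A group of isometries with the cover as normal subgroup. -/
structure Raw (H M : Subgroup GL6) : Prop where
  le : M ≤ H
  normal : ∀ h ∈ H, ∀ m ∈ M, h * m * h⁻¹ ∈ M
  card : Nat.card M = 9797760
  inv : ∀ h ∈ H, ∀ a, qn (h a) = qn a
  central : ∀ m ∈ M, m * omE = omE * m
  semi : ∀ h ∈ H, h * omE * h⁻¹ = omE ∨ h * omE * h⁻¹ = omE⁻¹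
  diag : ∀ l : Fin 6 → ZMod 3, ∑ i, l i = 0 → dmulE l ∈ M
  perm : ∀ τ : Equiv.Perm (Fin 6), Equiv.Perm.sign τ = 1 → permE τ ∈ M
  conj_diag : ∀ E : Subgroup GL6, E ≤ M → IsDiagLike E → ∃ m ∈ M, ∀ e ∈ E, m * e * m⁻¹ ∈ diagG
  eq_diag : ∀ E : Subgroup GL6, E ≤ M → IsDiagLike E →
    (∀ d ∈ diagG, ∀ e ∈ E, d * e * d⁻¹ ∈ E) → E = diagG
  small : ∀ U : Subgroup GL6, U ≤ M → omE ∈ U → Nat.card M ≤ 8 * Nat.card U → U = M

theorem diagLike_map (g : GL6) : IsDiagLike (diagG.map (MulAut.conj g).toMonoidHom) := by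
  refine ⟨by rw [card_map_of_injective (MulAut.conj g).injective, card_diag], ?_, ?_⟩
  · rintro _ ⟨a, ha, rfl⟩ _ ⟨b, hb, rfl⟩
    rw [← map_mul, diag_comm ha hb, map_mul]
  · rintro _ ⟨a, ha, rfl⟩
    rw [← map_pow, diag_cube ha, map_one]

/-- Commuting with the scalar means linear over the field of four elements. -/
theorem linear_of_comm {g : GL6} (h : g * omE = omE * g) (c : F4) (a : V6) : g (c • a) = c • g a := by
  have h1 : ∀ b, g (om • b) = om • g b := fun b => LinearEquiv.congr_fun h b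
  rcases smul_split c with rfl | rfl | rfl | rfl
  · rw [zero_smul, map_zero, zero_smul]
  · rw [one_smul, one_smul]
  · exact h1 a
  · rw [mul_smul, h1, h1, ← mul_smul]

theorem frobE_omE : frobE * omE * frobE = omE⁻¹ := by
  rw [omE, dmulE_inv]
  refine LinearEquiv.ext fun a => funext fun i => ?_
  show (omp 1 * (a i * a i)) * (omp 1 * (a i * a i)) = omp (-1) * a i
  generalize a i = t
  revert t
  decide +kernel

theorem frobE_sq : frobE * frobE = 1 :=
  LinearEquiv.ext fun a => funext fun i => f4_pow_four (a i)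

theorem frobE_dmulE (l : Fin 6 → ZMod 3) : frobE * dmulE l * frobE = dmulE (-l) := by
  refine LinearEquiv.ext fun a => funext fun i => ?_
  show omp (l i) * (a i * a i) * (omp (l i) * (a i * a i)) = omp (-l i) * a i
  generalize l i = k
  generalize a i = t
  revert t k
  decide +kernel

theorem sep_coord : ∀ j k : Fin 6, j ≠ k → ∃ v : Fin 6 → ZMod 3, ∑ i, v i = 0 ∧ v j ≠ v k := by
  decide +kernel

/-- A linear map normalising the diagonal group is monomial. -/
theorem mono_lin {g : GL6} (h : g * omE = omE * g) (hn : ∀ d ∈ diagG, g⁻¹ * d * g ∈ diagG) :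
    ∃ (l : Fin 6 → ZMod 3) (τ : Equiv.Perm (Fin 6)), g = dmulE l * permE τ := by
  classical
  have hcol : ∀ i, ∃ j k, g (Pi.single i 1) = Pi.single j (omp k) := by
    intro i
    set w := g (Pi.single i 1) with hw
    have hsame : ∀ j k, w j ≠ 0 → w k ≠ 0 → j = k := by
      intro j k hj hk
      by_contra hjk
      obtain ⟨v, hv, hvne⟩ := sep_coord j k hjk
      obtain ⟨m, -, hm⟩ := hn _ (dmulE_mem hv)
      have e : dmulE v w = omp (m i) • w := by
        have e0 : g (dmulE m (Pi.single i 1)) = dmulE v w := by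
          rw [← hm, ← gl_mul, ← mul_assoc, mul_inv_cancel_left]
          rfl
        rw [← e0, show dmulE m (Pi.single i 1) = omp (m i) • (Pi.single i 1 : V6) by
          funext l
          by_cases hl : l = i
          · subst hl; simp [dmulE_apply, dmul]
          · simp [dmulE_apply, dmul, Pi.single_eq_of_ne hl], linear_of_comm h]
      have ej := congrFun e j
      have ek := congrFun e k
      simp only [dmulE_apply, dmul, Pi.smul_apply, smul_eq_mul] at ej ek
      exact hvne (omp_inj _ _ ((mul_right_cancel₀ hj ej).trans (mul_right_cancel₀ hk ek).symm))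
    obtain ⟨j, hj⟩ : ∃ j, w j ≠ 0 := by
      by_contra hall
      push Not at hall
      have : (Pi.single i (1 : F4) : V6) = 0 := g.injective (by rw [map_zero]; exact funext hall)
      have h1 := congrFun this i
      rw [Pi.single_eq_same] at h1
      exact one_ne_zero (α := F4) h1
    obtain ⟨k, hk⟩ := exists_omp _ hj
    refine ⟨j, k, funext fun l => ?_⟩
    by_cases hl : l = j
    · subst hl; rw [Pi.single_eq_same, hk]
    · rw [Pi.single_eq_of_ne hl]
      by_contra hne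
      exact hl (hsame l j hne hj)
  choose σ k hσ using hcol
  have hinj : Function.Injective σ := by
    intro i i' e
    by_contra hne
    have h2 : g (omp (k i' - k i) • (Pi.single i 1 : V6)) = g (Pi.single i' 1) := by
      rw [linear_of_comm h, hσ, hσ, e]
      funext l
      by_cases hl : l = σ i'
      · subst hl; simp [← omp_add]
      · simp [Pi.single_eq_of_ne hl]
    have h3 := congrFun (g.injective h2) i
    simp [Pi.single_eq_of_ne hne] at h3
    exact omp_ne _ h3
  let τ : Equiv.Perm (Fin 6) := (Equiv.ofBijective σ ⟨hinj, Finite.injective_iff_surjective.1 hinj⟩).symm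
  have hτ : ∀ i, σ (τ i) = i := fun i => Equiv.ofBijective_apply_symm_apply σ _ i
  refine ⟨fun i => k (τ i), τ, LinearEquiv.ext fun a => ?_⟩
  have ha : a = ∑ j, a j • (Pi.single j 1 : V6) := by
    funext l
    simp [Finset.sum_apply, Pi.single_apply]
  conv_lhs => rw [ha]
  rw [map_sum]
  funext i
  rw [Finset.sum_apply, Finset.sum_eq_single (τ i)]
  · rw [linear_of_comm h, hσ, hτ]
    simp [gl_mul, dmulE_apply, dmul, permE_apply, mul_comm]
  · intro j _ hj
    rw [linear_of_comm h, hσ]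
    have : i ≠ σ j := fun e => hj (hinj (by rw [hτ, e]))
    simp [Pi.single_eq_of_ne this]
  · simp

/-- The monomial group. -/
def monoAll : Subgroup GL6 where
  carrier := {g | ∃ (l : Fin 6 → ZMod 3) (τ : Equiv.Perm (Fin 6)), g = dmulE l * permE τ}
  one_mem' := ⟨0, 1, by rw [dmulE_zero, permE_one, one_mul]⟩
  mul_mem' := by
    rintro _ _ ⟨l, τ, rfl⟩ ⟨m, σ, rfl⟩
    exact ⟨l + fun i => m (τ i), σ * τ, by
      rw [mul_assoc, ← mul_assoc (permE τ), permE_dmulE, mul_assoc (dmulE _) (permE τ), permE_mul,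
        ← mul_assoc, dmulE_mul]⟩
  inv_mem' := by
    rintro _ ⟨l, τ, rfl⟩
    exact ⟨fun i => -l (τ⁻¹ i), τ⁻¹, by rw [mul_inv_rev, dmulE_inv, permE_inv, permE_dmulE]; rfl⟩

/-- The even monomial group with exponent sum zero. -/
def monoEven : Subgroup GL6 where
  carrier := {g | ∃ (l : Fin 6 → ZMod 3) (τ : Equiv.Perm (Fin 6)), ∑ i, l i = 0 ∧
    Equiv.Perm.sign τ = 1 ∧ g = dmulE l * permE τ}
  one_mem' := ⟨0, 1, by simp, map_one _, by rw [dmulE_zero, permE_one, one_mul]⟩
  mul_mem' := by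
    rintro _ _ ⟨l, τ, hl, hτ, rfl⟩ ⟨m, σ, hm, hσ, rfl⟩
    refine ⟨l + fun i => m (τ i), σ * τ, ?_, by rw [map_mul, hσ, hτ, one_mul], by
      rw [mul_assoc, ← mul_assoc (permE τ), permE_dmulE, mul_assoc (dmulE _) (permE τ), permE_mul,
        ← mul_assoc, dmulE_mul]⟩
    rw [show (l + fun i => m (τ i)) = fun i => l i + m (τ i) from rfl, Finset.sum_add_distrib,
      Equiv.sum_comp τ m, hl, hm, add_zero]
  inv_mem' := by
    rintro _ ⟨l, τ, hl, hτ, rfl⟩
    refine ⟨fun i => -l (τ⁻¹ i), τ⁻¹, ?_, by rw [map_inv, hτ, inv_one], by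
      rw [mul_inv_rev, dmulE_inv, permE_inv, permE_dmulE]; rfl⟩
    rw [Finset.sum_neg_distrib, Equiv.sum_comp τ⁻¹ l, hl, neg_zero]

theorem monoEven_le : monoEven ≤ monoAll := fun _ ⟨l, τ, _, _, h⟩ => ⟨l, τ, h⟩

theorem card_monoEven : Nat.card monoEven = 87480 := by
  let f : {l : Fin 6 → ZMod 3 // ∑ i, l i = 0} × {τ : Equiv.Perm (Fin 6) // Equiv.Perm.sign τ = 1} → monoEven :=
    fun p => ⟨dmulE p.1.1 * permE p.2.1, p.1.1, p.2.1, p.1.2, p.2.2, rfl⟩
  have hf : Function.Bijective f := by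
    refine ⟨fun p q h => ?_, ?_⟩
    · obtain ⟨h1, h2⟩ := mono_inj (congrArg Subtype.val h)
      exact Prod.ext (Subtype.ext h1) (Subtype.ext h2)
    · rintro ⟨_, l, τ, hl, hτ, rfl⟩
      exact ⟨(⟨l, hl⟩, ⟨τ, hτ⟩), rfl⟩
  rw [← Nat.card_eq_of_bijective f hf, Nat.card_prod, card_sum_zero, card_even]

theorem card_monoAll : Nat.card monoAll = 524880 := by
  let f : (Fin 6 → ZMod 3) × Equiv.Perm (Fin 6) → monoAll := fun p => ⟨dmulE p.1 * permE p.2, p.1, p.2, rfl⟩
  have hf : Function.Bijective f := by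
    refine ⟨fun p q h => ?_, ?_⟩
    · obtain ⟨h1, h2⟩ := mono_inj (congrArg Subtype.val h)
      exact Prod.ext h1 h2
    · rintro ⟨_, l, τ, rfl⟩
      exact ⟨(l, τ), rfl⟩
  rw [← Nat.card_eq_of_bijective f hf, Nat.card_prod, Nat.card_fun, Nat.card_zmod, Nat.card_perm, Nat.card_fin]
  rfl

namespace Raw

variable {H M : Subgroup GL6} (R : Raw H M)

include R in
theorem monoEven_M : monoEven ≤ M := by
  rintro _ ⟨l, τ, hl, hτ, rfl⟩
  exact mul_mem (R.diag l hl) (R.perm τ hτ)

include R in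
theorem diag_M : diagG ≤ M := by
  rintro _ ⟨l, hl, rfl⟩
  exact R.diag l hl

include R in
/-- The elements of the cover normalising the diagonal group. -/
theorem normalizer_diag : M ⊓ normalizer (diagG : Set GL6) = monoEven := by
  classical
  set N := M ⊓ normalizer (diagG : Set GL6)
  have h1 : monoEven ≤ N := by
    refine le_inf R.monoEven_M fun g hg => ?_
    have hin : ∀ g ∈ monoEven, ∀ d ∈ diagG, g * d * g⁻¹ ∈ diagG := by
      rintro _ ⟨l, τ, -, -, rfl⟩ _ ⟨m, hm, rfl⟩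
      refine ⟨fun i => m (τ i), by rw [Equiv.sum_comp τ m, hm], ?_⟩
      rw [mul_inv_rev, mul_assoc (dmulE l), permE_dmulE, ← mul_assoc, ← mul_assoc, mul_inv_cancel_right,
        dmulE_inv, dmulE_mul, dmulE_mul, add_comm l, add_neg_cancel_right]
    refine mem_normalizer_iff.2 fun d => ⟨hin g hg d, fun h => ?_⟩
    have := hin _ (inv_mem hg) _ h
    rwa [show g⁻¹ * (g * d * g⁻¹) * g⁻¹⁻¹ = d by group] at this
  have h2 : N ≤ monoAll := by
    rintro g ⟨hgM, hgn⟩
    exact mono_lin (R.central g hgM) fun d hd => (mem_normalizer_iff''.1 hgn d).1 hd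
  -- the number of conjugates
  haveI : Fact (Nat.Prime 3) := ⟨Nat.prime_three⟩
  set Ns := N.subgroupOf M
  set Ds := diagG.subgroupOf M
  have hD3 : IsPGroup 3 Ds := IsPGroup.of_card (n := 5) (by
    rw [Nat.card_congr (subgroupOfEquivOfLe R.diag_M).toEquiv, card_diag]; norm_num)
  have hfix : MulAction.fixedPoints Ds (↥M ⧸ Ns) = {((1 : ↥M) : ↥M ⧸ Ns)} := by
    ext q
    obtain ⟨m, rfl⟩ := QuotientGroup.mk_surjective q
    simp only [Set.mem_singleton_iff, MulAction.mem_fixedPoints]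
    constructor
    · intro hq
      have hE : diagG.map (MulAut.conj (m : GL6)).toMonoidHom = diagG := by
        refine R.eq_diag _ ?_ (diagLike_map _) fun d hd e he => ?_
        · rintro _ ⟨a, ha, rfl⟩
          exact mul_mem (mul_mem m.2 (R.diag_M ha)) (inv_mem m.2)
        obtain ⟨a, ha, rfl⟩ := he
        have hdn : (m : GL6)⁻¹ * d * m ∈ N := by
          have h := QuotientGroup.eq.1 (hq ⟨⟨d, R.diag_M hd⟩, mem_subgroupOf.2 hd⟩)
          have h' := inv_mem (mem_subgroupOf.1 h)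
          simp only [Subgroup.coe_mul, InvMemClass.coe_inv, Subgroup.smul_def, smul_eq_mul] at h'
          simpa [mul_assoc] using h'
        refine ⟨((m : GL6)⁻¹ * d * m) * a * ((m : GL6)⁻¹ * d * m)⁻¹, (mem_normalizer_iff.1 hdn.2 a).1 ha, ?_⟩
        simp only [MulEquiv.coe_toMonoidHom, MulAut.conj_apply]
        group
      refine (QuotientGroup.eq.2 (mem_subgroupOf.2 ?_)).symm
      refine Subgroup.mem_inf.2 ⟨SetLike.coe_mem _, mem_normalizer_iff.2 fun d => ?_⟩
      have hmem : ∀ d, d ∈ diagG ↔ ∃ a ∈ diagG, (m : GL6) * a * (m : GL6)⁻¹ = d := fun d => by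
        conv_lhs => rw [← hE]
        simp [Subgroup.mem_map]
      simp only [inv_one, one_mul, InvMemClass.coe_inv, Subgroup.coe_mul, Subgroup.coe_one]
      constructor
      · intro hd
        exact (hmem _).2 ⟨d, hd, rfl⟩
      · intro hd
        obtain ⟨a, ha, e⟩ := (hmem _).1 hd
        rwa [← mul_left_cancel (mul_right_cancel e)]
    · intro hq d
      rw [hq]
      refine (QuotientGroup.eq.2 (mem_subgroupOf.2 ?_)).symm
      simp only [Subgroup.smul_def, smul_eq_mul, inv_one, one_mul, mul_one]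
      exact h1 (by
        obtain ⟨l, hl, e⟩ := mem_subgroupOf.1 d.2
        exact ⟨l, 1, hl, map_one _, by rw [permE_one, mul_one]; exact e⟩)
  have hmod := hD3.card_modEq_card_fixedPoints (↥M ⧸ Ns)
  rw [hfix, Nat.card_coe_set_eq, Set.ncard_singleton] at hmod
  have hprod : Nat.card (↥M ⧸ Ns) * Nat.card N = 9797760 := by
    rw [← R.card, Subgroup.card_eq_card_quotient_mul_card_subgroup Ns,
      Nat.card_congr (subgroupOfEquivOfLe (inf_le_left : N ≤ M)).toEquiv]
  have hd1 := Subgroup.card_dvd_of_le h1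
  have hd2 := Subgroup.card_dvd_of_le h2
  rw [card_monoEven] at hd1
  rw [card_monoAll] at hd2
  obtain ⟨j, hj⟩ := hd1
  refine (Subgroup.eq_of_le_of_card_ge h1 ?_).symm
  rw [card_monoEven, hj]
  rw [hj] at hprod hd2
  have hj6 : j ∣ 6 := Nat.dvd_of_mul_dvd_mul_left (by norm_num : 0 < 87480) hd2
  have hjm := Nat.le_of_dvd (by norm_num) hj6
  have hn : Nat.card (↥M ⧸ Ns) % 3 = 1 := hmod
  interval_cases j <;> omega

include R in
/-- A monomial element of the cover is even with exponent sum zero. -/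
theorem mono_mem {l : Fin 6 → ZMod 3} {τ : Equiv.Perm (Fin 6)} (h : dmulE l * permE τ ∈ M) :
    ∑ i, l i = 0 ∧ Equiv.Perm.sign τ = 1 := by
  have hn : dmulE l * permE τ ∈ monoEven := by
    rw [← R.normalizer_diag]
    refine ⟨h, mem_normalizer_iff.2 fun d => ?_⟩
    have key : ∀ d, dmulE l * permE τ * d * (dmulE l * permE τ)⁻¹ ∈ diagG → d ∈ diagG := by
      rintro d ⟨m, hm, e⟩
      refine ⟨fun i => m (τ⁻¹ i), by rw [Equiv.sum_comp τ⁻¹ m, hm], ?_⟩
      have e' : d = (dmulE l * permE τ)⁻¹ * dmulE m * (dmulE l * permE τ) := by rw [← e]; group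
      rw [e', mul_inv_rev, dmulE_inv, mul_assoc, ← mul_assoc (dmulE m), dmulE_mul, mul_assoc,
        ← mul_assoc (dmulE (-l)), dmulE_mul, neg_add_cancel_comm_assoc, permE_inv, ← mul_assoc, permE_dmulE,
        mul_assoc, permE_mul, mul_inv_cancel, permE_one, mul_one]
    refine ⟨fun hd => ?_, key d⟩
    obtain ⟨m, hm, rfl⟩ := hd
    refine ⟨fun i => m (τ i), by rw [Equiv.sum_comp τ m, hm], ?_⟩
    rw [mul_inv_rev, mul_assoc (dmulE l), permE_dmulE, ← mul_assoc, ← mul_assoc, mul_inv_cancel_right,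
      dmulE_inv, dmulE_mul, dmulE_mul, add_comm l, add_neg_cancel_right]
  obtain ⟨l', τ', hl, hτ, e⟩ := hn
  obtain ⟨rfl, rfl⟩ := mono_inj e
  exact ⟨hl, hτ⟩

include R in
theorem odd_not_mem {τ : Equiv.Perm (Fin 6)} (hτ : Equiv.Perm.sign τ ≠ 1) : permE τ ∉ M := fun h =>
  hτ (R.mono_mem (l := 0) (by rwa [dmulE_zero, one_mul])).2

end Raw

end CfsgLib.FiLarge.Chz
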