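import Cfsg.Agent.FiLarge.Chz.Mono
import Cfsg.Agent.FiLarge.Chz.Coords
import Cfsg.Agent.FiLarge.Chz.Model81
import Cfsg.Agent.FiLarge.Setting
import Cfsg.Agent.Comp.Fitting
import Cfsg.Agent.Comp.Layer
import Cfsg.Agent.Solvable.Basics

/-!
Coordinates on an involution centraliser whose quotient by the extraspecial radical contains the cover as a
normal subgroup.
-/

set_option autoImplicit false
set_option maxRecDepth 100000
set_option maxHeartbeats 1000000
set_option linter.style.haveILetI false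
set_option linter.unusedSectionVars false

namespace CfsgLib.FiLarge.Chz

open CfsgLib CfsgLib.Quad CfsgLib.FiLarge Subgroup QuadraticMap
open scoped commutatorElement

/-- The centraliser in coordinates. -/
structure Dz {G : Type*} [Group G] (z : G) (Q : Subgroup (centralizer ({z} : Set G))) [Q.Normal] where
  pre : LargeExtra.Pre (Q.map (centralizer ({z} : Set G)).subtype) z
  cardQ : Nat.card Q = 2 ^ 13
  /-- The projection. -/
  π : Q → V6
  π_mul : ∀ a b, π (a * b) = π a + π b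
  π_surj : Function.Surjective π
  π_eq_zero : ∀ a, π a = 0 ↔ (((a : centralizer ({z} : Set G)) : G) = 1 ∨ ((a : centralizer ({z} : Set G)) : G) = z)
  sq_iff : ∀ a, a * a = 1 ↔ qn (π a) = 0
  comm_iff : ∀ a b, a * b = b * a ↔ qn (π a + π b) = qn (π a) + qn (π b)
  /-- The action. -/
  ψ : centralizer ({z} : Set G) →* GL6
  ker : ψ.ker = Q
  act : ∀ (c : centralizer ({z} : Set G)) (a : Q), π (MulAut.conjNormal c a) = ψ c (π a)
  inv : ∀ c a, qn (ψ c a) = qn a
  /-- The part inducing the cover. -/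
  K : Subgroup (centralizer ({z} : Set G))
  le : Q ≤ K
  mapK : K.map ψ = K0
  range_le : ψ.range ≤ Big
  cardK0 : Nat.card K0 = 9797760
  sig_not : sigE ∉ K0

/-- The model of the projective group with its abelian subgroup. -/
theorem cov_model {F : Type} [Field F] [Fintype F] (hF : Fintype.card F = 9) :
    ∃ L : W → Cfsg.PSU 4 F 3, (∀ a b, L (a + b) = L a * L b) ∧ Function.Injective L ∧
      ∀ p : A6, ∃ n, ∀ y, n * L y * n⁻¹ = L (rho p y) :=
  exists_model F hF

/-- An action of a group with the cover gives normal coordinates. -/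
theorem exists_raw {C V P : Type*} [Group C] [Finite C] [Group P] [Finite P] [IsSimpleGroup P] [AddCommGroup V]
    [Module (ZMod 2) V] (S : Sys0 C V P) (hMn : S.M.Normal)
    (hsemi : ∀ c : C, c * (S.cov.x : C) * c⁻¹ = S.cov.x ∨ c * (S.cov.x : C) * c⁻¹ = (S.cov.x : C)⁻¹)
    (hP : Nat.card P = 3265920) {Φ : V6 ≃ₗ[ZMod 2] V} {r' : C →* GL6}
    (hr : ∀ c a, Φ (r' c a) = S.r c (Φ a)) (hq : ∀ a, S.q (Φ a) = qn a) (hinj : Function.Injective r')
    (hx : ∀ a, r' S.cov.x a = om • a)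
    (hdiag : ∀ v : Fin 6 → ZMod 3, ∑ i, v i = 0 → ∃ c ∈ S.M, ∀ a, r' c a = dmul v a)
    (hperm : ∀ τ : Equiv.Perm (Fin 6), Equiv.Perm.sign τ = 1 → ∃ c ∈ S.M, ∀ a, r' c a = fun i => a (τ i)) :
    Raw r'.range (S.M.map r') := by
  classical
  set M' := S.M.map r' with hM'
  haveI : Fact (Nat.Prime 3) := ⟨Nat.prime_three⟩
  have hom : r' (S.cov.x : C) = omE := LinearEquiv.ext fun a => hx a
  let g : ↥S.M →* GL6 := r'.comp S.M.subtype
  have hginj : Function.Injective g := hinj.comp S.M.subtype_injective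
  have hrange : ∀ u ∈ M', ∃ m : S.M, g m = u := by
    rintro _ ⟨m, hm, rfl⟩
    exact ⟨⟨m, hm⟩, rfl⟩
  have hker3 : Nat.card S.cov.ψ.ker = 3 := by
    rw [show S.cov.ψ.ker = Subgroup.zpowers S.cov.x from ?_, Nat.card_zpowers]
    · exact orderOf_eq_prime S.cov.pow3 S.cov.ne1
    ext m
    rw [MonoidHom.mem_ker, S.cov.ker]
    constructor
    · rintro ⟨c, rfl⟩; exact Subgroup.pow_mem _ (Subgroup.mem_zpowers _) _
    · rintro ⟨k, rfl⟩
      refine ⟨(k : ZMod 3), ?_⟩
      show S.cov.x ^ k = _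
      rw [zp, ← zpow_natCast, ZMod.val_intCast]
      exact zpow_eq_zpow_emod' k S.cov.pow3
  have hcardM : Nat.card S.M = 9797760 := by
    rw [Subgroup.card_eq_card_quotient_mul_card_subgroup S.cov.ψ.ker,
      Nat.card_congr (QuotientGroup.quotientKerEquivOfSurjective _ S.cov.surj).toEquiv, hP, hker3]
  have hdM : diagG ≤ M' := by
    rintro _ ⟨l, hl, rfl⟩
    obtain ⟨c, hc, hca⟩ := hdiag l hl
    exact ⟨c, hc, LinearEquiv.ext fun a => hca a⟩
  let D' : Subgroup S.M := diagG.comap g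
  have hxD : S.cov.x ∈ D' := by
    show g S.cov.x ∈ diagG
    rw [show g S.cov.x = omE from hom]
    exact omE_mem_diag
  -- images in the projective group
  have key : ∀ E : Subgroup GL6, E ≤ M' → IsDiagLike E →
      (∀ a ∈ (E.comap g).map S.cov.ψ, ∀ b ∈ (E.comap g).map S.cov.ψ, a * b = b * a) ∧
        81 ≤ Nat.card ((E.comap g).map S.cov.ψ) ∧ IsPGroup 3 ((E.comap g).map S.cov.ψ) := by
    intro E hE hD
    have he : Nat.card (E.comap g) = 243 := by
      rw [← card_map_of_injective (K := E.comap g) hginj, map_comap_eq_self, hD.1]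
      intro u hu
      obtain ⟨m, rfl⟩ := hrange u (hE hu)
      exact ⟨m, rfl⟩
    have hp : IsPGroup 3 (E.comap g) := IsPGroup.of_card (n := 5) (by rw [he]; norm_num)
    refine ⟨?_, ?_, hp.map _⟩
    · rintro _ ⟨a, ha, rfl⟩ _ ⟨b, hb, rfl⟩
      rw [← map_mul, ← map_mul]
      congr 1
      exact hginj (by rw [map_mul, map_mul]; exact hD.2.1 _ ha _ hb)
    · let f := S.cov.ψ.comp (E.comap g).subtype
      have h1 := Subgroup.card_eq_card_quotient_mul_card_subgroup f.ker
      rw [Nat.card_congr (QuotientGroup.quotientKerEquivRange f).toEquiv, he] at h1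
      have h2 : Nat.card f.ker ≤ 3 := by
        rw [← hker3]
        exact Nat.card_le_card_of_injective (fun a => (⟨a.1.1, a.2⟩ : S.cov.ψ.ker))
          fun a b h => Subtype.ext (Subtype.ext (congrArg (fun t => t.1) h))
      have h3 : f.range = (E.comap g).map S.cov.ψ := by rw [MonoidHom.range_comp, Subgroup.range_subtype]
      rw [h3] at h1
      nlinarith
  obtain ⟨S3, hS3⟩ := exists_three hP S.cov.L S.cov.L_add S.cov.L_inj S.cov.norm
  -- the image of the diagonal group is conjugate to the abelian subgroup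
  have both : ∀ E : Subgroup GL6, E ≤ M' → IsDiagLike E → ∀ B : Subgroup P, IsPGroup 3 B →
      (E.comap g).map S.cov.ψ ≤ B →
      ∃ q : P, (∀ b ∈ B, q * b * q⁻¹ ∈ (S3 : Subgroup P)) := by
    intro E _ _ B hB _
    obtain ⟨Sy, hSy⟩ := hB.exists_le_sylow
    obtain ⟨q, hq'⟩ := MulAction.exists_smul_eq P Sy S3
    exact ⟨q, fun b hb => by rw [← hq']; exact ⟨b, hSy hb, rfl⟩⟩
  have inL : ∀ E : Subgroup GL6, E ≤ M' → IsDiagLike E → ∀ q : P,
      (∀ a ∈ (E.comap g).map S.cov.ψ, q * a * q⁻¹ ∈ (S3 : Subgroup P)) →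
      (∀ a ∈ (E.comap g).map S.cov.ψ, q * a * q⁻¹ ∈ Set.range S.cov.L) ∧
        ∀ y, ∃ a ∈ (E.comap g).map S.cov.ψ, q * a * q⁻¹ = S.cov.L y := by
    intro E hE hD q hq'
    obtain ⟨hab, h81, -⟩ := key E hE hD
    set A := ((E.comap g).map S.cov.ψ).map (MulAut.conj q).toMonoidHom with hA
    have hA81 : 81 ≤ Nat.card A := by rwa [hA, card_map_of_injective (MulAut.conj q).injective]
    have hsub : (A : Set P) ⊆ Set.range S.cov.L := by
      intro a ha
      refine hS3 A ?_ ?_ hA81 a ha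
      · rintro _ ⟨b, hb, rfl⟩; exact hq' b hb
      · rintro _ ⟨b, hb, rfl⟩ _ ⟨c, hc, rfl⟩
        rw [← map_mul, hab b hb c hc, map_mul]
    have heq : (A : Set P) = Set.range S.cov.L := Set.eq_of_subset_of_ncard_le hsub (by
      rw [Set.ncard_range_of_injective S.cov.L_inj, ← Nat.card_coe_set_eq, Nat.card_fun, Nat.card_zmod,
        Nat.card_fin]
      exact hA81)
    refine ⟨fun a ha => hsub ⟨a, ha, rfl⟩, fun y => ?_⟩
    obtain ⟨a, ha, e⟩ : S.cov.L y ∈ (A : Set P) := heq ▸ ⟨y, rfl⟩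
    exact ⟨a, ha, e⟩
  have hDlike : IsDiagLike diagG := by
    refine ⟨card_diag, fun a ha b hb => diag_comm ha hb, fun a ha => diag_cube ha⟩
  have hback : ∀ m : S.M, S.cov.ψ m ∈ D'.map S.cov.ψ → m ∈ D' := by
    rintro m ⟨d, hd, e⟩
    obtain ⟨c, hc⟩ := (S.cov.ker (d⁻¹ * m)).1 (by rw [map_mul, map_inv, e, inv_mul_cancel])
    have h := mul_mem hd (hc.symm ▸ Subgroup.pow_mem D' hxD _ : d⁻¹ * m ∈ D')
    rwa [mul_inv_cancel_left] at h
  refine ⟨?_, ?_, ?_, ?_, ?_, ?_, ?_, ?_, ?_, ?_, ?_⟩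
  · rintro _ ⟨m, -, rfl⟩
    exact ⟨m, rfl⟩
  · rintro _ ⟨c, rfl⟩ _ ⟨m, hm, rfl⟩
    exact ⟨c * m * c⁻¹, hMn.conj_mem m hm c, by rw [map_mul, map_mul, map_inv]⟩
  · rw [hM', card_map_of_injective hinj, hcardM]
  · rintro _ ⟨c, rfl⟩ a
    rw [← hq, hr, S.inv, hq]
  · rintro _ ⟨m, hm, rfl⟩
    rw [← hom, ← map_mul, ← map_mul]
    exact congrArg (fun t : S.M => r' t) (S.cov.central ⟨m, hm⟩)
  · rintro _ ⟨c, rfl⟩
    rw [← hom, ← map_inv, ← map_inv, ← map_mul, ← map_mul]
    exact (hsemi c).imp (congrArg r') (congrArg r')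
  · exact fun l hl => hdM ⟨l, hl, rfl⟩
  · intro τ hτ
    obtain ⟨c, hc, hca⟩ := hperm τ hτ
    exact ⟨c, hc, LinearEquiv.ext fun a => hca a⟩
  · intro E hE hD
    obtain ⟨q, hq'⟩ := both E hE hD _ (key E hE hD).2.2 le_rfl
    obtain ⟨q2, hq2⟩ := both diagG hdM hDlike _ (key _ hdM hDlike).2.2 le_rfl
    have h1 := (inL E hE hD q hq').1
    have h2 := (inL _ hdM hDlike q2 hq2).2
    obtain ⟨m, hm⟩ := S.cov.surj (q2⁻¹ * q)
    refine ⟨g m, ⟨m, m.2, rfl⟩, fun e he => ?_⟩
    obtain ⟨e', rfl⟩ := hrange e (hE he)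
    rw [← map_inv, ← map_mul, ← map_mul]
    refine hback _ ?_
    obtain ⟨y, hy⟩ := h1 _ ⟨e', he, rfl⟩
    obtain ⟨a, ha, e2⟩ := h2 y
    rw [map_mul, map_mul, map_inv, hm]
    have : q2⁻¹ * q * S.cov.ψ e' * (q2⁻¹ * q)⁻¹ = a := by
      calc q2⁻¹ * q * S.cov.ψ e' * (q2⁻¹ * q)⁻¹ = q2⁻¹ * (q * S.cov.ψ e' * q⁻¹) * q2 := by group
        _ = a := by rw [← hy, ← e2]; group
    rwa [this]
  · intro E hE hD hn
    set A := (E.comap g).map S.cov.ψ
    set B := D'.map S.cov.ψ
    have hnB : B ≤ normalizer (A : Set P) := by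
      have hin : ∀ d ∈ D', ∀ a ∈ A, S.cov.ψ d * a * (S.cov.ψ d)⁻¹ ∈ A := by
        rintro d hd _ ⟨a, ha, rfl⟩
        refine ⟨d * a * d⁻¹, ?_, by rw [map_mul, map_mul, map_inv]⟩
        show g (d * a * d⁻¹) ∈ E
        rw [map_mul, map_mul, map_inv]
        exact hn _ hd _ ha
      rintro _ ⟨d, hd, rfl⟩
      refine mem_normalizer_iff.2 fun a => ⟨hin d hd a, fun h => ?_⟩
      have := hin _ (inv_mem hd) _ h
      rw [map_inv] at this
      rwa [show (S.cov.ψ d)⁻¹ * (S.cov.ψ d * a * (S.cov.ψ d)⁻¹) * (S.cov.ψ d)⁻¹⁻¹ = a by group] at this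
    have hp : IsPGroup 3 (B ⊔ A : Subgroup P) :=
      (key _ hdM hDlike).2.2.to_sup_of_normal_right' (key E hE hD).2.2 hnB
    obtain ⟨q, hq'⟩ := both E hE hD _ hp le_sup_right
    have h1 := (inL E hE hD q fun a ha => hq' a (mem_sup_right ha)).1
    have h2 := (inL _ hdM hDlike q fun a ha => hq' a (mem_sup_left ha)).2
    refine Subgroup.eq_of_le_of_card_ge (fun e he => ?_) (by rw [hD.1, card_diag])
    obtain ⟨e', rfl⟩ := hrange e (hE he)
    refine hback _ ?_
    obtain ⟨y, hy⟩ := h1 _ ⟨e', he, rfl⟩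
    obtain ⟨a, ha, e2⟩ := h2 y
    have : S.cov.ψ e' = a := mul_left_cancel (mul_right_cancel (hy.symm.trans e2.symm))
    rwa [this]
  · intro U hU hUom hUc
    set U' := U.comap g
    have hxU : S.cov.x ∈ U' := by
      show g S.cov.x ∈ U
      rwa [show g S.cov.x = omE from hom]
    have hcard : Nat.card U' = Nat.card U := by
      rw [← card_map_of_injective (K := U') hginj, map_comap_eq_self]
      intro u hu
      obtain ⟨m, rfl⟩ := hrange u (hU hu)
      exact ⟨m, rfl⟩
    have hkerU : S.cov.ψ.ker ≤ U' := by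
      intro m hm
      obtain ⟨c, rfl⟩ := (S.cov.ker m).1 hm
      exact Subgroup.pow_mem _ hxU _
    set A := U'.map S.cov.ψ
    have hidx : A.index = U'.index := Subgroup.index_map_eq _ S.cov.surj hkerU
    have h8 : A.index ≤ 8 := by
      rw [hidx]
      have h := Subgroup.card_mul_index U'
      rw [hcard, hcardM] at h
      rw [card_map_of_injective hinj, hcardM] at hUc
      by_contra hlt
      have := Nat.mul_le_mul_left (Nat.card U) (Nat.succ_le_of_lt (not_le.1 hlt))
      omega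
    have htop : A = ⊤ := by
      by_contra hne
      have hinj' : Function.Injective (MulAction.toPermHom P (P ⧸ A)) := by
        rw [← MonoidHom.ker_eq_bot_iff, ← Subgroup.normalCore_eq_ker]
        refine (IsSimpleGroup.eq_bot_or_eq_top_of_normal _ A.normalCore_normal).resolve_right fun e => hne ?_
        exact top_unique (e ▸ Subgroup.normalCore_le A)
      have h := Nat.card_le_card_of_injective _ hinj'
      rw [hP, Nat.card_perm, ← Subgroup.index_eq_card] at h
      have h2 := h.trans (Nat.factorial_le h8)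
      norm_num [Nat.factorial] at h2
    refine le_antisymm hU ?_
    rintro _ ⟨m, hm, rfl⟩
    obtain ⟨d, hd, e⟩ : S.cov.ψ ⟨m, hm⟩ ∈ A := htop ▸ mem_top _
    obtain ⟨c, hc⟩ := (S.cov.ker (d⁻¹ * ⟨m, hm⟩)).1 (by rw [map_mul, map_inv, e, inv_mul_cancel])
    have h := mul_mem hd (hc.symm ▸ Subgroup.pow_mem U' hxU _ : d⁻¹ * ⟨m, hm⟩ ∈ U')
    rwa [mul_inv_cancel_left] at h


/-- The centraliser in normal coordinates. -/
theorem exists_dz {G : Type*} [Group G] [Finite G] {z : G} {Q : Subgroup (centralizer ({z} : Set G))} [Q.Normal]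
    (hz : orderOf z = 2) (hFit : Cfsg.generalizedFittingSubgroup ↥(centralizer ({z} : Set G)) = Q)
    (hQ : Cfsg.IsExtraspecial 2 Q) (hcardQ : Nat.card Q = 2 ^ 13) (N Kb : Subgroup (centralizer ({z} : Set G)))
    [hN : N.Normal] [hKb : Kb.Normal] (hQN : Q ≤ N) (hNM : N ≤ Kb) (hcardN : Nat.card N = 3 * Nat.card Q)
    {F : Type} [Field F] [Fintype F] (hK : Fintype.card F = 9) (iso : Kb ⧸ N.subgroupOf Kb ≃* Cfsg.PSU 4 F 3) :
    ∃ D : Dz z Q, D.K = Kb := by
  classical
  set QG := Q.map (centralizer ({z} : Set G)).subtype with hQG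
  have hQe : Cfsg.IsExtraspecial 2 QG :=
    LargeExtra.isExtraspecial_equiv (Q.equivMapOfInjective _ (centralizer ({z} : Set G)).subtype_injective) hQ
  have hpre : LargeExtra.Pre QG z := LargeExtra.pre_of_fstar hz (by rw [hFit]) hQe
  obtain ⟨V, _, _, ⟨D⟩⟩ := Geo.ExtraOut.exists_data hQ
  obtain ⟨hfin, hV⟩ := D.card_V (n := 6) (by rw [hcardQ])
  haveI := hfin
  let α : (centralizer ({z} : Set G)) →* oGroup D.form := D.toO.comp MulAut.conjNormal
  have hα : ∀ c (a : Q), (α c).1 (D.proj a) = D.proj (MulAut.conjNormal c a) := fun c a => D.toO_apply _ a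
  have hmemQ : ∀ q ∈ QG, ∃ a : Q, ((a : (centralizer ({z} : Set G))) : G) = q := by
    rintro _ ⟨a, ha, rfl⟩; exact ⟨⟨a, ha⟩, rfl⟩
  have hker : α.ker = Q := by
    ext c
    constructor
    · intro hc
      have h1 : MulAut.conjNormal c ∈ Cfsg.Inn Q := D.ker_toO ▸ (show MulAut.conjNormal c ∈ D.toO.ker from hc)
      obtain ⟨x, hx⟩ := MonoidHom.mem_range.1 h1
      have hxc : ((x : (centralizer ({z} : Set G))) : G)⁻¹ * (c : G) ∈ QG := by
        refine hpre.self (mem_centralizer_iff.2 ?_)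
        rintro _ ⟨q, hq, rfl⟩
        have e1 : (x : (centralizer ({z} : Set G))) * q * (x : (centralizer ({z} : Set G)))⁻¹ = c * q * c⁻¹ := by
          have := congrArg Subtype.val (DFunLike.congr_fun hx (⟨q, hq⟩ : Q))
          simpa [MulAut.conjNormal_apply] using this
        have e2 : ((x : (centralizer ({z} : Set G))) : G) * (q : G) * ((x : (centralizer ({z} : Set G))) : G)⁻¹ = (c : G) * q * (c : G)⁻¹ :=
          congrArg Subtype.val e1
        show (q : G) * (((x : (centralizer ({z} : Set G))) : G)⁻¹ * c) = ((x : (centralizer ({z} : Set G))) : G)⁻¹ * c * q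
        calc (q : G) * (((x : (centralizer ({z} : Set G))) : G)⁻¹ * c)
            = ((x : (centralizer ({z} : Set G))) : G)⁻¹ * (((x : (centralizer ({z} : Set G))) : G) * q * ((x : (centralizer ({z} : Set G))) : G)⁻¹) * c := by group
          _ = ((x : (centralizer ({z} : Set G))) : G)⁻¹ * c * q := by rw [e2]; group
      obtain ⟨y, hy, hyc⟩ := hxc
      have : c = (x : (centralizer ({z} : Set G))) * y := Subtype.ext (by
        show (c : G) = ((x : (centralizer ({z} : Set G))) : G) * (y : G)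
        rw [show (y : G) = _ from hyc, mul_inv_cancel_left])
      rw [this]; exact mul_mem x.2 hy
    · intro hc
      show MulAut.conjNormal c ∈ D.toO.ker
      rw [D.ker_toO]
      exact ⟨⟨c, hc⟩, MulEquiv.ext fun a => Subtype.ext rfl⟩
  let toLin : oGroup D.form →* (V ≃ₗ[ZMod 2] V) :=
    { toFun := fun g => g.1
      map_one' := rfl
      map_mul' := fun g h => rfl }
  let rV : (centralizer ({z} : Set G)) ⧸ Q →* (V ≃ₗ[ZMod 2] V) :=
    toLin.comp (QuotientGroup.lift Q α hker.ge)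
  have hrV : ∀ (c : centralizer ({z} : Set G)) (a : Q),
      rV (QuotientGroup.mk c) (D.proj a) = D.proj (MulAut.conjNormal c a) := fun c a => hα c a
  have hrVinj : Function.Injective rV := by
    refine Function.Injective.comp (g := toLin) (fun g h e => Subtype.ext e) ?_
    refine (injective_iff_map_eq_one _).2 fun x hx => ?_
    obtain ⟨g, rfl⟩ := QuotientGroup.mk_surjective x
    exact (QuotientGroup.eq_one_iff g).2 (hker ▸ hx)
  have hrVq : ∀ x v, D.form (rV x v) = D.form v := by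
    intro x v
    obtain ⟨c, rfl⟩ := QuotientGroup.mk_surjective x
    obtain ⟨a, rfl⟩ := D.proj_surj v
    rw [hrV, D.form_proj, D.form_proj, ← map_pow, D.bit_aut]
  let mk := QuotientGroup.mk' Q
  set M' := Kb.map mk with hM'def
  have hQM : Q ≤ Kb := hQN.trans hNM
  let f : ↥Kb →* ↥M' := mk.subgroupMap Kb
  have hfsurj : Function.Surjective f := MonoidHom.subgroupMap_surjective _ _
  let g0 : ↥Kb →* Cfsg.PSU 4 F 3 := iso.toMonoidHom.comp (QuotientGroup.mk' (N.subgroupOf Kb))
  have hg0 : ∀ m : Kb, g0 m = 1 ↔ (m : centralizer ({z} : Set G)) ∈ N := fun m => by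
    show iso (QuotientGroup.mk m) = 1 ↔ _
    rw [iso.map_eq_one_iff, QuotientGroup.eq_one_iff, Subgroup.mem_subgroupOf]
  have hfk : f.ker ≤ g0.ker := by
    intro m hm
    have h : (QuotientGroup.mk (m : centralizer ({z} : Set G)) : _ ⧸ Q) = 1 := congrArg Subtype.val (MonoidHom.mem_ker.1 hm)
    exact MonoidHom.mem_ker.2 ((hg0 m).2 (hQN ((QuotientGroup.eq_one_iff _).1 h)))
  let ρP : ↥M' →* Cfsg.PSU 4 F 3 := MonoidHom.liftOfSurjective f hfsurj ⟨g0, hfk⟩
  have hψ : ∀ m, ρP (f m) = g0 m := fun m =>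
    MonoidHom.liftOfRightInverse_comp_apply f _ _ ⟨g0, hfk⟩ m
  have hψs : Function.Surjective ρP := fun p => by
    obtain ⟨m, hm⟩ := QuotientGroup.mk_surjective (iso.symm p)
    exact ⟨f m, by rw [hψ]; show iso (QuotientGroup.mk m) = p; rw [hm, iso.apply_symm_apply]⟩
  set X := N.map mk with hX
  haveI hXn : X.Normal := Subgroup.Normal.map hN _ (QuotientGroup.mk'_surjective Q)
  have hmemX : ∀ c : centralizer ({z} : Set G), mk c ∈ X ↔ c ∈ N := by
    intro c
    rw [← Subgroup.mem_comap, hX, Subgroup.comap_map_eq, QuotientGroup.ker_mk', sup_eq_left.2 hQN]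
  have hXcard : Nat.card X = 3 := by
    have h := Subgroup.card_eq_card_quotient_mul_card_subgroup (Q.subgroupOf N)
    rw [Nat.card_congr (Subgroup.subgroupOfEquivOfLe hQN).toEquiv, hcardN] at h
    have h2 : Nat.card X = Nat.card (↥N ⧸ Q.subgroupOf N) := by
      rw [← Subgroup.index_eq_card, ← Subgroup.relIndex]
      have h3 := Subgroup.relIndex_ker (K := N) mk
      rw [QuotientGroup.ker_mk'] at h3
      exact h3.symm
    rw [h2]
    exact Nat.eq_of_mul_eq_mul_right Nat.card_pos h.symm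
  have hXM : X ≤ M' := Subgroup.map_mono hNM
  obtain ⟨xX, hxX⟩ : ∃ x : X, x ≠ 1 := by
    haveI : Nontrivial X := (Finite.one_lt_card_iff_nontrivial).1 (by rw [hXcard]; norm_num)
    exact exists_ne 1
  set x0 : (centralizer ({z} : Set G)) ⧸ Q := xX.1
  have hx03 : x0 ^ 3 = 1 := by
    have h := pow_card_eq_one' (x := xX)
    rw [hXcard] at h
    exact congrArg Subtype.val h
  let x : ↥M' := ⟨x0, hXM xX.2⟩
  have hx3 : x ^ 3 = 1 := Subtype.ext hx03
  have hx1 : x ≠ 1 := fun e => hxX (Subtype.ext (show x0 = 1 from congrArg Subtype.val e))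
  have hXmem : ∀ y ∈ X, ∃ c : ZMod 3, y = zp x0 c := by
    intro y hy
    haveI : Fact (Nat.Prime 3) := ⟨Nat.prime_three⟩
    have hgen : Subgroup.zpowers xX = ⊤ := zpowers_eq_top_of_prime_card hXcard hxX
    obtain ⟨k, hk⟩ : (⟨y, hy⟩ : X) ∈ Subgroup.zpowers xX := hgen ▸ Subgroup.mem_top _
    refine ⟨(k : ZMod 3), ?_⟩
    have hk' : x0 ^ k = y := congrArg Subtype.val hk
    rw [← hk', zp, ← zpow_natCast, ZMod.val_intCast]
    exact zpow_eq_zpow_emod' k hx03
  have hker' : ∀ m : M', ρP m = 1 ↔ ∃ c : ZMod 3, m = zp x c := by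
    intro m
    constructor
    · intro h
      obtain ⟨m, rfl⟩ := hfsurj m
      obtain ⟨c, hc⟩ := hXmem _ ((hmemX m).2 ((hg0 m).1 (by rwa [← hψ])))
      exact ⟨c, Subtype.ext hc⟩
    · rintro ⟨c, rfl⟩
      rw [zp, map_pow]
      obtain ⟨m, hm⟩ := hfsurj x
      have hmN : (m : centralizer ({z} : Set G)) ∈ N := (hmemX m).1 (by
        have e : mk m = x0 := congrArg Subtype.val hm
        rw [e]; exact xX.2)
      rw [← hm, hψ, (hg0 m).2 hmN, one_pow]
  have hsemi : ∀ c : (centralizer ({z} : Set G)) ⧸ Q, c * x0 * c⁻¹ = x0 ∨ c * x0 * c⁻¹ = x0⁻¹ := by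
    intro c
    obtain ⟨k, hk⟩ := hXmem _ (hXn.conj_mem _ xX.2 c)
    rcases (by decide : ∀ k : ZMod 3, k = 0 ∨ k = 1 ∨ k = 2) k with rfl | rfl | rfl
    · rw [zp_zero, conj_eq_one_iff] at hk
      exact absurd (Subtype.ext hk) hxX
    · exact Or.inl (by rw [hk, zp_one])
    · refine Or.inr (hk.trans ?_)
      exact eq_inv_of_mul_eq_one_left (by
        show x0 ^ 2 * x0 = 1
        rw [← pow_succ, hx03])
  have hF3 : Nat.card F = 3 ^ 2 := by rw [Nat.card_eq_fintype_card, hK]; rfl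
  haveI hsimp : IsSimpleGroup (Cfsg.PSU 4 F 3) := Unitary.isSimpleGroup_PSU hF3 (by norm_num) (by omega)
  have hcP := card_psu43 hK
  have hcent : ∀ m : M', m * x = x * m := by
    let Kc : Subgroup M' := Subgroup.centralizer ({x} : Set M')
    let sx : Set M' := {y | y = x ∨ y = x⁻¹}
    have hsx : ∀ m : M', m * x * m⁻¹ = x ∨ m * x * m⁻¹ = x⁻¹ := fun m =>
      (hsemi m.1).imp (fun e => Subtype.ext e) fun e => Subtype.ext e
    have hKn : Kc.Normal := by
      refine ⟨fun a ha m => ?_⟩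
      rw [Subgroup.mem_centralizer_singleton_iff] at ha ⊢
      have ha' : Commute a x := ha
      have hm : Commute a (m⁻¹ * x * m) := by
        rcases hsx m⁻¹ with e | e <;> rw [inv_inv] at e <;> rw [e]
        exacts [ha', ha'.inv_right]
      calc m * a * m⁻¹ * x = m * (a * (m⁻¹ * x * m)) * m⁻¹ := by group
        _ = m * ((m⁻¹ * x * m) * a) * m⁻¹ := by rw [hm.eq]
        _ = x * (m * a * m⁻¹) := by group
    have hmap : (Kc.map ρP).Normal := Subgroup.Normal.map hKn ρP hψs
    have hsq : ∀ m : M', m * m ∈ Kc := by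
      intro m
      rw [Subgroup.mem_centralizer_singleton_iff]
      have : m * m * x * (m * m)⁻¹ = x := by
        calc m * m * x * (m * m)⁻¹ = m * (m * x * m⁻¹) * m⁻¹ := by group
          _ = x := by
            rcases hsx m with e | e <;> rw [e]
            · exact e
            · calc m * x⁻¹ * m⁻¹ = (m * x * m⁻¹)⁻¹ := by group
                _ = x := by rw [e, inv_inv]
      exact mul_inv_eq_iff_eq_mul.1 this
    rcases hsimp.eq_bot_or_eq_top_of_normal _ hmap with h | h
    · exfalso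
      haveI : Fact (Nat.Prime 5) := ⟨by norm_num⟩
      obtain ⟨p, hp⟩ := exists_prime_orderOf_dvd_card' 5 (G := Cfsg.PSU 4 F 3) (by rw [hcP]; norm_num)
      obtain ⟨m, hm⟩ := hψs p
      have h1 : ρP (m * m) = 1 := (Subgroup.eq_bot_iff_forall _).1 h _ (Subgroup.mem_map_of_mem _ (hsq m))
      rw [map_mul, hm, ← pow_two] at h1
      have := orderOf_dvd_of_pow_eq_one h1
      rw [hp] at this
      norm_num at this
    · intro m
      obtain ⟨k, hk, hkm⟩ : ρP m ∈ Kc.map ρP := h ▸ Subgroup.mem_top _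
      obtain ⟨c, hc⟩ := (hker' (k⁻¹ * m)).1 (by rw [map_mul, map_inv, hkm, inv_mul_cancel])
      have hk' : Commute k x := Subgroup.mem_centralizer_singleton_iff.1 hk
      rw [inv_mul_eq_iff_eq_mul.1 hc]
      exact (hk'.mul_left ((Commute.refl x).pow_left _)).eq
  obtain ⟨L, hL1, hL2, hL3⟩ := cov_model hK
  let S : Sys0 ((centralizer ({z} : Set G)) ⧸ Q) V (Cfsg.PSU 4 F 3) :=
    { r := rV
      inj := hrVinj
      q := D.form
      nondeg := fun u hu => D.nondeg.1 u fun v => by rw [polarBilin_apply_apply]; exact hu v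
      inv := hrVq
      cardV := by rw [hV]; norm_num
      M := M'
      cov :=
        { ψ := ρP, surj := hψs, x := x, pow3 := hx3, ne1 := hx1, ker := hker', central := hcent, L := L,
          L_add := hL1, L_inj := hL2, norm := hL3 } }
  obtain ⟨Φ, r', hr, hq, hr'inj, hx', hdiag, hperm⟩ := S.exists_mono
  have R := exists_raw S (Subgroup.Normal.map hKb _ (QuotientGroup.mk'_surjective Q)) hsemi hcP hr hq hr'inj hx'
    hdiag hperm
  obtain ⟨l, hlM, hlH, hK0, hsig⟩ := R.exists_normal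
  set dl := dmulE l with hdl
  let ψ : centralizer ({z} : Set G) →* GL6 := (MulAut.conj dl⁻¹).toMonoidHom.comp (r'.comp mk)
  have hψa : ∀ c a, ψ c a = dl⁻¹ (r' (mk c) (dl a)) := fun c a => by
    show (dl⁻¹ * r' (mk c) * dl⁻¹⁻¹) a = _
    rw [inv_inv]; rfl
  have hπq : ∀ v, qn (dl⁻¹ (Φ.symm v)) = D.form v := fun v => by
    rw [hdl, dmulE_inv, dmulE_apply, qn_dmul, ← hq, Φ.apply_symm_apply]
  refine ⟨{
    pre := hpre
    cardQ := by rw [hcardQ]
    π := fun a => dl⁻¹ (Φ.symm (D.proj a))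
    π_mul := fun a b => by rw [D.proj_mul, map_add, map_add]
    π_surj := dl⁻¹.surjective.comp (Φ.symm.surjective.comp D.proj_surj)
    π_eq_zero := fun a => ?_
    sq_iff := fun a => ?_
    comm_iff := fun a b => ?_
    ψ := ψ
    ker := ?_
    act := fun c a => ?_
    inv := fun c a => ?_
    K := Kb
    le := hQM
    mapK := ?_
    range_le := ?_
    cardK0 := hK0
    sig_not := hsig }, rfl⟩
  · show dl⁻¹ (Φ.symm (D.proj a)) = 0 ↔ _
    rw [LinearEquiv.map_eq_zero_iff, LinearEquiv.map_eq_zero_iff, D.proj_eq_zero]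
    constructor
    · intro h
      refine hpre.gen.center_iff _ (mem_map_of_mem _ a.2) fun y hy => ?_
      obtain ⟨b, rfl⟩ := hmemQ y hy
      exact (congrArg (fun t : Q => ((t : (centralizer ({z} : Set G))) : G)) (mem_center_iff.1 h b)).symm
    · intro h
      refine mem_center_iff.2 fun b => Subtype.ext (Subtype.ext ?_)
      show ((b : (centralizer ({z} : Set G))) : G) * ((a : (centralizer ({z} : Set G))) : G) = ((a : (centralizer ({z} : Set G))) : G) * ((b : (centralizer ({z} : Set G))) : G)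
      rcases h with h | h <;> rw [h]
      · rw [mul_one, one_mul]
      · exact mem_centralizer_singleton_iff.1 (b : (centralizer ({z} : Set G))).2
  · rw [hπq, D.form_proj, ← pow_two]
    constructor
    · intro h
      rw [h, Geo.ExtraOut.bit_one]
    · intro h
      exact D.bit_inj (D.sq_mem a) (one_mem _) (h.trans Geo.ExtraOut.bit_one.symm)
  · rw [hπq, hπq, ← map_add dl⁻¹, ← map_add Φ.symm, hπq]
    have hp : D.form (D.proj a + D.proj b) = D.form (D.proj a) + D.form (D.proj b) + Geo.ExtraOut.bit ⁅a, b⁆ := by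
      rw [← D.polar_form, polar]; ring
    rw [hp, add_eq_left]
    constructor
    · intro h
      rw [commutatorElement_eq_one_iff_mul_comm.2 h, Geo.ExtraOut.bit_one]
    · intro h
      exact commutatorElement_eq_one_iff_mul_comm.1
        (D.bit_inj (D.comm_mem a b) (one_mem _) (h.trans Geo.ExtraOut.bit_one.symm))

  · ext c
    rw [MonoidHom.mem_ker]
    constructor
    · intro h
      have h1 : r' (mk c) = r' 1 := by
        rw [map_one]
        exact (MulAut.conj dl⁻¹).injective (h.trans (map_one _).symm)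
      exact (QuotientGroup.eq_one_iff c).1 (hr'inj h1)
    · intro h
      show (MulAut.conj dl⁻¹) (r' (mk c)) = 1
      rw [show mk c = 1 from (QuotientGroup.eq_one_iff c).2 h, map_one, map_one]
  · show dl⁻¹ (Φ.symm (D.proj (MulAut.conjNormal c a))) = ψ c (dl⁻¹ (Φ.symm (D.proj a)))
    rw [hψa, gl_apply_inv]
    congr 1
    refine Φ.injective ?_
    rw [hr, Φ.apply_symm_apply, Φ.apply_symm_apply]
    exact (hrV c a).symm
  · rw [hψa, hdl, dmulE_inv, dmulE_apply, qn_dmul, ← hq, hr, S.inv, hq, dmulE_apply, qn_dmul]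
  · rw [← hlM]
    show Kb.map ψ = ((Kb.map mk).map r').map (MulAut.conj dl⁻¹).toMonoidHom
    rw [Subgroup.map_map, Subgroup.map_map]; rfl
  · refine le_trans ?_ hlH
    rintro _ ⟨c, rfl⟩
    exact ⟨r' (mk c), ⟨mk c, rfl⟩, rfl⟩

end CfsgLib.FiLarge.Chz
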