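import Mathlib
import Cfsg.Agent.Invol.ThompsonTransfer

/-!
The Thompson transfer lemma with an extremal conjugate.
-/

set_option autoImplicit false
set_option linter.unusedSectionVars false
set_option linter.deprecated false
set_option linter.style.haveILetI false

namespace CfsgLib.FiLarge.Chz

open Subgroup MulAction CfsgLib.ThompsonTransfer

variable {G : Type*} [Group G]

/-- Membership in a subgroup of index two does not depend on the representative. -/
theorem mem_of_rel {P Q : Subgroup G} (hQ : Q ≤ P) (hQi : Q.relIndex P = 2) {x p : G} (hx : x ∈ Q) (hp : p ∈ P) :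
    p⁻¹ * x * p ∈ Q := by
  haveI := Subgroup.normal_of_index_eq_two (H := Q.subgroupOf P) hQi
  have h := Subgroup.Normal.conj_mem (H := Q.subgroupOf P) inferInstance ⟨x, hQ hx⟩ (mem_subgroupOf.2 hx)
    ⟨p⁻¹, inv_mem hp⟩
  have h' : p⁻¹ * x * p⁻¹⁻¹ ∈ Q := mem_subgroupOf.1 h
  rwa [inv_inv] at h'

/-- An involution lies outside a normal subgroup of index two, or has an extremal conjugate in a given
subgroup of index two of a subgroup of odd index. -/
theorem extremal_transfer [Finite G] (P Q : Subgroup G) (hP : Odd P.index) (hQP : Q ≤ P) (hQi : Q.relIndex P = 2)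
    {u : G} (hu : u * u = 1) :
    (∃ M : Subgroup G, M.Normal ∧ M.index = 2 ∧ u ∉ M) ∨
      ∃ g : G, g⁻¹ * u * g ∈ Q ∧
        Odd ((P.map (MulAut.conj g).toMonoidHom ⊓ centralizer ({u} : Set G)).relIndex (centralizer ({u} : Set G))) := by
  classical
  refine or_iff_not_imp_left.2 fun hM => ?_
  set φ := parity (Q.subgroupOf P) hQi with hφ
  haveI : P.FiniteIndex := inferInstance
  set a : Multiplicative (ZMod 2) := Multiplicative.ofAdd 1 with ha
  have ha1 : a ≠ 1 := by decide
  have ha2 : a * a = 1 := by decide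
  haveI : Fintype (Quotient (orbitRel (zpowers u) (G ⧸ P))) := Fintype.ofFinite _
  let per : Quotient (orbitRel (zpowers u) (G ⧸ P)) → ℕ := fun q => Function.minimalPeriod (u • ·) q.out
  let good : Quotient (orbitRel (zpowers u) (G ⧸ P)) → Prop := fun q => q.out.out⁻¹ * u * q.out.out ∈ Q
  have hper : ∀ q, per q = 1 ∨ per q = 2 := fun q => by
    refine (Nat.dvd_prime Nat.prime_two).1 (Function.IsPeriodicPt.minimalPeriod_dvd ?_)
    show (u • ·)^[2] q.out = q.out
    rw [Function.iterate_succ_apply', Function.iterate_one, smul_smul, hu, one_smul]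
  have hone : MonoidHom.transfer φ u = 1 := by
    by_contra hne
    refine hM ⟨(MonoidHom.transfer φ).ker, inferInstance, ?_, fun h => hne (MonoidHom.mem_ker.1 h)⟩
    rw [index_ker]
    have h2 : Nat.card (MonoidHom.transfer φ).range ∣ 2 := by
      have h := (MonoidHom.transfer φ).range.card_subgroup_dvd_card
      rwa [show Nat.card (Multiplicative (ZMod 2)) = 2 by simp] at h
    refine ((Nat.dvd_prime Nat.prime_two).1 h2).resolve_left fun h => hne ?_
    have h3 : MonoidHom.transfer φ u ∈ (MonoidHom.transfer φ).range := ⟨u, rfl⟩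
    rw [card_eq_one.1 h, mem_bot] at h3
    exact h3
  have hprod : MonoidHom.transfer φ u =
      ∏ q : Quotient (orbitRel (zpowers u) (G ⧸ P)), a ^ (if per q = 1 ∧ ¬ good q then 1 else 0) := by
    rw [MonoidHom.transfer_eq_prod_quotient_orbitRel_zpowers_quot φ u]
    refine Finset.prod_congr rfl fun q _ => ?_
    rcases hper q with e | e
    · have e' : Function.minimalPeriod (u • ·) q.out = 1 := e
      by_cases hg : good q
      · refine (parity_apply_mem hQi ?_).trans (by rw [if_neg (fun h => h.2 hg), pow_zero])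
        rw [mem_subgroupOf]
        simp only [e', pow_one]
        exact hg
      · refine (parity_apply_not_mem hQi fun hmem => hg ?_).trans (by rw [if_pos ⟨e, hg⟩, pow_one])
        rw [mem_subgroupOf] at hmem
        simp only [e', pow_one] at hmem
        exact hmem
    · have e' : Function.minimalPeriod (u • ·) q.out = 2 := e
      refine (parity_apply_mem hQi ?_).trans (by rw [if_neg (fun h => absurd (e.symm.trans h.1) (by norm_num)), pow_zero])
      rw [mem_subgroupOf]
      simp [e', sq, hu]
  rw [Finset.prod_pow_eq_pow_sum, ← Finset.card_filter, hone] at hprod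
  set bad := Finset.univ.filter fun q => per q = 1 ∧ ¬ good q
  set gd := Finset.univ.filter fun q => per q = 1 ∧ good q
  have hbad : Even bad.card := by
    rcases Nat.even_or_odd bad.card with h | ⟨k, hk⟩
    · exact h
    · rw [hk, pow_succ, pow_mul, sq, ha2, one_pow, one_mul] at hprod
      exact absurd hprod.symm ha1
  have hgd : Odd gd.card := by
    have hsum := index_eq_sum_minimalPeriod P u
    rw [← Finset.sum_filter_add_sum_filter_not Finset.univ (fun q => per q = 1)] at hsum
    have h1 : (∑ q ∈ Finset.univ.filter (fun q => per q = 1), per q) = bad.card + gd.card := by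
      rw [Finset.sum_congr rfl fun q hq => (Finset.mem_filter.1 hq).2, Finset.sum_const, smul_eq_mul, mul_one,
        ← Finset.card_union_of_disjoint]
      · congr 1
        ext q
        simp only [bad, gd, Finset.mem_union, Finset.mem_filter, Finset.mem_univ, true_and]
        tauto
      · exact Finset.disjoint_left.2 fun q h h' => (Finset.mem_filter.1 h).2.2 (Finset.mem_filter.1 h').2.2
    have h2 : Even (∑ q ∈ Finset.univ.filter (fun q => ¬ per q = 1), per q) := by
      refine Finset.even_sum _ fun q hq => ?_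
      rw [(hper q).resolve_left (Finset.mem_filter.1 hq).2]
      exact even_two
    have h3 : P.index = bad.card + gd.card + ∑ q ∈ Finset.univ.filter (fun q => ¬ per q = 1), per q := by
      rw [← h1]; exact hsum
    rw [h3, Nat.odd_add] at hP
    have h4 := hP.2 h2
    rw [Nat.odd_add'] at h4
    exact h4.2 hbad
  -- the fixed cosets with value in the subgroup
  let F := {x : G ⧸ P // u • x = x ∧ x.out⁻¹ * u * x.out ∈ Q}
  have hF : Nat.card F = gd.card := by
    have hsingle : ∀ x : G ⧸ P, u • x = x →
        ∀ y, Quotient.mk (orbitRel (zpowers u) (G ⧸ P)) y = Quotient.mk _ x → y = x := by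
      intro x hx y hy
      obtain ⟨⟨w, hw⟩, rfl⟩ := Quotient.exact hy
      have hst : zpowers u ≤ stabilizer G x := by rw [zpowers_le]; exact hx
      exact hst hw
    rw [← Nat.card_eq_finsetCard]
    refine Nat.card_eq_of_bijective (fun x : F => (⟨Quotient.mk _ x.1, Finset.mem_filter.2 ⟨Finset.mem_univ _, ?_⟩⟩ : gd))
      ⟨fun x y e => ?_, fun q => ?_⟩
    · have ho := hsingle x.1 x.2.1 _ (Quotient.out_eq (Quotient.mk (orbitRel (zpowers u) (G ⧸ P)) x.1))
      refine ⟨?_, ?_⟩
      · show Function.minimalPeriod (u • ·) _ = 1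
        rw [ho]
        exact Function.minimalPeriod_eq_one_iff_isFixedPt.2 x.2.1
      · show _ ∈ Q
        rw [ho]
        exact x.2.2
    · exact Subtype.ext (hsingle y.1 y.2.1 x.1 (congrArg Subtype.val e))
    · obtain ⟨h1, h2⟩ := (Finset.mem_filter.1 q.2).2
      exact ⟨⟨q.1.out, Function.minimalPeriod_eq_one_iff_isFixedPt.1 h1, h2⟩, Subtype.ext (Quotient.out_eq q.1)⟩
  rw [← hF] at hgd
  -- an orbit of odd length
  set C := centralizer ({u} : Set G)
  letI : MulAction C F :=
    { smul := fun c x => ⟨(c : G) • x.1, by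
        have hc : Commute (c : G) u := mem_centralizer_singleton_iff.1 c.2
        refine ⟨by rw [smul_smul, ← hc.eq, ← smul_smul, x.2.1], ?_⟩
        obtain ⟨p, hp⟩ : ∃ p : P, ((c : G) • x.1).out = (c : G) * x.1.out * p := by
          have h : ((c : G) • x.1) = QuotientGroup.mk ((c : G) * x.1.out) := by
            conv_lhs => rw [← QuotientGroup.out_eq' x.1]
            rfl
          rw [h]
          exact QuotientGroup.mk_out_eq_mul P ((c : G) * x.1.out)
        rw [hp, show ((c : G) * x.1.out * p)⁻¹ * u * ((c : G) * x.1.out * p) =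
          (p : G)⁻¹ * (x.1.out⁻¹ * ((c : G)⁻¹ * (u * c)) * x.1.out) * p by group, ← hc.eq, inv_mul_cancel_left]
        exact mem_of_rel hQP hQi x.2.2 p.2⟩
      one_smul := fun x => Subtype.ext (one_smul G x.1)
      mul_smul := fun c d x => Subtype.ext (mul_smul (c : G) (d : G) x.1) }
  haveI : Fintype (Quotient (orbitRel C F)) := Fintype.ofFinite _
  have hdec : Nat.card F = ∑ w : Quotient (orbitRel C F), Nat.card (orbit C w.out) := by
    rw [Nat.card_congr (selfEquivSigmaOrbits C F), Nat.card_sigma]
  obtain ⟨w, hw⟩ : ∃ w : Quotient (orbitRel C F), Odd (Nat.card (orbit C w.out)) := by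
    by_contra hno
    push Not at hno
    rw [hdec] at hgd
    exact Nat.not_even_iff_odd.2 hgd (Finset.even_sum _ fun w _ => Nat.not_odd_iff_even.1 (hno w))
  set x := w.out
  refine ⟨x.1.out, x.2.2, ?_⟩
  have hstab : stabilizer C x = (P.map (MulAut.conj x.1.out).toMonoidHom ⊓ C).subgroupOf C := by
    ext c
    rw [mem_stabilizer_iff, mem_subgroupOf, mem_inf]
    have h1 : c • x = x ↔ (c : G) • x.1 = x.1 := ⟨fun h => congrArg Subtype.val h, fun h => Subtype.ext h⟩
    rw [h1]
    have h2 : (c : G) • x.1 = x.1 ↔ x.1.out⁻¹ * (c : G) * x.1.out ∈ P := by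
      conv_lhs => rw [← QuotientGroup.out_eq' x.1]
      show ((QuotientGroup.mk ((c : G) * x.1.out) : G ⧸ P) = QuotientGroup.mk x.1.out) ↔ _
      rw [QuotientGroup.eq, ← inv_mem_iff]
      simp [mul_assoc]
    rw [h2]
    constructor
    · intro h
      exact ⟨⟨_, h, by simp [mul_assoc]⟩, c.2⟩
    · rintro ⟨⟨p, hp, e⟩, -⟩
      have e' : x.1.out * p * x.1.out⁻¹ = (c : G) := e
      rw [← e']
      simpa [mul_assoc] using hp
  have h3 := MulAction.index_stabilizer C x
  rw [hstab] at h3
  rw [Subgroup.relIndex, h3, ← Nat.card_coe_set_eq]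
  exact hw

end CfsgLib.FiLarge.Chz
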