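import Cfsg.Agent.FiLarge.Chz.Pair
import Cfsg.Agent.FiLarge.Chz.Transfer

/-!
When the centraliser induces the whole extension and the central involution is fused in the radical, a normal
subgroup of index two contains the part inducing the cover and misses an involution of the centraliser.
-/

set_option autoImplicit false
set_option maxRecDepth 100000
set_option linter.style.haveILetI false
set_option linter.unusedSectionVars false
set_option quotPrecheck false

namespace CfsgLib.FiLarge.Chz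

open CfsgLib CfsgLib.FiLarge Subgroup
open Dz (val val_mem val_inj zcomm)

/-- The vectors displaced by the transposition. -/
theorem move_sig {v : V6} (hv : v ∈ moveS sigE) :
    qn v = 0 ∧ ∃ x : F4, v = x • ![0, 0, 0, 0, 1, 1] := by
  obtain ⟨a, rfl⟩ := hv
  have e : disp sigE a = (a 4 + a 5) • ![0, 0, 0, 0, 1, 1] := by
    funext i
    fin_cases i <;> simp [disp_apply, sigE, permE_apply, f4_add_self, Equiv.swap_apply_def, add_comm]
  refine ⟨?_, _, e⟩
  rw [e]
  generalize a 4 + a 5 = x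
  revert x
  decide +kernel

theorem card_move_sig : Nat.card (moveS sigE) ≤ 4 := by
  have h : Function.Injective (fun v : moveS sigE => (v : V6) 4) := fun v w e => by
    obtain ⟨-, x, hx⟩ := move_sig v.2
    obtain ⟨-, y, hy⟩ := move_sig w.2
    have e' : x = y := by simpa [hx, hy] using e
    exact Subtype.ext (by rw [hx, hy, e'])
  exact (Nat.card_le_card_of_injective _ h).trans_eq (by rw [Nat.card_eq_fintype_card]; rfl)

theorem small_move_sig {v : V6} (hv : v ∈ moveS sigE) (h0 : v ≠ 0) : Small v := by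
  obtain ⟨-, x, rfl⟩ := move_sig hv
  have hx : x ≠ 0 := fun e => h0 (by rw [e, zero_smul])
  obtain ⟨c, rfl⟩ := exists_omp x hx
  refine ⟨dmulE (fun _ => c) * permE (mkPerm ![4, 5, 2, 3, 0, 1] ![4, 5, 2, 3, 0, 1] (by decide) (by decide)),
    mul_mem (dmul_mem ?_) (perm_mem (by decide)), ?_⟩
  · exact (by decide : ∀ x : ZMod 3, ∑ _i : Fin 6, x = 0) c
  · funext i
    rw [gl_mul, dmulE_apply, dmul, permE_apply]
    show omp c * v2 (![4, 5, 2, 3, 0, 1] i) = (omp c • (![0, 0, 0, 0, 1, 1] : V6)) i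
    fin_cases i <;> simp [v2, nf]

theorem sig_fix_odd : ∃ v : V6, sigE v = v ∧ qn v = 1 :=
  ⟨![1, 0, 0, 0, 0, 0], by funext i; revert i; decide +kernel, by decide +kernel⟩

theorem normal_le_sylow {p : ℕ} [Fact p.Prime] {H : Type*} [Group H] {N : Subgroup H} [N.Normal]
    (hN : IsPGroup p N) (S : Sylow p H) : N ≤ S :=
  le_sup_left.trans_eq (S.3 (hN.to_sup_of_normal_left S.2) le_sup_right)

/-- A subgroup containing the squares of the generators of the cover contains the cover. -/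
theorem k0_le_of_squares {U : Subgroup GL6} (h : ∀ x ∈ K0, x * x ∈ U) : K0 ≤ U := by
  have hd : ∀ l : Fin 6 → ZMod 3, ∑ i, l i = 0 → dmulE l ∈ U := fun l hl => by
    have := h _ (dmul_mem (l := -l) (by simp [hl]))
    rwa [dmulE_mul, show -l + -l = l from funext fun i => (by decide : ∀ x : ZMod 3, -x + -x = x) (l i)] at this
  let W : Subgroup (Equiv.Perm (Fin 6)) :=
    { carrier := {τ | permE τ ∈ U}
      one_mem' := by show permE 1 ∈ U; rw [permE_one]; exact one_mem _
      mul_mem' := fun {σ τ} (hσ : permE σ ∈ U) (hτ : permE τ ∈ U) => by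
        show permE (σ * τ) ∈ U
        rw [← permE_mul]; exact mul_mem hτ hσ
      inv_mem' := fun {σ} (hσ : permE σ ∈ U) => by
        show permE σ⁻¹ ∈ U
        rw [← permE_inv]; exact inv_mem hσ }
  have hp : ∀ τ : Equiv.Perm (Fin 6), Equiv.Perm.sign τ = 1 → permE τ ∈ U := by
    have hle : alternatingGroup (Fin 6) ≤ W := by
      rw [← Equiv.Perm.closure_three_cycles_eq_alternating, Subgroup.closure_le]
      intro σ hσ
      have h3 : σ ^ 3 = 1 := hσ.orderOf ▸ pow_orderOf_eq_one σ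
      have hs : Equiv.Perm.sign (σ * σ) = 1 := by rw [map_mul, Int.units_mul_self]
      have h2 := h _ (perm_mem hs)
      show permE σ ∈ U
      rwa [permE_mul, show σ * σ * (σ * σ) = σ ^ 3 * σ by simp [pow_succ, mul_assoc], h3, one_mul] at h2
    exact fun τ hτ => hle (Equiv.Perm.mem_alternatingGroup.2 hτ)
  have hf : fE ∈ U := by
    have hπ : Equiv.Perm.sign (mkPerm ![0, 2, 3, 4, 5, 1] ![0, 5, 1, 2, 3, 4] (by decide) (by decide)) = 1 := by decide
    set a := permE (mkPerm ![0, 2, 3, 4, 5, 1] ![0, 5, 1, 2, 3, 4] (by decide) (by decide))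
    set b := dmulE ![0, 1, 0, 1, 2, 2]
    have ha : GRep a (encMap fun v i => v (![0, 2, 3, 4, 5, 1] i)) := grep_encMap _ fun _ => rfl
    have hb : GRep b (encMap (dmul ![0, 1, 0, 1, 2, 2])) := grep_encMap _ fun _ => rfl
    have hgr : GRep (a * (b * (fE * 1))) (wordC (Eleven.gn 2) [1, 2, 3]) := ha.mul (hb.mul (fE_rep.mul grep_one))
    rw [mul_one] at hgr
    have hgK : a * (b * fE) ∈ K0 := mul_mem (perm_mem hπ) (mul_mem (dmul_mem (by decide)) fE_mem)
    have h21 : (a * (b * fE)) ^ 21 = 1 := (hgr.pow 21).elt (by rw [seven_word.1]; exact grep_one)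
    have h2 := h _ (pow_mem hgK 11)
    rw [← pow_add, show 11 + 11 = 21 + 1 by norm_num, pow_succ, h21, one_mul] at h2
    have h3 := mul_mem (mul_mem (inv_mem (hd ![0, 1, 0, 1, 2, 2] (by decide))) (inv_mem (hp _ hπ))) h2
    rwa [show b⁻¹ * a⁻¹ * (a * (b * fE)) = fE by group] at h3
  refine (Subgroup.closure_le _).2 (Set.insert_subset hf ?_)
  rintro g (⟨τ, hτ, rfl⟩ | ⟨l, hl, rfl⟩)
  exacts [hp τ hτ, hd l hl]

theorem omE_facts : omE ^ 3 = 1 ∧ omE ≠ 1 ∧ orderOf omE = 3 := by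
  haveI : Fact (Nat.Prime 3) := ⟨Nat.prime_three⟩
  have h3 : omE ^ 3 = 1 := diag_cube omE_mem_diag
  have h1 : omE ≠ 1 := fun e => omE_ne_inv (by rw [e, inv_one])
  exact ⟨h3, h1, orderOf_eq_prime h3 h1⟩

theorem big_two {g : GL6} (hg : g ∈ Big) :
    g ∈ adj u0E u0E_sq u0_norm ∨ g * sigE ∈ adj u0E u0E_sq u0_norm := by
  rcases big_cases hg with h | h | h | h
  · exact Or.inl (Or.inl h)
  · exact Or.inr (Or.inl h)
  · exact Or.inl (Or.inr h)
  · exact Or.inr (Or.inr (by rwa [mul_assoc]))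

variable {G : Type*} [Group G] [Finite G] {z : G} {Q : Subgroup (centralizer ({z} : Set G))} [Q.Normal]
  {D : Dz z Q}

local notation "HH" => centralizer ({z} : Set G)
local notation "QG" => Q.map (centralizer ({z} : Set G)).subtype

/-- The radical of the centraliser of an element over the transposition lies over displaced vectors. -/
def RadMove (D : Dz z Q) (c : HH) : Prop :=
  ∀ v : V6, sigE v = v → qn v = 0 → v ∈ orthS (D.cent (c : G)) → v ∈ moveS sigE

/-- No conjugate of the central involution outside the radical lies over the transposition. -/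
theorem no_conj_sig (O : Out D) (hsig : D.ψ O.u = sigE) (hrad : RadMove D O.u) : False := by
  have hIV : O.IV ≤ moveS sigE := fun v hv => by
    refine hrad v ?_ (O.IV_sing hv) (O.IV_orth hv)
    have := mem_fixS.1 (D.cent_le_fix O.u (O.IV_le_cent hv))
    rwa [hsig] at this
  have h4 : Nat.card O.IV ≤ 4 := (AddSubgroup.card_le_of_le hIV).trans card_move_sig
  have hA := O.symm.card_A
  rw [O.card_I_symm, ← O.card_IV, O.symm_symm_u] at hA
  have hfix := D.card_fix_le O.u
  rw [hsig] at hfix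
  have hprod := card_fix_mul_move sigE
  have hm := card_move_sig
  have hsq := card_sq D.cardK0 O.symm.t_mem O.symm.t_sq O.symm.t_ne O.symm.A_le O.symm.A_two O.symm.A_comm O.symm.A_sq
  nlinarith

/-- An element of order three over the scalar, and a commuting one over the transposition. -/
theorem exists_u0 (hsigR : sigE ∈ D.ψ.range) :
    ∃ c u : HH, D.ψ c = omE ∧ c * c * c = 1 ∧ D.ψ u = sigE ∧ u * c = c * u ∧ (u * u = 1 ∨ ((u : G) * u) = z) := by
  classical
  haveI : Fact (Nat.Prime 3) := ⟨Nat.prime_three⟩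
  obtain ⟨h3, h1, ho⟩ := omE_facts
  obtain ⟨c0, -, hc0⟩ : omE ∈ D.K.map D.ψ := by rw [D.mapK]; exact dmul_mem (by decide)
  set c := c0 ^ 4
  have hc : D.ψ c = omE := by
    rw [map_pow, hc0, pow_succ, h3, one_mul]
  have hc3 : c ^ 3 = 1 := by
    have h : ((c0 ^ 3 : HH) : G) ∈ QG := (D.ψ_one_iff _).1 (by rw [map_pow, hc0, h3])
    rw [show c ^ 3 = (c0 ^ 3) ^ 4 by rw [← pow_mul, ← pow_mul], pow_succ (c0 ^ 3), pow_succ (c0 ^ 3), pow_two]
    refine Subtype.ext ?_
    show ((c0 ^ 3 : HH) : G) * (c0 ^ 3 : HH) * (c0 ^ 3 : HH) * (c0 ^ 3 : HH) = 1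
    rw [mul_assoc]
    rcases D.pre.gen.square _ h with e | e <;> rw [e]
    exacts [one_mul 1, D.pre.gen.sq]
  obtain ⟨h0, hh0⟩ := hsigR
  set c' := h0 * c * h0⁻¹
  have hc' : D.ψ c' = omE := by
    rw [map_mul, map_mul, map_inv, hh0, hc, sig_omE, mul_inv_cancel_right]
  -- the two subgroups of order three are Sylow subgroups of the preimage
  set L := (Subgroup.zpowers omE).comap D.ψ
  have hcardL : Nat.card L = 2 ^ 13 * 3 := by
    let f := D.ψ.comp L.subtype
    have hf : f.ker = Q.subgroupOf L := by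
      show (D.ψ.comp L.subtype).ker = _
      rw [← MonoidHom.comap_ker, D.ker]; rfl
    have hr : f.range = Subgroup.zpowers omE := by
      rw [MonoidHom.range_comp, Subgroup.range_subtype]
      exact Subgroup.map_comap_eq_self (by rw [zpowers_le]; exact ⟨c, hc⟩)
    have hQL : Q ≤ L := by rw [← D.ker]; exact MonoidHom.ker_le_comap _ _
    have h := Subgroup.card_eq_card_quotient_mul_card_subgroup f.ker
    rw [Nat.card_congr (QuotientGroup.quotientKerEquivRange f).toEquiv, hr, Nat.card_zpowers, ho, hf,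
      Nat.card_congr (subgroupOfEquivOfLe hQL).toEquiv, D.cardQ] at h
    rw [h, mul_comm]
  have hmemL : ∀ x : HH, D.ψ x = omE → x ∈ L := fun x hx => by
    show D.ψ x ∈ Subgroup.zpowers omE
    rw [hx]; exact mem_zpowers _
  have hsyl : ∀ x : HH, (hx : D.ψ x = omE) → x ^ 3 = 1 →
      Nat.card (Subgroup.zpowers (⟨x, hmemL x hx⟩ : L)) = 3 ^ (Nat.card L).factorization 3 := by
    intro x hx hx3
    rw [Nat.card_zpowers, orderOf_eq_prime (Subtype.ext hx3) (fun e => h1 (by
      rw [← hx, show x = 1 from congrArg Subtype.val e, map_one]))]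
    rw [hcardL, Nat.factorization_mul (by norm_num) (by norm_num), Finsupp.add_apply,
      Nat.factorization_eq_zero_of_not_dvd (by norm_num), Nat.Prime.factorization_self Nat.prime_three, zero_add,
      pow_one]
  have hc'3 : c' ^ 3 = 1 := by rw [conj_pow, hc3, mul_one, mul_inv_cancel]
  let S1 : Sylow 3 L := Sylow.ofCard _ (hsyl c hc hc3)
  let S2 : Sylow 3 L := Sylow.ofCard _ (hsyl c' hc' hc'3)
  obtain ⟨l, hl⟩ := MulAction.exists_smul_eq L S1 S2
  have hin : l * ⟨c, hmemL c hc⟩ * l⁻¹ ∈ Subgroup.zpowers (⟨c', hmemL c' hc'⟩ : L) := by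
    show l * ⟨c, hmemL c hc⟩ * l⁻¹ ∈ (S2 : Subgroup L)
    rw [← hl]
    exact ⟨_, mem_zpowers _, rfl⟩
  obtain ⟨n, hn⟩ := hin
  have hn' : c' ^ n = (l : HH) * c * (l : HH)⁻¹ := congrArg Subtype.val hn
  obtain ⟨i, hi⟩ := l.2
  have hom : D.ψ ((l : HH) * c * (l : HH)⁻¹) = omE := by
    have hi' : omE ^ i = D.ψ (l : HH) := hi
    rw [map_mul, map_mul, map_inv, hc, ← hi', ((Commute.refl omE).zpow_left i).eq, mul_inv_cancel_right]
  have hn1 : omE ^ n = omE := by
    have h := congrArg D.ψ hn'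
    rwa [map_zpow, hc', hom] at h
  have hconj : (l : HH) * c * (l : HH)⁻¹ = c' := by
    rw [← hn']
    have h := (zpow_eq_zpow_iff_modEq (x := omE) (m := n) (n := 1)).1 (by rw [zpow_one]; exact hn1)
    rw [ho] at h
    rw [zpow_eq_zpow_emod' n hc'3, show n % ((3 : ℕ) : ℤ) = 1 from h, zpow_one]
  set u := c ^ i * (l : HH)⁻¹ * h0
  have hu : D.ψ u = sigE := by
    have hi' : omE ^ i = D.ψ (l : HH) := hi
    rw [map_mul, map_mul, map_zpow, hc, map_inv, ← hi', hh0, mul_inv_cancel, one_mul]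
  have huc : u * c = c * u := by
    have h : (l : HH)⁻¹ * c' * (l : HH) = c := by rw [← hconj]; group
    calc u * c = c ^ i * ((l : HH)⁻¹ * c' * (l : HH)) * (l : HH)⁻¹ * h0 := by simp only [u, c']; group
      _ = c * u := by rw [h]; simp only [u]; group
  refine ⟨c, u, hc, by rw [← pow_two, ← pow_succ]; exact hc3, hu, huc, ?_⟩
  have hQ : ((u * u : HH) : G) ∈ QG := (D.ψ_one_iff _).1 (by rw [map_mul, hu, sigE_sq])
  obtain ⟨a, ha⟩ := D.mem_QG.1 hQ
  have hfix : omE (D.π a) = D.π a := by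
    rw [← hc]
    refine D.act_val ?_
    rw [ha]
    exact mul_inv_eq_iff_eq_mul.2 (congrArg Subtype.val ((show Commute c u from huc.symm).mul_right huc.symm).eq)
  rcases (D.π_eq_zero a).1 (Std.om_fix (by rwa [omE_apply] at hfix)) with e | e
  · exact Or.inl (Subtype.ext (ha.symm.trans e))
  · exact Or.inr (ha.symm.trans e)

/-- An involution over the transposition whose radical lies over displaced vectors. -/
theorem exists_d (hsigR : sigE ∈ D.ψ.range) :
    ∃ d : HH, D.ψ d = sigE ∧ d * d = 1 ∧ RadMove D d := by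
  obtain ⟨c, u, hc, -, hu, huc, hu2⟩ := exists_u0 hsigR
  have hcent : fixS (D.ψ u) ≤ D.cent (u : G) := by
    intro v hv
    by_contra hnot
    obtain ⟨a, rfl⟩ := D.π_surj v
    have hsplit := (fix_split u hv hnot).2
    have hrot : ∀ w ∈ D.cent (u : G), omE w ∈ D.cent (u : G) := by
      rintro _ ⟨b, rfl, hb⟩
      refine ⟨MulAut.conjNormal c b, by rw [D.act, hc], ?_⟩
      rw [Dz.conj_val]
      have hcu : Commute (c : G) (u : G) := (congrArg Subtype.val huc).symm
      exact ((hcu.mul_left (show Commute (val b) (u : G) from hb)).mul_left hcu.inv_left).eq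
    have hback : ∀ w, omE w ∈ D.cent (u : G) → w ∈ D.cent (u : G) := fun w hw => by
      have h := hrot _ (hrot _ hw)
      rwa [← gl_mul, ← gl_mul, ← pow_two, ← pow_succ, omE_facts.1, gl_one] at h
    have hfixed : omE (D.π a) ∈ fixS (D.ψ u) := by
      have h : D.ψ u * omE = omE * D.ψ u := by rw [hu, sig_omE]
      rw [mem_fixS, ← gl_mul, h, gl_mul, mem_fixS.1 hv]
    have hn2 : omE (D.π a) ∉ D.cent (u : G) := fun h => hnot (hback _ h)
    have h3 := (hsplit _ hfixed).resolve_left hn2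
    refine hnot (hback _ (hback _ ?_))
    have e : omE (omE (D.π a)) = omE (D.π a) + D.π a := by
      funext i
      simp only [omE_apply, Pi.add_apply, Pi.smul_apply, smul_eq_mul]
      generalize D.π a i = x
      revert x
      decide +kernel
    rwa [e]
  rcases hu2 with h | h
  · refine ⟨u, hu, h, fun v _ _ hv => ?_⟩
    rw [← hu]
    exact D.orth_fix_le u fun w hw => hv w (hcent hw)
  obtain ⟨v0, hv0, hq0⟩ := sig_fix_odd
  obtain ⟨j, rfl⟩ := D.π_surj v0
  have hjfix : D.π j ∈ fixS (D.ψ u) := by rw [mem_fixS, hu]; exact hv0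
  have hju : val j * (u : G) = u * val j := by
    obtain ⟨b, hb, hbu⟩ := hcent hjfix
    rcases D.eq_of_π hb with e | e
    · rw [e]; exact hbu
    · rw [e]
      exact ((show Commute (val b) (u : G) from hbu).mul_left (zcomm u).symm).eq
  have hjj : val j * val j = z := by
    rcases D.pre.gen.square _ (val_mem j) with e | e
    · exact absurd ((D.sq_iff_val j).1 e) (by rw [hq0]; decide)
    · exact e
  have hψd : D.ψ (u * (j : HH)) = sigE := by
    rw [map_mul, (D.ψ_one_iff _).2 (val_mem j), mul_one, hu]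
  refine ⟨u * (j : HH), hψd, Subtype.ext ?_, ?_⟩
  · show (u : G) * val j * ((u : G) * val j) = 1
    calc (u : G) * val j * ((u : G) * val j) = (u : G) * (val j * (u : G)) * val j := by group
      _ = (u : G) * ((u : G) * val j) * val j := by rw [hju]
      _ = (u : G) * u * (val j * val j) := by group
      _ = 1 := by rw [h, hjj, D.pre.gen.sq]
  intro v hv hqv hvorth
  have hmem : ∀ w ∈ fixS (D.ψ u), B w (D.π j) = 0 → w ∈ D.cent ((u * (j : HH) : HH) : G) := by
    intro w hw hB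
    obtain ⟨b, rfl, hb⟩ := hcent hw
    refine ⟨b, rfl, ?_⟩
    show val b * ((u : G) * val j) = (u : G) * val j * val b
    exact ((show Commute (val b) (u : G) from hb).mul_right ((D.comm_iff_B b j).2 hB)).eq
  rw [← hu]
  by_cases hall : ∀ w ∈ fixS (D.ψ u), B w (D.π j) = 0
  · exact D.orth_fix_le u fun w hw => hvorth w (hmem w hw (hall w hw))
  push Not at hall
  obtain ⟨w0, hw0, hB0⟩ := hall
  have hB1 : B w0 (D.π j) = 1 := (by decide : ∀ b : ZMod 2, b ≠ 0 → b = 1) _ hB0
  have key : ∀ w ∈ fixS (D.ψ u), B v w = B v w0 * B w (D.π j) := by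
    intro w hw
    rcases (by decide : ∀ b : ZMod 2, b = 0 ∨ b = 1) (B w (D.π j)) with e | e
    · rw [hvorth w (hmem w hw e), e, mul_zero]
    · have h0 := hvorth _ (hmem (w + w0) (add_mem hw hw0) (by rw [B_add, e, hB1]; decide))
      rw [B_add_right] at h0
      rw [e, mul_one]
      exact (by decide : ∀ a b : ZMod 2, a + b = 0 → a = b) _ _ h0
  rcases (by decide : ∀ b : ZMod 2, b = 0 ∨ b = 1) (B v w0) with e | e
  · exact D.orth_fix_le u fun w hw => by rw [key w hw, e, zero_mul]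
  · exfalso
    have hvj : v + D.π j ∈ moveS (D.ψ u) := D.orth_fix_le u fun w hw => by
      rw [B_add, key w hw, e, one_mul, B_comm (D.π j) w, z2_self]
    rw [hu] at hvj
    have h1 := (move_sig hvj).1
    have h2 : B v (D.π j) = 0 := by rw [key _ hjfix, B_self, mul_zero]
    rw [(B_iff _ _).1 h2, hqv, hq0] at h1
    exact absurd h1 (by decide)

/-- A normal subgroup of index two containing the part over the cover. -/
theorem exists_split (hsigR : sigE ∈ D.ψ.range) {g0 : G} {s : Q} (hg0 : g0 * z * g0⁻¹ = val s) (hs : val s ≠ z) :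
    ∃ M : Subgroup G, M.Normal ∧ M.index = 2 ∧ D.K.map (centralizer ({z} : Set G)).subtype ≤ M ∧
      ∃ d : HH, (d : G) ∉ M := by
  classical
  haveI : Fact (Nat.Prime 2) := ⟨Nat.prime_two⟩
  obtain ⟨d, hd, hd2, hrad⟩ := exists_d hsigR
  have hd2G : (d : G) * d = 1 := congrArg Subtype.val hd2
  set C := centralizer ({(d : G)} : Set G)
  set X := HH ⊓ C
  set J := QG ⊓ C
  have hQH : QG ≤ HH := map_subtype_le _
  have hJX : J ≤ X := inf_le_inf hQH le_rfl
  have hQ2 : IsPGroup 2 QG := IsPGroup.of_card (n := 13) (by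
    rw [card_map_of_injective (centralizer ({z} : Set G)).subtype_injective, D.cardQ])
  obtain ⟨T0⟩ : Nonempty (Sylow 2 X) := inferInstance
  set T := (T0 : Subgroup X).map X.subtype
  have hTX : T ≤ X := map_subtype_le _
  have hdX : (d : G) ∈ X := mem_inf.2 ⟨d.2, mem_centralizer_singleton_iff.2 rfl⟩
  have hJT : J ≤ T := by
    haveI : (J.subgroupOf X).Normal := ⟨fun x hx y => by
      have hy := mem_inf.1 y.2
      refine ⟨?_, ?_⟩
      · exact D.pre.conj_mem (mem_centralizer_singleton_iff.1 hy.1) (mem_subgroupOf.1 hx).1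
      · have hy2 : (y : G) ∈ C := hy.2
        have hx2 : (x : G) ∈ C := (mem_subgroupOf.1 hx).2
        show ((y * x * y⁻¹ : X) : G) ∈ C
        exact mul_mem (mul_mem hy2 hx2) (inv_mem hy2)⟩
    have h := normal_le_sylow ((hQ2.to_le (inf_le_left : J ≤ QG)).of_equiv (subgroupOfEquivOfLe hJX).symm) T0
    intro x hx
    exact ⟨⟨x, hJX hx⟩, h (mem_subgroupOf.2 hx), rfl⟩
  have hdT : (d : G) ∈ T := by
    have hcen : ∀ y : X, y * ⟨(d : G), hdX⟩ = ⟨(d : G), hdX⟩ * y := fun y =>
      Subtype.ext (mem_centralizer_singleton_iff.1 (mem_inf.1 y.2).2)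
    haveI : (Subgroup.zpowers (⟨(d : G), hdX⟩ : X)).Normal := ⟨fun x hx y => by
      obtain ⟨k, rfl⟩ := hx
      rw [((show Commute y _ from hcen y).zpow_right k).eq, mul_inv_cancel_right]
      exact ⟨k, rfl⟩⟩
    have hp : IsPGroup 2 (Subgroup.zpowers (⟨(d : G), hdX⟩ : X)) := by
      rintro ⟨x, k, rfl⟩
      refine ⟨1, Subtype.ext ?_⟩
      show (_ ^ k) ^ 2 ^ 1 = 1
      rw [pow_one, ← zpow_natCast (_ ^ k), zpow_comm, zpow_natCast, pow_two,
        show (⟨(d : G), hdX⟩ : X) * ⟨(d : G), hdX⟩ = 1 from Subtype.ext hd2G, one_zpow]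
    exact ⟨⟨(d : G), hdX⟩, normal_le_sylow hp T0 (mem_zpowers _), rfl⟩
  have hzJ : z ∈ J := ⟨D.pre.gen.mem, mem_centralizer_singleton_iff.2 (zcomm d).eq.symm⟩
  have hT2 : IsPGroup 2 T := T0.2.map _
  have huniq : ∀ y : G, y * z * y⁻¹ ∈ T → (∀ x ∈ T, x * (y * z * y⁻¹) = y * z * y⁻¹ * x) → y * z * y⁻¹ = z := by
    intro y hy hyc
    by_contra hne
    have hyH : y * z * y⁻¹ ∈ HH := (mem_inf.1 (hTX hy)).1
    set w : HH := ⟨y * z * y⁻¹, hyH⟩ with hw
    have hcsub : D.cent (d : G) ≤ D.cent (w : G) := by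
      rintro _ ⟨b, rfl, hb⟩
      exact ⟨b, rfl, hyc _ (hJT ⟨val_mem b, mem_centralizer_singleton_iff.2 hb⟩)⟩
    have hdw : d * w = w * d := Subtype.ext (hyc _ hdT)
    by_cases hwQ : (w : G) ∈ QG
    · obtain ⟨a, ha⟩ := D.mem_QG.1 hwQ
      have hga : y * z * y⁻¹ = val a := ha.symm
      have haz : val a ≠ z := fun e => hne (hga.trans e)
      obtain ⟨hsing, ha0⟩ := D.sing_of_conj hga haz
      refine D.not_small hga haz (small_move_sig (hrad _ ?_ hsing ?_) ha0)
      · rw [← hd]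
        refine D.act_val ?_
        rw [ha]
        exact mul_inv_eq_iff_eq_mul.2 (congrArg Subtype.val hdw)
      · rintro _ ⟨b, rfl, hb⟩
        obtain ⟨b', hb', hbw⟩ := hcsub ⟨b, rfl, hb⟩
        rw [← hb']
        refine (D.comm_iff_B a b').1 ?_
        rw [ha]; exact hbw.symm
    · let Y : Out D := ⟨y, hyH, hwQ⟩
      have hYu : Y.u = w := rfl
      have hsmall : Nat.card ((fixS sigE).map (disp (D.ψ w))) ≤ 2 := by
        rw [← hd]
        refine (card_map_two _ (D.cent_le_fix d) (D.card_fix_le d)).trans ?_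
        have hbot : (D.cent (d : G)).map (disp (D.ψ w)) = ⊥ := by
          refine eq_bot_iff.2 ?_
          rintro _ ⟨v, hv, rfl⟩
          exact AddSubgroup.mem_bot.2 (by rw [disp_apply, mem_fixS.1 (D.cent_le_fix w (hcsub hv)), v6_add_self])
        rw [hbot, AddSubgroup.card_bot]
      have hw1 := Y.t_ne
      rw [hYu] at hw1
      have hw2 := Y.t_sq
      rw [hYu] at hw2
      have hsig : D.ψ w = sigE := eq_of_small D.cardK0 (D.range_le hsigR) sigE_sq
        (fun e => D.sig_not (e.symm ▸ one_mem _)) card_move_sig (D.range_le ⟨w, rfl⟩) hw2 hw1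
        (by rw [← hd, ← map_mul, ← map_mul, hdw]) hsmall
      exact no_conj_sig Y hsig fun v hv hq ho => hrad v hv hq fun b hb => ho b (hcsub hb)
  have hmax : ∀ T' : Subgroup G, T ≤ T' → T' ≤ C → T' ≤ HH → IsPGroup 2 T' → T' ≤ T := by
    intro T' h1 h2 h3 h4
    have hle : T' ≤ X := le_inf h3 h2
    have h5 : T'.subgroupOf X = T0 := T0.3 (h4.of_equiv (subgroupOfEquivOfLe hle).symm) fun x hx =>
      mem_subgroupOf.2 (h1 ⟨x, hx, rfl⟩)
    intro x hx
    exact ⟨⟨x, hle hx⟩, h5 ▸ mem_subgroupOf.2 hx, rfl⟩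
  have hTC : T ≤ C := hTX.trans inf_le_right
  have hTH : T ≤ HH := hTX.trans inf_le_left
  have hTbound := fun (P : Subgroup G) (h1 : P ≤ C) (h2 : IsPGroup 2 P) =>
    two_part_le hT2 hTC hTH (hJT hzJ) hmax huniq h1 h2
  -- a Sylow subgroup of the group
  obtain ⟨SH, hSH⟩ := (hT2.of_equiv (subgroupOfEquivOfLe hTH).symm).exists_le_sylow
  set S := (SH : Subgroup HH).map (HH).subtype
  have hS2 : IsPGroup 2 S := SH.2.map _
  have hSle : S ≤ HH := map_subtype_le _
  have hTS : T ≤ S := fun x hx => ⟨⟨x, hTH hx⟩, hSH (mem_subgroupOf.2 hx), rfl⟩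
  have hQS : QG ≤ S := by
    rintro _ ⟨q, hq, rfl⟩
    exact ⟨q, normal_le_sylow (IsPGroup.of_card (n := 13) D.cardQ) SH hq, rfl⟩
  have hSbound : ∀ P : Subgroup G, IsPGroup 2 P → Nat.card P ≤ Nat.card S := fun P h2 => by
    refine two_part_le hS2 le_top hSle (hQS D.pre.gen.mem) ?_ ?_ le_top h2
    · intro T' h1 _ h3 h4
      have h5 : T'.subgroupOf HH = SH := SH.3 (h4.of_equiv (subgroupOfEquivOfLe h3).symm) fun x hx =>
        mem_subgroupOf.2 (h1 ⟨x, hx, rfl⟩)
      intro x hx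
      exact ⟨⟨x, h3 hx⟩, h5 ▸ mem_subgroupOf.2 hx, rfl⟩
    · intro y hy hyc
      have hyQ : y * z * y⁻¹ ∈ QG := D.pre.self (mem_centralizer_iff.2 fun q hq => hyc q (hQS hq))
      rcases D.pre.gen.center_iff _ hyQ (fun q hq => (hyc q (hQS hq)).symm) with e | e
      · exact absurd (conj_eq_one_iff.1 e) D.pre.gen.ne_one
      · exact e
  have hSodd : Odd S.index := by
    obtain ⟨P, hP⟩ := hS2.exists_le_sylow
    have e : S = P := Subgroup.eq_of_le_of_card_ge hP (hSbound _ P.2)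
    rw [e, ← Nat.not_even_iff_odd, even_iff_two_dvd]
    exact P.not_dvd_index
  -- the subgroup of index two in it
  set N := (adj u0E u0E_sq u0_norm).comap D.ψ
  have hsigN : sigE ∉ adj u0E u0E_sq u0_norm := fun h => h.elim D.sig_not su_not
  have hNidx : N.index = 2 := by
    refine Subgroup.index_eq_two_iff.2 ⟨d, fun b => ?_⟩
    have hb := big_two (D.range_le ⟨b, rfl⟩ : D.ψ b ∈ Big)
    simp only [N, mem_comap, map_mul, hd]
    rcases hb with hb | hb
    · refine Or.inr ⟨hb, fun h => hsigN ?_⟩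
      have := mul_mem (inv_mem hb) h
      rwa [inv_mul_cancel_left] at this
    · refine Or.inl ⟨hb, fun h => hsigN ?_⟩
      have := mul_mem (inv_mem h) hb
      rwa [inv_mul_cancel_left] at this
  haveI hNn : N.Normal := Subgroup.normal_of_index_eq_two hNidx
  set QS := S ⊓ N.map (HH).subtype
  have hdS : (d : G) ∈ S := hTS hdT
  have hdN : d ∉ N := fun h => hsigN (hd ▸ h)
  have hQSi : QS.relIndex S = 2 := by
    refine Subgroup.index_eq_two_iff.2 ⟨⟨(d : G), hdS⟩, fun b => ?_⟩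
    have hmem : ∀ x : HH, (x : G) ∈ S → ((x : G) ∈ QS ↔ x ∈ N) := fun x hx =>
      ⟨fun h => by
        obtain ⟨y, hy, e⟩ := (mem_inf.1 h).2
        rwa [← (Subtype.ext e : y = x)], fun h => mem_inf.2 ⟨hx, mem_map_of_mem _ h⟩⟩
    simp only [mem_subgroupOf, Subgroup.coe_mul]
    have hbH : (b : G) ∈ HH := hSle b.2
    have h1 := hmem (⟨b, hbH⟩ * d) (mul_mem b.2 hdS)
    have h2 := hmem ⟨b, hbH⟩ b.2
    have h3 := Subgroup.mul_mem_iff_of_index_two hNidx (a := ⟨b, hbH⟩) (b := d)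
    simp only [Subgroup.coe_mul] at h1
    rw [h1, h2, h3]
    by_cases hb : (⟨b, hbH⟩ : HH) ∈ N
    · exact Or.inr ⟨hb, fun h => hdN (h.1 hb)⟩
    · exact Or.inl ⟨iff_of_false hb hdN, hb⟩
  rcases extremal_transfer S QS hSodd inf_le_left hQSi hd2G with ⟨M, hMn, hMi, hdM⟩ | ⟨g, hgQ, hgodd⟩
  · refine ⟨M, hMn, hMi, ?_, d, hdM⟩
    haveI := hMn
    have hsqM : ∀ x : G, x * x ∈ M := fun x => Subgroup.mul_self_mem_of_index_two hMi x
    have hcomm : ∀ x y : G, x * y * x⁻¹ * y⁻¹ ∈ M := fun x y => by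
      rw [show x * y * x⁻¹ * y⁻¹ = (x * y) * (x * y) * (y⁻¹ * (x⁻¹ * x⁻¹) * y) * (y⁻¹ * y⁻¹) by group]
      refine mul_mem (mul_mem (hsqM _) ?_) (hsqM _)
      have := hMn.conj_mem _ (hsqM x⁻¹) y⁻¹
      rwa [inv_inv] at this
    obtain ⟨hsing, hs0⟩ := D.sing_of_conj hg0 hs
    have hzM : z ∈ M := by
      obtain ⟨q, hq⟩ := D.exists_flip (a := s) (fun e => hs0 ((D.π_eq_zero s).2 (Or.inl e))) hs
      have h1 := hcomm (val q) (val s)
      have h2 : val q * val s * (val q)⁻¹ * (val s)⁻¹ = z := by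
        rw [hq, (D.pre.gen.comm_z _ (val_mem s)).eq, mul_inv_cancel_right]
      rwa [h2] at h1
    have hQM : ∀ a : Q, val a ∈ M := by
      intro a
      obtain ⟨c, -, hc⟩ : omE ∈ D.K.map D.ψ := by rw [D.mapK]; exact dmul_mem (by decide)
      obtain ⟨b, hb⟩ := D.π_surj (omE (D.π a))
      have h1 := hcomm (c : G) (val b)
      have e : D.π (MulAut.conjNormal c b * b⁻¹) = D.π a := by
        rw [D.π_mul, D.π_inv, D.act, hc, hb]
        funext i
        simp only [omE_apply, Pi.add_apply, Pi.smul_apply, smul_eq_mul]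
        generalize D.π a i = x
        revert x
        decide +kernel
      have hval : val (MulAut.conjNormal c b * b⁻¹) = (c : G) * val b * (c : G)⁻¹ * (val b)⁻¹ := rfl
      rcases D.eq_of_π e with h | h <;> rw [h, hval]
      exacts [h1, mul_mem h1 hzM]
    set U := ((M.subgroupOf HH) ⊓ D.K).map D.ψ
    have hU : K0 ≤ U := k0_le_of_squares fun x hx => by
      obtain ⟨k, hk, rfl⟩ : x ∈ D.K.map D.ψ := D.mapK.symm ▸ hx
      exact ⟨k * k, mem_inf.2 ⟨mem_subgroupOf.2 (hsqM _), mul_mem hk hk⟩, map_mul _ _ _⟩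
    rintro _ ⟨k, hk, rfl⟩
    obtain ⟨m, hm, e⟩ := hU (D.mapK ▸ mem_map_of_mem D.ψ hk)
    obtain ⟨a, ha⟩ := D.mem_QG.1 ((D.ψ_one_iff (m⁻¹ * k)).1 (by rw [map_mul, map_inv, e, inv_mul_cancel]))
    have hk' : (k : G) = (m : G) * val a := by
      rw [ha, Subgroup.coe_mul, Subgroup.coe_inv, mul_inv_cancel_left]
    show (k : G) ∈ M
    rw [hk']
    exact mul_mem (mem_subgroupOf.1 (mem_inf.1 hm).1) (hQM a)
  · exfalso
    set T' := S.map (MulAut.conj g).toMonoidHom ⊓ C
    have hT'C : T' ≤ C := inf_le_right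
    have hT'2 : IsPGroup 2 T' := (hS2.map _).to_le inf_le_left
    have hTsyl : ∀ R : Subgroup G, T ≤ R → R ≤ C → IsPGroup 2 R → R = T := fun R h1 h2 h3 =>
      (Subgroup.eq_of_le_of_card_ge h1 (hTbound R h2 h3)).symm
    let S1 : Sylow 2 C := ⟨T.subgroupOf C, hT2.of_equiv (subgroupOfEquivOfLe hTC).symm, fun {R} hR hle => by
      have h := hTsyl (R.map C.subtype) (fun x hx => ⟨⟨x, hTC hx⟩, hle (mem_subgroupOf.2 hx), rfl⟩)
        (map_subtype_le _) (hR.map _)
      ext x
      rw [mem_subgroupOf, ← h]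
      exact ⟨fun hx => ⟨x, hx, rfl⟩, fun ⟨y, hy, e⟩ => (Subtype.ext e : y = x) ▸ hy⟩⟩
    obtain ⟨S2, hS2'⟩ := (hT'2.of_equiv (subgroupOfEquivOfLe hT'C).symm).exists_le_sylow
    have hS2eq : (S2 : Subgroup C) = T'.subgroupOf C := by
      refine (le_antisymm hS2' ?_).symm
      rw [← Subgroup.relIndex_eq_one]
      obtain ⟨n, hn⟩ := IsPGroup.iff_card.1 S2.2
      obtain ⟨k, hk, e⟩ := (Nat.dvd_prime_pow Nat.prime_two).1
        (hn ▸ Subgroup.relIndex_dvd_card (T'.subgroupOf C) (S2 : Subgroup C))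
      rcases Nat.eq_zero_or_pos k with rfl | hk0
      · rwa [pow_zero] at e
      · exfalso
        refine Nat.not_even_iff_odd.2 hgodd ?_
        have hdvd : (T'.subgroupOf C).relIndex (S2 : Subgroup C) ∣ (T'.subgroupOf C).index :=
          Dvd.intro _ (Subgroup.relIndex_mul_index hS2')
        rw [e] at hdvd
        show Even (T'.subgroupOf C).index
        exact even_iff_two_dvd.2 ((dvd_pow_self 2 hk0.ne').trans hdvd)
    obtain ⟨c, hc⟩ := MulAction.exists_smul_eq C S1 S2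
    have hconj : ∀ x ∈ T', (c : G)⁻¹ * x * c ∈ T := by
      intro x hx
      have h : (⟨x, hT'C hx⟩ : C) ∈ (S2 : Subgroup C) := by rw [hS2eq]; exact mem_subgroupOf.2 hx
      rw [← hc] at h
      obtain ⟨y, hy, e⟩ := h
      have e' : (c : G) * y * (c : G)⁻¹ = x := congrArg Subtype.val e
      rw [← e', show (c : G)⁻¹ * ((c : G) * y * (c : G)⁻¹) * c = y by group]
      exact mem_subgroupOf.1 hy
    have hconj' : ∀ x ∈ T, (c : G) * x * (c : G)⁻¹ ∈ T' := by
      intro x hx
      have h : (⟨(c : G) * x * (c : G)⁻¹, mul_mem (mul_mem c.2 (hTC hx)) (inv_mem c.2)⟩ : C) ∈ (S2 : Subgroup C) := by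
        rw [← hc]
        exact ⟨⟨x, hTC hx⟩, mem_subgroupOf.2 hx, rfl⟩
      rw [hS2eq] at h
      exact mem_subgroupOf.1 h
    have hzT' : g * z * g⁻¹ ∈ T' := by
      refine ⟨⟨z, hQS D.pre.gen.mem, rfl⟩, mem_centralizer_singleton_iff.2 ?_⟩
      have h : (g⁻¹ * (d : G) * g) * z = z * (g⁻¹ * (d : G) * g) :=
        mem_centralizer_singleton_iff.1 (hSle (mem_inf.1 hgQ).1)
      calc g * z * g⁻¹ * (d : G) = g * (z * (g⁻¹ * (d : G) * g)) * g⁻¹ := by group
        _ = (d : G) * (g * z * g⁻¹) := by rw [← h]; group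
    have hzz : ((c : G)⁻¹ * g) * z * ((c : G)⁻¹ * g)⁻¹ = z := by
      refine huniq _ ?_ fun x hx => ?_
      · rw [show (c : G)⁻¹ * g * z * ((c : G)⁻¹ * g)⁻¹ = (c : G)⁻¹ * (g * z * g⁻¹) * c by group]
        exact hconj _ hzT'
      · obtain ⟨y, hy, e⟩ := (mem_inf.1 (hconj' x hx)).1
        have e' : g * y * g⁻¹ = (c : G) * x * (c : G)⁻¹ := e
        have hyz : y * z = z * y := mem_centralizer_singleton_iff.1 (hSle hy)
        calc x * ((c : G)⁻¹ * g * z * ((c : G)⁻¹ * g)⁻¹) = (c : G)⁻¹ * ((c : G) * x * (c : G)⁻¹) * g * z * g⁻¹ * c := by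
              group
          _ = (c : G)⁻¹ * g * (y * z) * g⁻¹ * c := by rw [← e']; group
          _ = (c : G)⁻¹ * g * z * g⁻¹ * (g * y * g⁻¹) * c := by rw [hyz]; group
          _ = _ := by rw [e']; group
    set h : HH := ⟨(c : G)⁻¹ * g, mem_centralizer_singleton_iff.2 (mul_inv_eq_iff_eq_mul.1 hzz)⟩
    obtain ⟨q, hq, hqe⟩ := (mem_inf.1 hgQ).2
    refine hdN ?_
    have hd' : d = h * q * h⁻¹ := Subtype.ext (by
      have hcd : (c : G) * (d : G) = (d : G) * c := mem_centralizer_singleton_iff.1 c.2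
      show (d : G) = (c : G)⁻¹ * g * (q : G) * ((c : G)⁻¹ * g)⁻¹
      rw [show (q : G) = g⁻¹ * (d : G) * g from hqe,
        show (c : G)⁻¹ * g * (g⁻¹ * (d : G) * g) * ((c : G)⁻¹ * g)⁻¹ = (c : G)⁻¹ * ((d : G) * c) by group,
        ← hcd, inv_mul_cancel_left])
    rw [hd']
    exact hNn.conj_mem q hq h

end CfsgLib.FiLarge.Chz
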