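import Cfsg.Agent.FiLarge.Chz.Raw
import Cfsg.Agent.FiLarge.Stab

/-!
The canonical cover with one outer involution in standard form: orbits on singular vectors and stabilisers.
-/

set_option autoImplicit false
set_option maxRecDepth 100000
set_option maxHeartbeats 1000000
set_option linter.style.haveILetI false

namespace CfsgLib.FiLarge.Chz

open CfsgLib CfsgLib.FiLarge Subgroup
open CfsgLib.FiLarge.Eleven (mapply)

/-- The stabiliser of a vector. -/
def fixer (a : V6) : Subgroup GL6 where
  carrier := {g | g a = a}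
  one_mem' := rfl
  mul_mem' := fun {g h} (hg : g a = a) (hh : h a = a) => by
    show (g * h) a = a
    rw [gl_mul, hh, hg]
  inv_mem' := fun {g} (hg : g a = a) => by
    show g⁻¹ a = a
    conv_lhs => rw [← hg]
    rw [gl_inv_apply]

theorem mem_fixer {g : GL6} {a : V6} : g ∈ fixer a ↔ g a = a := Iff.rfl

theorem fMat_qn (a : V6) : qn (mapply fMat a) = qn a := by
  have hre : ∀ x : F4, (if x = 0 then (0 : ZMod 2) else 1) = (x * (x * x)).re := by decide +kernel
  let re : F4 →+ ZMod 2 := AddMonoidHom.mk' (fun x => x.re) fun _ _ => rfl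
  let sq : F4 →+ F4 := AddMonoidHom.mk' (fun x => x * x)
    ((by decide +kernel : ∀ x y : F4, (x + y) * (x + y) = x * x + y * y))
  have hq : ∀ w : V6, qn w = re (herm w w) := fun w => by
    rw [herm, map_sum]
    exact Finset.sum_congr rfl fun i _ => hre (w i)
  have key : ∀ j k : Fin 6, ∑ i, fMat i j * (fMat i k * fMat i k) = if j = k then 1 else 0 := by decide +kernel
  rw [hq, hq]
  congr 1
  calc herm (mapply fMat a) (mapply fMat a)
      = ∑ i, (∑ j, a j * fMat i j) * ∑ k, a k * fMat i k * (a k * fMat i k) := by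
        exact Finset.sum_congr rfl fun i _ => congrArg _ (map_sum sq _ _)
    _ = ∑ k, ∑ j, a j * (a k * a k) * ∑ i, fMat i j * (fMat i k * fMat i k) := by
        simp only [Finset.sum_mul, Finset.mul_sum]
        rw [Finset.sum_comm]
        refine Finset.sum_congr rfl fun j _ => ?_
        rw [Finset.sum_comm]
        exact Finset.sum_congr rfl fun k _ => Finset.sum_congr rfl fun i _ => by ring
    _ = herm a a := by rw [Finset.sum_comm]; simp [key, herm]

theorem k0_basic : ∀ g ∈ K0, (∀ a, qn (g a) = qn a) ∧ g * omE = omE * g := by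
  intro g hg
  induction hg using Subgroup.closure_induction with
  | mem g hg =>
    rcases hg with rfl | ⟨τ, -, rfl⟩ | ⟨l, -, rfl⟩
    · refine ⟨fun a => fMat_qn a, LinearEquiv.ext fun a => funext fun i => ?_⟩
      show mapply fMat (omE a) i = omp 1 * mapply fMat a i
      simp only [mapply, omE, dmulE_apply, dmul, Finset.mul_sum]
      exact Finset.sum_congr rfl fun j _ => by ring
    · refine ⟨fun a => ?_, by rw [omE, permE_dmulE]⟩
      exact Equiv.sum_comp τ fun i => if a i = 0 then (0 : ZMod 2) else 1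
    · exact ⟨fun a => qn_dmul l a, by rw [omE, dmulE_mul, dmulE_mul, add_comm]⟩
  | one => exact ⟨fun a => rfl, by rw [one_mul, mul_one]⟩
  | mul x y _ _ hx hy =>
    exact ⟨fun a => by rw [gl_mul, hx.1, hy.1], by rw [mul_assoc, hy.2, ← mul_assoc, hx.2, mul_assoc]⟩
  | inv x _ hx =>
    exact ⟨fun a => by rw [← hx.1, gl_apply_inv], ((show Commute x omE from hx.2).inv_left).eq⟩

theorem k0_central {g : GL6} (hg : g ∈ K0) : g * omE = omE * g := (k0_basic g hg).2

theorem u0E_omE : u0E * omE * u0E⁻¹ = omE⁻¹ := by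
  have h := frobE_omE
  have hfi : frobE⁻¹ = frobE := inv_eq_of_mul_eq_one_right frobE_sq
  rw [u0E, mul_inv_rev, hfi]
  calc dmulE l45 * frobE * omE * (frobE * (dmulE l45)⁻¹) = dmulE l45 * (frobE * omE * frobE) * (dmulE l45)⁻¹ := by
        group
    _ = _ := by rw [h, omE, dmulE_inv, dmulE_inv, dmulE_mul, dmulE_mul, add_comm l45, add_neg_cancel_right]

theorem omE_ne_inv : omE ≠ omE⁻¹ := by
  rw [omE, dmulE_inv]
  intro h
  exact absurd (congrFun (dmulE_inj h) 0) (show (1 : ZMod 3) ≠ -1 by decide)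

theorem u0E_not : u0E ∉ K0 := fun h => omE_ne_inv (by
  have e := u0E_omE
  rwa [k0_central h, mul_inv_cancel_right] at e)

theorem sig_omE : sigE * omE = omE * sigE := by rw [sigE, omE, permE_dmulE]

theorem su_not : sigE * u0E ∉ K0 := fun h => omE_ne_inv (by
  have e := u0E_omE
  have h' := k0_central h
  calc omE = (sigE * u0E) * omE * (sigE * u0E)⁻¹ := by rw [h', mul_inv_cancel_right]
    _ = sigE * (u0E * omE * u0E⁻¹) * sigE⁻¹ := by group
    _ = omE⁻¹ := by
      rw [e]
      exact mul_inv_eq_iff_eq_mul.2 ((show Commute sigE omE from sig_omE).inv_right).eq)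

theorem gen_norm {t : GL6} (ht : t * t = 1) (hf : t * fE * t⁻¹ ∈ K0)
    (hp : ∀ τ : Equiv.Perm (Fin 6), Equiv.Perm.sign τ = 1 → t * permE τ * t⁻¹ ∈ K0)
    (hd : ∀ l : Fin 6 → ZMod 3, ∑ i, l i = 0 → t * dmulE l * t⁻¹ ∈ K0) : t ∈ normalizer (K0 : Set GL6) := by
  have key : ∀ g ∈ K0, t * g * t⁻¹ ∈ K0 := by
    intro g hg
    induction hg using Subgroup.closure_induction with
    | mem g hg =>
      rcases hg with rfl | ⟨τ, hτ, rfl⟩ | ⟨l, hl, rfl⟩
      exacts [hf, hp τ hτ, hd l hl]
    | one => simp [one_mem]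
    | mul x y _ _ hx hy =>
      rw [show t * (x * y) * t⁻¹ = t * x * t⁻¹ * (t * y * t⁻¹) by group]
      exact mul_mem hx hy
    | inv x _ hx =>
      rw [show t * x⁻¹ * t⁻¹ = (t * x * t⁻¹)⁻¹ by group]
      exact inv_mem hx
  refine mem_normalizer_iff.2 fun g => ⟨key g, fun h => ?_⟩
  have h2 := key _ h
  rw [inv_eq_of_mul_eq_one_right ht] at h2
  rwa [show t * (t * g * t) * t = (t * t) * g * (t * t) by group, ht, one_mul, mul_one] at h2

theorem sig_norm : sigE ∈ normalizer (K0 : Set GL6) := by
  refine gen_norm sigE_sq (by rw [← fE_sig, mul_inv_cancel_right]; exact fE_mem) (fun τ hτ => ?_) fun l hl => ?_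
  · rw [sigE, permE_inv, permE_mul, permE_mul]
    exact perm_mem (by rw [map_mul, map_mul, hτ, one_mul, map_inv, inv_mul_cancel])
  · rw [sigE, permE_dmulE, mul_inv_cancel_right]
    exact dmul_mem (by rw [Equiv.sum_comp (Equiv.swap 4 5) l, hl])

theorem u0_norm : u0E ∈ normalizer (K0 : Set GL6) := by
  have hi : u0E⁻¹ = u0E := inv_eq_of_mul_eq_one_right u0E_sq
  refine gen_norm u0E_sq (by rw [← fE_u0, mul_inv_cancel_right]; exact fE_mem) (fun τ hτ => ?_) fun l hl => ?_
  · have e : u0E * permE τ * u0E⁻¹ = dmulE (fun i => l45 i - l45 (τ i)) * permE τ := by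
      rw [hi]
      refine LinearEquiv.ext fun a => funext fun i => ?_
      rw [gl_mul, gl_mul, gl_mul, u0E_apply, permE_apply, u0E_apply, dmulE_apply, dmul, permE_apply]
      generalize a (τ i) = x
      generalize l45 i = p
      generalize l45 (τ i) = q
      revert x p q
      decide +kernel
    rw [e]
    exact mul_mem (dmul_mem (by rw [Finset.sum_sub_distrib, Equiv.sum_comp τ l45, sub_self])) (perm_mem hτ)
  · have e : u0E * dmulE l * u0E⁻¹ = dmulE (-l) := by
      rw [hi]
      refine LinearEquiv.ext fun a => funext fun i => ?_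
      rw [gl_mul, gl_mul, u0E_apply, dmulE_apply, dmul, u0E_apply, dmulE_apply, dmul, Pi.neg_apply]
      generalize a i = x
      generalize l45 i = p
      generalize l i = q
      revert x p q
      decide +kernel
    rw [e]
    exact dmul_mem (by simp [hl])

/-- The extension by an involution. -/
def adj (t : GL6) (ht : t * t = 1) (hn : t ∈ normalizer (K0 : Set GL6)) : Subgroup GL6 where
  carrier := {g | g ∈ K0 ∨ g * t ∈ K0}
  one_mem' := Or.inl (one_mem _)
  mul_mem' := by
    have hc : ∀ k ∈ K0, t * k * t ∈ K0 := fun k hk => by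
      have := (mem_normalizer_iff.1 hn k).1 hk
      rwa [inv_eq_of_mul_eq_one_right ht] at this
    intro g h hg hh
    rcases hg with hg | hg <;> rcases hh with hh | hh
    · exact Or.inl (mul_mem hg hh)
    · exact Or.inr (by rw [mul_assoc]; exact mul_mem hg hh)
    · refine Or.inr ?_
      rw [show g * h * t = g * (t * t) * h * t by rw [ht, mul_one],
        show g * (t * t) * h * t = g * t * (t * h * t) by group]
      exact mul_mem hg (hc h hh)
    · refine Or.inl ?_
      rw [show g * h = g * (t * t) * h * (t * t) by rw [ht, mul_one, mul_one],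
        show g * (t * t) * h * (t * t) = g * t * (t * (h * t) * t) by group]
      exact mul_mem hg (hc _ hh)
  inv_mem' := by
    intro g hg
    rcases hg with hg | hg
    · exact Or.inl (inv_mem hg)
    · refine Or.inr ?_
      have := (mem_normalizer_iff.1 hn _).1 (inv_mem hg)
      rw [inv_eq_of_mul_eq_one_right ht, mul_inv_rev, inv_eq_of_mul_eq_one_right ht] at this
      rwa [show t * (t * g⁻¹) * t = t * t * g⁻¹ * t by group, ht, one_mul] at this

variable {t : GL6} {ht : t * t = 1} {hn : t ∈ normalizer (K0 : Set GL6)}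

theorem le_adj : K0 ≤ adj t ht hn := fun _ h => Or.inl h

theorem t_mem_adj : t ∈ adj t ht hn := Or.inr (by rw [ht]; exact one_mem _)

theorem adj_index (h : t ∉ K0) : (K0.subgroupOf (adj t ht hn)).index = 2 := by
  refine Subgroup.index_eq_two_iff.2 ⟨⟨t, t_mem_adj⟩, fun b => ?_⟩
  simp only [mem_subgroupOf, Subgroup.coe_mul]
  rcases b.2 with hb | hb
  · refine Or.inr ⟨hb, fun h' => h ?_⟩
    have := mul_mem (inv_mem hb) h'
    rwa [inv_mul_cancel_left] at this
  · refine Or.inl ⟨hb, fun h' => h ?_⟩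
    have := mul_mem (inv_mem h') hb
    rwa [inv_mul_cancel_left] at this

theorem card_adj (hK : Nat.card K0 = 9797760) (h : t ∉ K0) : Nat.card (adj t ht hn) = 19595520 := by
  have e := Subgroup.index_mul_card (K0.subgroupOf (adj t ht hn))
  rw [adj_index h, Nat.card_congr (subgroupOfEquivOfLe le_adj).toEquiv, hK] at e
  exact e.symm

/-- The cover with the transposition in standard form. -/
noncomputable def T1 (hK : Nat.card K0 = 9797760) (hs : sigE ∉ K0) : Std ↥(adj sigE sigE_sq sig_norm) where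
  r := (adj sigE sigE_sq sig_norm).subtype
  inj := Subtype.val_injective
  inv := fun c a => by
    show qn ((c : GL6) a) = qn a
    have hs1 : ∀ a, qn (sigE a) = qn a := fun a =>
      Equiv.sum_comp (Equiv.swap 4 5) fun i => if a i = 0 then (0 : ZMod 2) else 1
    rcases c.2 with h | h
    · exact (k0_basic _ h).1 a
    · calc qn ((c : GL6) a) = qn (((c : GL6) * sigE) (sigE a)) := by
            rw [← gl_mul, mul_assoc, sigE_sq, mul_one]
        _ = qn a := by rw [(k0_basic _ h).1, hs1]
  M := K0.subgroupOf _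
  idx := adj_index hs
  x := ⟨omE, le_adj (dmul_mem (by decide))⟩
  x_mem := dmul_mem (by decide)
  x_act := fun a => omE_apply a
  central := fun c hc => Subtype.ext (k0_central hc)
  semi := fun c => Or.inl (Subtype.ext (by
    show (c : GL6) * omE * (c : GL6)⁻¹ = omE
    rw [mul_inv_eq_iff_eq_mul]
    rcases c.2 with h | h
    · exact k0_central h
    · have h1 : Commute ((c : GL6) * sigE) omE := k0_central h
      have h2 := h1.mul_left (show Commute sigE omE from sig_omE)
      rwa [mul_assoc, sigE_sq, mul_one] at h2))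
  card := card_adj hK hs
  diag := fun v hv => ⟨⟨dmulE v, le_adj (dmul_mem hv)⟩, dmul_mem hv, fun a => rfl⟩
  perm := fun τ hτ => ⟨⟨permE τ, le_adj (perm_mem hτ)⟩, perm_mem hτ, fun a => rfl⟩

/-- The short orbit of the cover. -/
def Small (a : V6) : Prop := ∃ g ∈ K0, g v2 = a

theorem big_cases {g : GL6} (hg : g ∈ Big) :
    g ∈ K0 ∨ g * sigE ∈ K0 ∨ g * u0E ∈ K0 ∨ g * (sigE * u0E) ∈ K0 := by
  have hs := sig_norm
  have hu := u0_norm
  have key : g ∈ adj sigE sigE_sq sig_norm ∨ g * u0E ∈ adj sigE sigE_sq sig_norm := by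
    have hn : ∀ k ∈ adj sigE sigE_sq sig_norm, u0E * k * u0E ∈ adj sigE sigE_sq sig_norm := by
      intro k hk
      have hi : u0E⁻¹ = u0E := inv_eq_of_mul_eq_one_right u0E_sq
      rcases hk with h | h
      · have := (mem_normalizer_iff.1 hu k).1 h
        exact Or.inl (by rwa [hi] at this)
      · refine Or.inr ?_
        have := (mem_normalizer_iff.1 hu _).1 h
        rw [hi] at this
        rwa [mul_assoc, ← sig_u0, ← mul_assoc, mul_assoc u0E k sigE]
    rw [Big] at hg
    refine (Subgroup.closure_le (K :=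
      { carrier := {g | g ∈ adj sigE sigE_sq sig_norm ∨ g * u0E ∈ adj sigE sigE_sq sig_norm}
        one_mem' := Or.inl (one_mem _)
        mul_mem' := fun {x y} hx hy => by
          rcases hx with hx | hx <;> rcases hy with hy | hy
          · exact Or.inl (mul_mem hx hy)
          · exact Or.inr (by rw [mul_assoc]; exact mul_mem hx hy)
          · refine Or.inr ?_
            rw [show x * y * u0E = x * u0E * (u0E * y * u0E) by
              calc x * y * u0E = x * (u0E * u0E) * y * u0E := by rw [u0E_sq, mul_one]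
                _ = _ := by group]
            exact mul_mem hx (hn y hy)
          · refine Or.inl ?_
            rw [show x * y = x * u0E * (u0E * (y * u0E) * u0E) by
              calc x * y = x * (u0E * u0E) * y * (u0E * u0E) := by rw [u0E_sq, mul_one, mul_one]
                _ = _ := by group]
            exact mul_mem hx (hn _ hy)
        inv_mem' := fun {x} hx => by
          rcases hx with hx | hx
          · exact Or.inl (inv_mem hx)
          · refine Or.inr ?_
            have := hn _ (inv_mem hx)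
            rwa [mul_inv_rev, inv_eq_of_mul_eq_one_right u0E_sq, ← mul_assoc, u0E_sq, one_mul] at this })).2 ?_
      (show g ∈ Subgroup.closure ((K0 : Set GL6) ∪ {sigE, u0E}) by
        rwa [Subgroup.closure_union, Subgroup.closure_eq])
    rintro k (hk | rfl | rfl)
    · exact Or.inl (le_adj hk)
    · exact Or.inl t_mem_adj
    · exact Or.inr (by rw [u0E_sq]; exact one_mem _)
  rcases key with h | h
  · exact h.imp id Or.inl
  · rcases h with h | h
    · exact Or.inr (Or.inr (Or.inl h))
    · exact Or.inr (Or.inr (Or.inr (by rwa [sig_u0, ← mul_assoc])))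

theorem u0E_v2 : u0E v2 = v2 := by funext i; revert i; decide +kernel

theorem sigE_v2 : sigE v2 = v2 := by funext i; revert i; decide +kernel

/-- Elements of the extension move the short orbit into itself. -/
theorem small_big {g : GL6} (hg : g ∈ Big) {a : V6} (ha : Small a) : Small (g a) := by
  have key : ∀ t : GL6, t ∈ normalizer (K0 : Set GL6) → t v2 = v2 → g * t ∈ K0 → t * t = 1 → Small (g a) := by
    intro t ht hv hgt ht2
    obtain ⟨k, hk, rfl⟩ := ha
    refine ⟨g * t * (t * k * t), mul_mem hgt ?_, ?_⟩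
    · have := (mem_normalizer_iff.1 ht k).1 hk
      rwa [inv_eq_of_mul_eq_one_right ht2] at this
    · calc (g * t * (t * k * t)) v2 = (g * (t * t) * k) (t v2) := by simp only [gl_mul]
        _ = g (k v2) := by rw [hv, ht2, mul_one, gl_mul]
  rcases big_cases hg with h | h | h | h
  · exact key 1 (one_mem _) rfl (by rwa [mul_one]) (one_mul 1)
  · exact key _ sig_norm sigE_v2 h sigE_sq
  · exact key _ u0_norm u0E_v2 h u0E_sq
  · refine key _ (mul_mem sig_norm u0_norm) (by rw [gl_mul, u0E_v2, sigE_v2]) h ?_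
    calc sigE * u0E * (sigE * u0E) = sigE * (u0E * sigE) * u0E := by group
      _ = sigE * sigE * (u0E * u0E) := by rw [← sig_u0]; group
      _ = 1 := by rw [sigE_sq, u0E_sq, one_mul]

variable (hK : Nat.card K0 = 9797760) (hs : sigE ∉ K0)

include hK hs in
theorem card_stK (a : V6) : ((T1 hK hs).orb (T1 hK hs).M a).card * Nat.card ↥(K0 ⊓ fixer a) = 9797760 := by
  rw [← (T1 hK hs).card_M, ← (T1 hK hs).card_orb (T1 hK hs).M a]
  congr 1
  refine Nat.card_congr
    { toFun := fun g => ⟨⟨g.1, le_adj g.2.1⟩, g.2.2, g.2.1⟩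
      invFun := fun g => ⟨g.1.1, g.2.2, g.2.1⟩
      left_inv := fun g => rfl
      right_inv := fun g => rfl }

include hK hs in
theorem card_large {a : V6} (ha : qn a = 0) (ha0 : a ≠ 0) (hA : ¬ Small a) : Nat.card ↥(K0 ⊓ fixer a) = 5760 := by
  have h := card_stK hK hs a
  obtain ⟨I, -, hI, h' | h'⟩ := (T1 hK hs).exists_I le_rfl ha ha0
  · exfalso
    obtain ⟨c, hc, e⟩ := (T1 hK hs).mem_orb.1 ((hI 0).1 h'.1)
    exact hA ⟨(c : GL6)⁻¹, inv_mem hc, by
      show (c : GL6)⁻¹ v2 = a
      rw [show v2 = (c : GL6) a from e.symm, gl_inv_apply]⟩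
  · rw [h'.2] at h
    omega

include hK hs in
theorem card_small_stab {a : V6} (hA : Small a) : Nat.card ↥(K0 ⊓ fixer a) = 25920 := by
  have h := card_stK hK hs v2
  rw [((T1 hK hs).card_small le_rfl).1] at h
  obtain ⟨k, hk, rfl⟩ := hA
  have h2 : Nat.card ↥(K0 ⊓ fixer (k v2)) = Nat.card ↥(K0 ⊓ fixer v2) := by
    rw [← card_map_of_injective (K := K0 ⊓ fixer v2) (f := (MulAut.conj k).toMonoidHom) (MulAut.conj k).injective]
    congr 2
    ext g
    constructor
    · intro hg
      have hg1 : g ∈ K0 := hg.1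
      refine ⟨k⁻¹ * g * k, Subgroup.mem_inf.2 ⟨mul_mem (mul_mem (inv_mem hk) hg1) hk, ?_⟩, by simp [mul_assoc]⟩
      show (k⁻¹ * g * k) v2 = v2
      rw [gl_mul, gl_mul, mem_fixer.1 hg.2, gl_inv_apply]
    · rintro ⟨g, hg, rfl⟩
      have hg1 : g ∈ K0 := hg.1
      refine Subgroup.mem_inf.2 ⟨mul_mem (mul_mem hk hg1) (inv_mem hk), ?_⟩
      show (k * g * k⁻¹) (k v2) = k v2
      rw [gl_mul, gl_mul, gl_inv_apply, mem_fixer.1 hg.2]
  omega

include hK hs in
theorem small_simple : IsSimpleGroup ↥(K0 ⊓ fixer v2) := by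
  set T := T1 hK hs
  have hcen : Subgroup.center (Cfsg.SU 4 F4 2) = ⊥ :=
    Subgroup.card_eq_one.1 (by rw [Unitary.card_center_SU F4_natcard (by norm_num)]; decide)
  haveI : IsSimpleGroup (Cfsg.PSU 4 F4 2) := (ThreeT.PairStab.card_psu_four card_F4).2
  let e : ↥T.lstab ≃* Cfsg.PSU 4 F4 2 := (MulEquiv.ofBijective _ T.toSU_bijective).trans
    ((QuotientGroup.quotientMulEquivOfEq hcen).trans QuotientGroup.quotientBot).symm
  haveI : IsSimpleGroup ↥T.lstab := by
    haveI : Nontrivial ↥T.lstab := e.toEquiv.nontrivial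
    exact IsSimpleGroup.isSimpleGroup_of_surjective e.symm.toMonoidHom e.symm.surjective
  let f : ↥T.lstab →* ↥(K0 ⊓ fixer v2) :=
    { toFun := fun g => ⟨g.1.1, g.2.2, g.2.1⟩
      map_one' := rfl
      map_mul' := fun _ _ => rfl }
  have hf : Function.Surjective f := fun g => ⟨⟨⟨g.1, le_adj g.2.1⟩, g.2.2, g.2.1⟩, rfl⟩
  haveI : Nontrivial ↥(K0 ⊓ fixer v2) := by
    have h := card_small_stab hK hs (a := v2) ⟨1, one_mem _, rfl⟩
    rw [← Finite.one_lt_card_iff_nontrivial, h]
    norm_num
  exact IsSimpleGroup.isSimpleGroup_of_surjective f hf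

end CfsgLib.FiLarge.Chz
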