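import Cfsg.Agent.FiLarge.Chz.TData
import Cfsg.Agent.FiLarge.Chz.StdK
import Cfsg.Agent.FiLarge.Chz.Cands

/-!
A Sylow 2-subgroup of the doubly extended cover, with certified tables.
-/

set_option autoImplicit false
set_option maxRecDepth 100000
set_option maxHeartbeats 1000000
set_option linter.style.haveILetI false

namespace CfsgLib.FiLarge.Chz

open CfsgLib CfsgLib.FiLarge Subgroup
open CfsgLib.FiLarge.Eleven (gn)

/-- The element of the table. -/
def elC (i : ℕ) : List ℕ := elT.getD i []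

/-- The generator of the table. -/
def genC (j : ℕ) : List ℕ := genT.getD j []

/-- Every row of the multiplication table is right. -/
noncomputable def rowsOk : Bool :=
  (elT.zip mulT).all fun p => (genT.zip p.2).all fun q => Nat.blt q.2 512 && Eleven.mul p.1 q.1 == elT.getD q.2 []

/-- Every parent is right. -/
noncomputable def parentsOk : Bool :=
  (List.range 511).all fun i =>
    Nat.ble (parT.getD i (0, 0)).1 i && Nat.blt (parT.getD i (0, 0)).2 6 &&
      Eleven.mul (elC (parT.getD i (0, 0)).1) (genC (parT.getD i (0, 0)).2) == elC (i + 1)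

theorem rows_ok : rowsOk = true := by decide +kernel

theorem parents_ok : parentsOk = true := by decide +kernel

theorem el_facts : elT.length = 512 ∧ mulT.length = 512 ∧ genT.length = 6 ∧ elC 0 = idc ∧
    ∀ r ∈ mulT, r.length = 6 := by decide +kernel

theorem el_nodup : elT.Nodup := by decide +kernel

theorem gen_facts : (∀ j : Fin 4, genC j.val = gn j.val) ∧
    genC 4 = encMap (fun a i => a (Equiv.swap (4 : Fin 6) 5 i)) ∧
    genC 5 = Eleven.mul (encMap fun a i => omp (l45 i) * (a i * a i))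
      (Eleven.mul (Eleven.mul (Eleven.mul (Eleven.mul (gn 3) (gn 8)) (gn 3)) (gn 8)) (gn 7)) ∧
    gn 0 = encMap (fun a i => a (![1, 0, 3, 2, 4, 5] i)) ∧
    gn 1 = encMap (fun a i => a (![2, 1, 0, 3, 5, 4] i)) ∧
    gn 7 = encMap (fun a i => a (![2, 5, 0, 4, 1, 3] i)) ∧
    gn 8 = encMap (dmul ![0, 1, 0, 1, 2, 2]) ∧
    Eleven.auxPerm = encMap (fun a i => a (![0, 1, 2, 5, 3, 4] i)) := by decide +kernel

theorem k0_rep0 : ∃ g ∈ K0, GRep g (gn 0) := by
  refine ⟨permE (mkPerm ![1, 0, 3, 2, 4, 5] ![1, 0, 3, 2, 4, 5] (by decide) (by decide)), perm_mem (by decide), ?_⟩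
  rw [gen_facts.2.2.2.1]
  exact grep_encMap _ fun _ => rfl

theorem k0_rep1 : ∃ g ∈ K0, GRep g (gn 1) := by
  refine ⟨permE (mkPerm ![2, 1, 0, 3, 5, 4] ![2, 1, 0, 3, 5, 4] (by decide) (by decide)), perm_mem (by decide), ?_⟩
  rw [gen_facts.2.2.2.2.1]
  exact grep_encMap _ fun _ => rfl

theorem aux_code : Eleven.mul (Eleven.mul (encMap fun a i => a (![0, 1, 2, 5, 3, 4] i)) (gn 2))
    (encMap fun a i => a (![0, 1, 2, 4, 5, 3] i)) = gn 3 := by decide +kernel

theorem k0_rep3 : ∃ g ∈ K0, GRep g (gn 3) := by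
  refine ⟨permE (mkPerm ![0, 1, 2, 5, 3, 4] ![0, 1, 2, 4, 5, 3] (by decide) (by decide)) * fE *
      permE (mkPerm ![0, 1, 2, 4, 5, 3] ![0, 1, 2, 5, 3, 4] (by decide) (by decide)),
    mul_mem (mul_mem (perm_mem (by decide)) fE_mem) (perm_mem (by decide)), ?_⟩
  have ha : GRep (permE (mkPerm ![0, 1, 2, 5, 3, 4] ![0, 1, 2, 4, 5, 3] (by decide) (by decide)))
      (encMap fun a i => a (![0, 1, 2, 5, 3, 4] i)) := grep_encMap _ fun _ => rfl
  have hb : GRep (permE (mkPerm ![0, 1, 2, 4, 5, 3] ![0, 1, 2, 5, 3, 4] (by decide) (by decide)))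
      (encMap fun a i => a (![0, 1, 2, 4, 5, 3] i)) := grep_encMap _ fun _ => rfl
  have h := (ha.mul fE_rep).mul hb
  rw [aux_code] at h
  exact h

theorem k0_rep7 : ∃ g ∈ K0, GRep g (gn 7) := by
  refine ⟨permE (mkPerm ![2, 5, 0, 4, 1, 3] ![2, 4, 0, 5, 3, 1] (by decide) (by decide)), perm_mem (by decide), ?_⟩
  rw [gen_facts.2.2.2.2.2.1]
  exact grep_encMap _ fun _ => rfl

theorem k0_rep8 : ∃ g ∈ K0, GRep g (gn 8) :=
  ⟨dmulE ![0, 1, 0, 1, 2, 2], dmul_mem (by decide),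
    gen_facts.2.2.2.2.2.2.1 ▸ grep_encMap _ fun _ => rfl⟩

theorem sig_rep : GRep sigE (genC 4) := by
  rw [gen_facts.2.1]
  exact grep_encMap _ fun _ => rfl

theorem syl_rep (j : Fin 4) : ∃ g ∈ K0, GRep g (genC j.val) := by
  rw [gen_facts.1 j]
  fin_cases j
  exacts [k0_rep0, k0_rep1, ⟨fE, fE_mem, fE_rep⟩, k0_rep3]

/-- A generator of the group of order 512. -/
theorem gen_rep : ∀ j, j < 6 → ∃ g ∈ Big, GRep g (genC j) := by
  have hK : K0 ≤ Big := le_sup_left
  intro j hj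
  by_cases h4 : j < 4
  · obtain ⟨g, hg, hr⟩ := syl_rep ⟨j, h4⟩
    exact ⟨g, hK hg, hr⟩
  obtain rfl | rfl : j = 4 ∨ j = 5 := by omega
  · exact ⟨sigE, mem_sup_right (subset_closure (Or.inl rfl)), sig_rep⟩
  · obtain ⟨a, ha, har⟩ := k0_rep3
    obtain ⟨b, hb, hbr⟩ := k0_rep8
    obtain ⟨c, hc, hcr⟩ := k0_rep7
    refine ⟨u0E * (a * b * a * b * c), mul_mem (mem_sup_right (subset_closure (Or.inr rfl)))
      (hK (mul_mem (mul_mem (mul_mem (mul_mem ha hb) ha) hb) hc)), ?_⟩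
    rw [gen_facts.2.2.1]
    exact (grep_encMap _ fun a => funext (u0E_apply a)).mul ((((har.mul hbr).mul har).mul hbr).mul hcr)

theorem el_mul (i j : ℕ) (hi : i < 512) (hj : j < 6) :
    ∃ k, k < 512 ∧ Eleven.mul (elC i) (genC j) = elC k := by
  obtain ⟨hl, hm, hg, -, h6⟩ := el_facts
  have hr := rows_ok
  simp only [rowsOk, List.all_eq_true] at hr
  have hi' : i < (elT.zip mulT).length := by rw [List.length_zip, hl, hm]; exact hi
  have h1 := hr _ (List.getElem_mem hi')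
  have hlen : (mulT[i]'(by omega)).length = 6 := h6 _ (List.getElem_mem _)
  rw [List.getElem_zip] at h1
  have hj' : j < (genT.zip (mulT[i]'(by omega))).length := by rw [List.length_zip, hg, hlen]; exact hj
  have h2 := h1 _ (List.getElem_mem hj')
  simp only [List.getElem_zip, Bool.and_eq_true, beq_iff_eq] at h2
  refine ⟨_, Nat.le_of_ble_eq_true h2.1, ?_⟩
  rw [elC, elC, genC, List.getD_eq_getElem _ _ (by omega), List.getD_eq_getElem _ _ (by omega)]
  exact h2.2

theorem el_parent (i : ℕ) (hi : i < 511) :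
    ∃ p j, p ≤ i ∧ j < 6 ∧ Eleven.mul (elC p) (genC j) = elC (i + 1) := by
  have h := parents_ok
  simp only [parentsOk, List.all_eq_true] at h
  have h1 := h i (List.mem_range.2 hi)
  simp only [Bool.and_eq_true, beq_iff_eq] at h1
  exact ⟨_, _, Nat.le_of_ble_eq_true h1.1.1, Nat.le_of_ble_eq_true h1.1.2, h1.2⟩

theorem el_rep : ∀ i, i < 512 → ∃ g ∈ Big, GRep g (elC i) := by
  intro i
  induction i using Nat.strong_induction_on with
  | _ i ih =>
    intro hi
    match i, ih, hi with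
    | 0, _, _ => exact ⟨1, one_mem _, el_facts.2.2.2.1 ▸ grep_one⟩
    | i + 1, ih, hi =>
      obtain ⟨p, j, hp, hj, e⟩ := el_parent i (by omega)
      obtain ⟨g, hg, hgr⟩ := ih p (by omega) (by omega)
      obtain ⟨x, hx, hxr⟩ := gen_rep j hj
      exact ⟨g * x, mul_mem hg hx, e ▸ hgr.mul hxr⟩

theorem el_closed (i j : ℕ) (hi : i < 512) (hj : j < 512) :
    ∃ k, k < 512 ∧ ∀ g h : GL6, GRep g (elC i) → GRep h (elC j) → GRep (g * h) (elC k) := by
  induction j using Nat.strong_induction_on with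
  | _ j ih =>
    match j, ih, hj with
    | 0, _, _ =>
      refine ⟨i, hi, fun g h hg hh => ?_⟩
      rw [hh.elt (el_facts.2.2.2.1 ▸ grep_one), mul_one]
      exact hg
    | j + 1, ih, hj =>
      obtain ⟨p, q, hp, hq, e⟩ := el_parent j (by omega)
      obtain ⟨k, hk, hk'⟩ := ih p (by omega) (by omega)
      obtain ⟨l, hl, hl'⟩ := el_mul k q hk hq
      refine ⟨l, hl, fun g h hg hh => ?_⟩
      obtain ⟨x, -, hxr⟩ := el_rep p (by omega)
      obtain ⟨y, -, hyr⟩ := gen_rep q hq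
      rw [hh.elt (e ▸ hxr.mul hyr), ← mul_assoc]
      exact hl' ▸ (hk' g x hg hxr).mul hyr

/-- The group of order 512. -/
def T512 : Subgroup GL6 :=
  haveI : Finite GL6 := finiteGL6
  { carrier := {g | ∃ i, i < 512 ∧ GRep g (elC i)}
    one_mem' := ⟨0, by norm_num, el_facts.2.2.2.1 ▸ grep_one⟩
    mul_mem' := fun {g h} ⟨i, hi, hg⟩ ⟨j, hj, hh⟩ => by
      obtain ⟨k, hk, hk'⟩ := el_closed i j hi hj
      exact ⟨k, hk, hk' g h hg hh⟩
    inv_mem' := fun {g} hg => by
      obtain ⟨i, hi, hr⟩ := hg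
      have hp : ∀ n : ℕ, ∃ k, k < 512 ∧ GRep (g ^ n) (elC k) := by
        intro n
        induction n with
        | zero => exact ⟨0, by norm_num, by rw [pow_zero]; exact el_facts.2.2.2.1 ▸ grep_one⟩
        | succ n ih =>
          obtain ⟨k, hk, hkr⟩ := ih
          obtain ⟨l, hl, hl'⟩ := el_closed k i hk hi
          exact ⟨l, hl, by rw [pow_succ]; exact hl' _ _ hkr hr⟩
      obtain ⟨k, hk, hkr⟩ := hp (orderOf g - 1)
      refine ⟨k, hk, ?_⟩
      have e : g⁻¹ = g ^ (orderOf g - 1) := inv_eq_of_mul_eq_one_right (by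
        rw [← pow_succ', Nat.sub_add_cancel (orderOf_pos g), pow_orderOf_eq_one])
      rwa [e] }

theorem mem_T512 {g : GL6} : g ∈ T512 ↔ ∃ i, i < 512 ∧ GRep g (elC i) := Iff.rfl

theorem T512_le : T512 ≤ Big := by
  rintro g ⟨i, hi, hg⟩
  obtain ⟨x, hx, hxr⟩ := el_rep i hi
  rwa [hg.elt hxr]

theorem card_T512 : Nat.card T512 = 512 := by
  classical
  have h : ∀ i : Fin 512, ∃ g : T512, GRep (g : GL6) (elC i.val) := fun i => by
    obtain ⟨x, -, hx⟩ := el_rep i.val i.2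
    exact ⟨⟨x, i.val, i.2, hx⟩, hx⟩
  choose f hf using h
  have hb : Function.Bijective f := by
    refine ⟨fun i j e => ?_, fun g => ?_⟩
    · have h1 := (hf i).code (e ▸ hf j)
      have hl := el_facts.1
      rw [elC, elC, List.getD_eq_getElem _ _ (by omega), List.getD_eq_getElem _ _ (by omega)] at h1
      exact Fin.ext ((List.Nodup.getElem_inj_iff el_nodup).1 h1)
    · obtain ⟨i, hi, hg⟩ := g.2
      exact ⟨⟨i, hi⟩, Subtype.ext ((hf ⟨i, hi⟩).elt hg)⟩
  rw [← Nat.card_eq_of_bijective f hb, Nat.card_fin]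

end CfsgLib.FiLarge.Chz
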