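import Cfsg.Agent.FiLarge.Chz.T512

/-!
Kernel checks on the involutions of the group of order 512 and their centralisers.
-/

set_option autoImplicit false
set_option maxRecDepth 1000000

namespace CfsgLib.FiLarge.Chz

open CfsgLib CfsgLib.FiLarge

/-- The span over two elements, given up beyond a bound. -/
def span2 (cap : ℕ) : List ℕ → List ℕ → List ℕ
  | s, [] => s
  | s, v :: vs =>
    if Nat.blt cap s.length then s else
      if s.contains v then span2 cap s vs else span2 cap (s ++ s.map fun a => Nat.xor a v) vs

/-- The differences of the images and the vectors. -/
noncomputable def diffs (M : List ℕ) (B : List ℕ) : List ℕ := B.map fun a => Nat.xor (Eleven.app M a) a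

/-- The displacement of a list of vectors has at most the given dimension. -/
noncomputable def smallB (k : ℕ) (M B : List ℕ) : Bool := Nat.ble (span2 (2 ^ k) [0] (diffs M B)).length (2 ^ k)

/-- The standard basis. -/
def basisC : List ℕ := [1, 2, 4, 8, 16, 32, 64, 128, 256, 512, 1024, 2048]

/-- The representative. -/
def repC (n : ℕ) : List ℕ := elC (repT.getD n (0, 0, [])).1

/-- The small element of the certificate. -/
def certC (n : ℕ) : List ℕ := elC (repT.getD n (0, 0, [])).2.1

/-- The fixed vectors. -/
def fixC (n : ℕ) : List ℕ := (repT.getD n (0, 0, [])).2.2

/-- The part of the table commuting with a representative. -/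
noncomputable def centC (n : ℕ) : List (List ℕ) := elT.filter fun r => Eleven.mul r (repC n) == Eleven.mul (repC n) r

/-- The bounds on a centraliser. -/
noncomputable def repOk (n : ℕ) : Bool :=
  let t := repC n
  let B := fixC n
  let C := centC n
  let S := C.filter fun r => smallB 1 r B
  (B.all fun a => Nat.blt a 4096 && Nat.beq (Eleven.app t a) a) &&
  (Nat.ble 64 (span2 64 [0] (diffs t basisC)).length || Nat.ble 256 (span2 256 [0] B).length) &&
  Nat.blt (C.filter fun r => smallB 2 r B).length 128 &&
  (!(Nat.ble 64 (span2 64 [0] (diffs t basisC)).length) || Nat.blt S.length 32 ||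
    (Nat.ble S.length 32 && S.contains (certC n) && Eleven.mul (certC n) (certC n) == idc &&
      !(smallB 1 (certC n) basisC) && smallB 2 (certC n) basisC)) &&
  (!(smallB 2 t basisC) || C.all fun r => !(Eleven.mul r r == idc && smallB 1 r B) || r == idc || r == t)

/-- The bound on elements squaring into the group of the representative. -/
noncomputable def sqOk (n : ℕ) : Bool :=
  Nat.ble (elT.filter fun r => Eleven.mul r r == idc || Eleven.mul r r == repC n).length 224

/-- The involutions are in the table. -/
noncomputable def involOk : Bool :=
  (List.range 512).all fun i =>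
    !(Eleven.mul (elC i) (elC i) == idc) || Nat.beq i 0 || invT.any fun p => Nat.beq p.1 i

/-- Every involution is conjugate to its representative and no small one centralises the first four generators. -/
noncomputable def conjOk : Bool :=
  invT.all fun p =>
    Nat.blt p.2.1 28 && Nat.blt p.2.2 512 && Eleven.mul (elC p.2.2) (repC p.2.1) == Eleven.mul (elC p.1) (elC p.2.2) &&
      (!(smallB 2 (elC p.1) basisC) ||
        !((List.range 4).all fun j => Eleven.mul (elC p.1) (genC j) == Eleven.mul (genC j) (elC p.1)))

theorem invol_ok : involOk = true := by decide +kernel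

theorem conj_ok : conjOk = true := by decide +kernel

theorem rep_ok0 : ((List.range' 0 7).all repOk) = true := by decide +kernel

theorem rep_ok1 : ((List.range' 7 7).all repOk) = true := by decide +kernel

theorem rep_ok2 : ((List.range' 14 7).all repOk) = true := by decide +kernel

theorem rep_ok3 : ((List.range' 21 7).all repOk) = true := by decide +kernel

theorem sq_ok : ((List.range' 0 28).all sqOk) = true := by decide +kernel

theorem rep_len : repT.length = 28 ∧ ∀ p ∈ repT, p.1 < 512 ∧ p.1 ≠ 0 := by decide +kernel

end CfsgLib.FiLarge.Chz
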